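import Mathlib
import Cfsg.Agent.Lib.SL2.Dickson.Minimal

/-!
Two-generated soluble subgroups of `PSL₂(F)`.
-/

set_option autoImplicit false
set_option linter.style.haveILetI false
set_option linter.unusedSectionVars false

open Matrix
open scoped MatrixGroups
open CfsgLib.ClassicalLinear (upS upS_coe upS_add)

namespace CfsgLib.OutAut

open CfsgLib.SL2 CfsgLib.SL2.Dickson

section General

variable {G : Type*} [Group G] [Finite G]

theorem sol_of_normal {x y : G} (N : Subgroup G) (hN : ∀ a ∈ N, ∀ b ∈ N, a * b = b * a)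
    (hx : x ∈ N) (hy : ∀ n ∈ N, y * n * y⁻¹ ∈ N) :
    Group.IsSolvable (Subgroup.closure ({x, y} : Set G)) := by
  set K := Subgroup.closure ({x, y} : Set G) with hK
  have hyN : y ∈ Subgroup.normalizer (N : Set G) := by
    have hle : N.map (MulAut.conj y).toMonoidHom ≤ N := by
      rintro _ ⟨n, hn, rfl⟩; exact hy n hn
    have heq : N.map (MulAut.conj y).toMonoidHom = N := Subgroup.eq_of_le_of_card_ge hle
      (le_of_eq (Nat.card_congr (N.equivMapOfInjective _ (MulAut.conj y).injective).toEquiv))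
    rw [Subgroup.mem_normalizer_iff]
    intro n
    refine ⟨fun hn => hy n hn, fun hn => ?_⟩
    rw [← heq] at hn
    obtain ⟨m, hm, he⟩ := hn
    have : m = n := (MulAut.conj y).injective he
    exact this ▸ hm
  have hKN : K ≤ Subgroup.normalizer (N : Set G) := by
    rw [hK, Subgroup.closure_le]
    rintro z (rfl | rfl)
    · exact Subgroup.le_normalizer hx
    · exact hyN
  haveI : (N.subgroupOf K).Normal := Subgroup.normal_subgroupOf_of_le_normalizer hKN
  haveI : Group.IsSolvable (N.subgroupOf K) := Group.isSolvable_of_comm fun a b =>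
    Subtype.ext (Subtype.ext (hN _ (Subgroup.mem_subgroupOf.1 a.2) _ (Subgroup.mem_subgroupOf.1 b.2)))
  have hyK : y ∈ K := Subgroup.subset_closure (by simp)
  have hgen : ∀ k (hk : k ∈ K), ∃ i : ℤ,
      QuotientGroup.mk' (N.subgroupOf K) ⟨k, hk⟩ = (QuotientGroup.mk' (N.subgroupOf K) ⟨y, hyK⟩) ^ i := by
    intro k hk
    induction hk using Subgroup.closure_induction with
    | mem z hz =>
      rcases hz with rfl | rfl
      · exact ⟨0, by rw [zpow_zero]; exact (QuotientGroup.eq_one_iff _).2 (Subgroup.mem_subgroupOf.2 hx)⟩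
      · exact ⟨1, by rw [zpow_one]⟩
    | one => exact ⟨0, by rw [zpow_zero]; exact (QuotientGroup.eq_one_iff _).2 (one_mem _)⟩
    | mul a b ha hb iha ihb =>
      obtain ⟨i, hi⟩ := iha
      obtain ⟨j, hj⟩ := ihb
      exact ⟨i + j, by rw [_root_.zpow_add, ← hi, ← hj, ← map_mul]; rfl⟩
    | inv a ha iha =>
      obtain ⟨i, hi⟩ := iha
      exact ⟨-i, by rw [_root_.zpow_neg, ← hi, ← map_inv]; rfl⟩
  haveI : Group.IsSolvable (K ⧸ N.subgroupOf K) := Group.isSolvable_of_comm fun a b => by
    obtain ⟨⟨a, ha⟩, rfl⟩ := QuotientGroup.mk'_surjective _ a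
    obtain ⟨⟨b, hb⟩, rfl⟩ := QuotientGroup.mk'_surjective _ b
    obtain ⟨i, hi⟩ := hgen a ha
    obtain ⟨j, hj⟩ := hgen b hb
    rw [hi, hj, ← _root_.zpow_add, ← _root_.zpow_add, add_comm]
  exact (Group.isSolvable_iff_subgroup_quotient (N.subgroupOf K)).2 ⟨inferInstance, inferInstance⟩

theorem sol_of_conj_mem {x y : G} (h : y * x * y⁻¹ ∈ Subgroup.zpowers x) :
    Group.IsSolvable (Subgroup.closure ({x, y} : Set G)) := by
  refine sol_of_normal (Subgroup.zpowers x) ?_ (Subgroup.mem_zpowers x) ?_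
  · rintro _ ⟨i, rfl⟩ _ ⟨j, rfl⟩
    exact ((Commute.refl x).zpow_zpow i j).eq
  · rintro _ ⟨i, rfl⟩
    show y * x ^ i * y⁻¹ ∈ _
    rw [← conj_zpow]
    exact zpow_mem h i

theorem sol_of_le {x y : G} {H : Subgroup G} (hH : Group.IsSolvable H) (hx : x ∈ H) (hy : y ∈ H) :
    Group.IsSolvable (Subgroup.closure ({x, y} : Set G)) := by
  have hle : Subgroup.closure ({x, y} : Set G) ≤ H := by
    rw [Subgroup.closure_le]; rintro z (rfl | rfl)
    · exact hx
    · exact hy
  exact Group.isSolvable_of_isSolvable_injective (f := Subgroup.inclusion hle)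
    (Subgroup.inclusion_injective hle)

theorem sol_commute {x y : G} (h : x * y = y * x) :
    Group.IsSolvable (Subgroup.closure ({x, y} : Set G)) :=
  sol_of_conj_mem (by rw [← h, mul_inv_cancel_right]; exact Subgroup.mem_zpowers x)

theorem closure_mul_eq (x y : G) :
    Subgroup.closure ({x, x * y} : Set G) = Subgroup.closure ({x, y} : Set G) := by
  refine le_antisymm ((Subgroup.closure_le _).2 ?_) ((Subgroup.closure_le _).2 ?_)
  · rintro z (rfl | rfl)
    · exact Subgroup.subset_closure (by simp)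
    · exact mul_mem (Subgroup.subset_closure (by simp)) (Subgroup.subset_closure (by simp))
  · rintro z (rfl | rfl)
    · exact Subgroup.subset_closure (by simp)
    · have h1 : x ∈ Subgroup.closure ({x, x * z} : Set G) := Subgroup.subset_closure (by simp)
      have h2 : x * z ∈ Subgroup.closure ({x, x * z} : Set G) := Subgroup.subset_closure (by simp)
      simpa using mul_mem (inv_mem h1) h2

/-- Two involutions generate a dihedral group. -/
theorem sol_involutions {x y : G} (hx : x ^ 2 = 1) (hy : y ^ 2 = 1) :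
    Group.IsSolvable (Subgroup.closure ({x, y} : Set G)) := by
  have hxi : x⁻¹ = x := inv_eq_of_mul_eq_one_right (by rw [← sq, hx])
  have hyi : y⁻¹ = y := inv_eq_of_mul_eq_one_right (by rw [← sq, hy])
  have h : Subgroup.closure ({x, y} : Set G) = Subgroup.closure ({x * y, x} : Set G) := by
    rw [Set.pair_comm (x * y) x, closure_mul_eq]
  rw [h]
  refine sol_of_conj_mem ?_
  have : x * (x * y) * x⁻¹ = (x * y)⁻¹ := by
    rw [_root_.mul_inv_rev, hxi, hyi, ← mul_assoc, ← sq, hx, one_mul]
  rw [this]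
  exact inv_mem (Subgroup.mem_zpowers _)

/-- The relations of `A₄`. -/
theorem sol_tetrahedral {x y : G} (hx : x ^ 2 = 1) (hy : y ^ 3 = 1) (hxy : (x * y) ^ 3 = 1) :
    Group.IsSolvable (Subgroup.closure ({x, y} : Set G)) := by
  set b := y * x * y⁻¹ with hb
  set c := y * b * y⁻¹ with hc
  have hxx : x * x = 1 := by rw [← sq, hx]
  have hbb : b * b = 1 := by rw [hb, show y * x * y⁻¹ * (y * x * y⁻¹) = y * (x * x) * y⁻¹ by group,
    hxx, mul_one, mul_inv_cancel]
  have hcc : c * c = 1 := by rw [hc, show y * b * y⁻¹ * (y * b * y⁻¹) = y * (b * b) * y⁻¹ by group,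
    hbb, mul_one, mul_inv_cancel]
  have hprod : x * b * c = 1 := by
    have hy2 : y⁻¹ * y⁻¹ = y := by
      rw [← _root_.mul_inv_rev, inv_eq_iff_mul_eq_one, ← hy]; simp only [pow_succ, pow_zero, one_mul]
    calc x * b * c = x * y * x * y * x * (y⁻¹ * y⁻¹) := by rw [hc, hb]; group
      _ = (x * y) ^ 3 := by rw [hy2]; simp only [pow_succ, pow_zero, one_mul]; group
      _ = 1 := hxy
  have hcbx : c = b * x := by
    have h1 : x * b = c⁻¹ := eq_inv_of_mul_eq_one_left hprod
    rw [inv_eq_of_mul_eq_one_right hcc] at h1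
    have h2 : c * c = x * b * c := by rw [h1]
    calc c = b * x * (x * b * c) := by
          rw [show b * x * (x * b * c) = b * (x * x) * b * c by group, hxx, mul_one, hbb, one_mul]
      _ = b * x := by rw [hprod, mul_one]
  have hcomm : x * b = b * x := by
    rw [← hcbx]
    have h1 : x * b = c⁻¹ := eq_inv_of_mul_eq_one_left hprod
    rw [h1, inv_eq_of_mul_eq_one_right hcc]
  have hgen : ∀ a ∈ ({x, b} : Set G), ∀ a' ∈ ({x, b} : Set G), a * a' = a' * a := by
    rintro a (rfl | rfl) a' (rfl | rfl)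
    · rfl
    · exact hcomm
    · exact hcomm.symm
    · rfl
  refine sol_of_normal (Subgroup.closure ({x, b} : Set G)) ?_ (Subgroup.subset_closure (by simp)) ?_
  · intro a ha a' ha'
    have hle : Subgroup.closure ({x, b} : Set G) ≤
        Subgroup.centralizer (Subgroup.closure ({x, b} : Set G) : Set G) := by
      rw [Subgroup.centralizer_closure, Subgroup.closure_le]
      intro z hz
      exact Subgroup.mem_centralizer_iff.2 fun w hw => hgen w hw z hz
    exact Subgroup.mem_centralizer_iff.1 (hle ha') a ha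
  · intro n hn
    induction hn using Subgroup.closure_induction with
    | mem z hz =>
      rcases hz with rfl | rfl
      · exact Subgroup.subset_closure (by simp [hb])
      · rw [← hc, hcbx]
        exact mul_mem (Subgroup.subset_closure (by simp)) (Subgroup.subset_closure (by simp))
    | one => simp
    | mul a a' ha ha' iha iha' =>
      rw [show y * (a * a') * y⁻¹ = (y * a * y⁻¹) * (y * a' * y⁻¹) by group]
      exact mul_mem iha iha'
    | inv a ha iha =>
      rw [show y * a⁻¹ * y⁻¹ = (y * a * y⁻¹)⁻¹ by group]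
      exact inv_mem iha

end General

variable {F : Type*} [Field F]

local notation "SL₂F" => Matrix.SpecialLinearGroup (Fin 2) F
local notation "PSL₂F" => Matrix.ProjectiveSpecialLinearGroup (Fin 2) F
local notation "M₂" => Matrix (Fin 2) (Fin 2) F

/-- `X` and `Y` generate a soluble subgroup of `PSL₂`. -/
def SolPair (X Y : Matrix.SpecialLinearGroup (Fin 2) F) : Prop :=
  Group.IsSolvable (Subgroup.closure ({proj X, proj Y} : Set (Matrix.ProjectiveSpecialLinearGroup (Fin 2) F)))

theorem proj_eq_one_iff {h : SL₂F} : proj h = 1 ↔ h ∈ Subgroup.center SL₂F :=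
  QuotientGroup.eq_one_iff h

theorem proj_eq_iff {g h : SL₂F} : proj g = proj h ↔ g = h ∨ g = -h := by
  rw [← inv_mul_eq_one, ← map_inv, ← map_mul, proj_eq_one_iff, CfsgLib.SL2.mem_center_iff,
    inv_mul_eq_one, inv_mul_eq_iff_eq_mul]
  refine or_congr Iff.rfl ?_
  rw [mul_neg, mul_one]
  constructor <;> rintro rfl <;> simp

theorem tr_eq_zero_of_conj_neg {g h : SL₂F} (h2 : (2 : F) ≠ 0) (e : h * g * h⁻¹ = -g) : tr g = 0 := by
  have h1 := tr_conj g h
  rw [e, tr_neg] at h1
  have : (2 : F) * tr g = 0 := by linear_combination -h1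
  exact (mul_eq_zero.1 this).resolve_left h2

theorem tr_sq (g : SL₂F) : tr (g ^ 2) = tr g ^ 2 - 2 := by
  have hd := det_eq g
  rw [sq g]
  simp [tr, Matrix.mul_apply]
  linear_combination (2 : F) * (-hd)

theorem tr_cube (g : SL₂F) : tr (g ^ 3) = tr g ^ 3 - 3 * tr g := by
  have hd := det_eq g
  rw [pow_succ, sq g]
  simp [tr, Matrix.mul_apply]
  linear_combination (-3 * ((g : M₂) 0 0 + (g : M₂) 1 1)) * hd

theorem tr_one : tr (1 : SL₂F) = 2 := by simp [tr]; norm_num

/-- A common fixed point of the projective line. -/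
theorem borel_of_upS {x : F} (hx : x ≠ 0) {ε h : SL₂F} (hε : ε ∈ Subgroup.center SL₂F)
    (hc : h * (ε * upS x) * h⁻¹ ∈ Subgroup.centralizer ({ε * upS x} : Set SL₂F)) : h ∈ borel F := by
  obtain ⟨η, hη, z, hz⟩ := (mem_centralizer_upS hε hx _).1 hc
  have hb : h * (ε * upS x) * h⁻¹ ∈ borel F := by
    rw [hz]
    exact mul_mem (mem_borel.2 ((mem_center_iff_isScalarMat η).1 hη).2.1) (upS_mem_borel z)
  rw [mem_borel] at hb ⊢
  obtain ⟨c, hc'⟩ := (isScalarMat_iff _).1 ((mem_center_iff_isScalarMat ε).1 hε)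
  have hc0 : c ≠ 0 := by
    intro h0
    have := ε.det_coe
    rw [hc', h0, zero_smul] at this
    simp at this
  rw [Matrix.SpecialLinearGroup.coe_mul, Matrix.SpecialLinearGroup.coe_mul, coe_inv_eq,
    Matrix.SpecialLinearGroup.coe_mul, hc', upS_coe] at hb
  simp [Matrix.mul_apply, tr] at hb
  have h1 : c * x * ((h : M₂) 1 0 * (h : M₂) 1 0) = 0 := by linear_combination -hb
  rcases mul_eq_zero.1 h1 with h2 | h2
  · exact absurd h2 (mul_ne_zero hc0 hx)
  · exact mul_self_eq_zero.1 h2

variable [Finite F]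

/-- The three ways of generating a soluble subgroup. -/
theorem solPair_cases {X Y : SL₂F} (hX : X ∉ Subgroup.center SL₂F) (h : SolPair X Y) :
    (∃ u : SL₂F, u * X * u⁻¹ ∈ borel F ∧ u * Y * u⁻¹ ∈ borel F) ∨
    (∃ g : SL₂F, tr g ^ 2 ≠ 4 ∧ (X * g * X⁻¹ = g ∨ X * g * X⁻¹ = g⁻¹) ∧
      (Y * g * Y⁻¹ = g ∨ Y * g * Y⁻¹ = g⁻¹)) ∨
    ((2 : F) ≠ 0 ∧ ∀ k ∈ Subgroup.closure ({X, Y} : Set SL₂F), ∃ s : F, (s = 0 ∨ s = 2 ∨ s = -2) ∧
      (tr k = s ∨ tr k ^ 2 - 2 = s ∨ tr k ^ 3 - 3 * tr k = s)) := by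
  classical
  set K := Subgroup.closure ({proj X, proj Y} : Set PSL₂F) with hK
  haveI hKs : Group.IsSolvable K := h
  have hXK : proj X ∈ K := Subgroup.subset_closure (by simp)
  have hYK : proj Y ∈ K := Subgroup.subset_closure (by simp)
  haveI : Nontrivial K := ⟨⟨⟨proj X, hXK⟩, 1, fun e => hX (proj_eq_one_iff.1 (congrArg Subtype.val e))⟩⟩
  obtain ⟨A, hAn, hAne, hAc⟩ : ∃ A : Subgroup K, A.Normal ∧ A ≠ ⊥ ∧
      ∀ a ∈ A, ∀ b ∈ A, a * b = b * a := by
    have hex := (Group.isSolvable_def K).1 hKs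
    have hpos : Nat.find hex ≠ 0 := by
      intro h0
      have h1 := Nat.find_spec hex
      rw [h0, derivedSeries_zero] at h1
      exact bot_ne_top h1.symm
    obtain ⟨n, hn⟩ := Nat.exists_eq_succ_of_ne_zero hpos
    refine ⟨derivedSeries K n, derivedSeries_normal K n, Nat.find_min hex (by omega), ?_⟩
    have h1 := Nat.find_spec hex
    rw [hn, derivedSeries_succ, Subgroup.commutator_eq_bot_iff_le_centralizer] at h1
    intro a ha b hb
    exact Subgroup.mem_centralizer_iff.1 (h1 hb) a ha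
  let S : Set SL₂F := {a | ∃ ha : proj a ∈ K, (⟨proj a, ha⟩ : K) ∈ A}
  obtain ⟨a, haS, ha⟩ : ∃ a ∈ S, a ∉ Subgroup.center SL₂F := by
    obtain ⟨⟨⟨z, hz⟩, hzA⟩, hz1'⟩ := Subgroup.ne_bot_iff_exists_ne_one.1 hAne
    have hz1 : (⟨z, hz⟩ : K) ≠ 1 := fun e => hz1' (Subtype.ext e)
    obtain ⟨a, rfl⟩ := proj_surjective z
    exact ⟨a, ⟨hz, hzA⟩, fun hc => hz1 (Subtype.ext (proj_eq_one_iff.2 hc))⟩
  have hconj : ∀ k, proj k ∈ K → ∀ c ∈ S, k * c * k⁻¹ ∈ S := by
    rintro k hk c ⟨hc, hcA⟩
    have := hAn.conj_mem _ hcA ⟨proj k, hk⟩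
    refine ⟨by rw [map_mul, map_mul, map_inv]; exact mul_mem (mul_mem hk hc) (inv_mem hk), ?_⟩
    convert this using 1
    exact Subtype.ext (by simp)
  have hScomm : ∀ c ∈ S, ∀ d ∈ S, c * d = d * c ∨ c * d = -(d * c) := by
    rintro c ⟨hc, hcA⟩ d ⟨hd, hdA⟩
    refine proj_eq_iff.1 ?_
    have := congrArg Subtype.val (hAc _ hcA _ hdA)
    rw [map_mul, map_mul]
    exact this
  have hgen : ∀ k ∈ Subgroup.closure ({X, Y} : Set SL₂F), proj k ∈ K := by
    intro k hk
    induction hk using Subgroup.closure_induction with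
    | mem z hz => rcases hz with rfl | rfl <;> assumption
    | one => rw [map_one]; exact one_mem _
    | mul a b _ _ iha ihb => rw [map_mul]; exact mul_mem iha ihb
    | inv a _ iha => rw [map_inv]; exact inv_mem iha
  by_cases hall : ∀ c ∈ S, ∀ d ∈ S, c * d = d * c
  · have hcen : ∀ k, proj k ∈ K → k * a * k⁻¹ ∈ Subgroup.centralizer ({a} : Set SL₂F) := fun k hk =>
      Subgroup.mem_centralizer_singleton_iff.2 (hall _ (hconj k hk a haS) a haS)
    by_cases ht : tr a ^ 2 = 4
    · left
      obtain ⟨u, ε, x, hε, hu⟩ := trichotomy ht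
      have hx : x ≠ 0 := by
        rintro rfl
        rw [upS_zero, mul_one] at hu
        apply ha
        have := (Subgroup.center SL₂F).normal_of_characteristic.conj_mem _ hε u⁻¹
        rw [← hu] at this
        simpa [mul_assoc] using this
      have key : ∀ k, proj k ∈ K → u * k * u⁻¹ ∈ borel F := by
        intro k hk
        refine borel_of_upS hx hε ?_
        rw [← hu, Subgroup.mem_centralizer_singleton_iff]
        have := Subgroup.mem_centralizer_singleton_iff.1 (hcen k hk)
        calc u * k * u⁻¹ * (u * a * u⁻¹) * (u * k * u⁻¹)⁻¹ * (u * a * u⁻¹)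
            = u * (k * a * k⁻¹ * a) * u⁻¹ := by group
          _ = u * (a * (k * a * k⁻¹)) * u⁻¹ := by rw [this]
          _ = _ := by group
      exact ⟨u, key X hXK, key Y hYK⟩
    · right; left
      exact ⟨a, ht, eq_or_eq_inv ht (hcen X hXK) (tr_conj a X),
        eq_or_eq_inv ht (hcen Y hYK) (tr_conj a Y)⟩
  right; right
  push Not at hall
  obtain ⟨a, haS, b, hbS, hab⟩ := hall
  have hab' : a * b = -(b * a) := (hScomm a haS b hbS).resolve_left hab
  have h2 : (2 : F) ≠ 0 := by
    intro h2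
    apply hab
    rw [hab']
    apply Subtype.ext
    have : (-1 : F) = 1 := by linear_combination -h2
    rw [Matrix.SpecialLinearGroup.coe_neg, ← neg_one_smul F, this, one_smul]
  refine ⟨h2, fun k hk => ?_⟩
  have haZ : a ∉ Subgroup.center SL₂F := fun hc => hab (Subgroup.mem_center_iff.1 hc b).symm
  have hbZ : b ∉ Subgroup.center SL₂F := fun hc => hab (Subgroup.mem_center_iff.1 hc a)
  have hba : b * a * b⁻¹ = -a := by
    rw [mul_inv_eq_iff_eq_mul, neg_mul, hab', neg_neg]
  have habc : a * b * a⁻¹ = -b := by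
    rw [mul_inv_eq_iff_eq_mul, neg_mul, hab']
  have hta : tr a = 0 := tr_eq_zero_of_conj_neg h2 hba
  have htb : tr b = 0 := tr_eq_zero_of_conj_neg h2 habc
  have htab : tr (a * b) = 0 := by
    refine tr_eq_zero_of_conj_neg h2 (h := a) ?_
    rw [show a * (a * b) * a⁻¹ = a * (a * b * a⁻¹) by group, habc, mul_neg]
  -- an element projectively centralising both is in the four-group
  have hfix : ∀ c : SL₂F, (c * a * c⁻¹ = a ∨ c * a * c⁻¹ = -a) →
      (c * b * c⁻¹ = b ∨ c * b * c⁻¹ = -b) → tr c = 0 ∨ tr c = 2 ∨ tr c = -2 := by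
    intro c hca hcb
    have hcomb : ∀ d : SL₂F, d * a * d⁻¹ = a → d * b * d⁻¹ = b → d ∈ Subgroup.center SL₂F := by
      intro d hda hdb
      by_contra hd
      have hdC : d ∈ Subgroup.centralizer ({a} : Set SL₂F) :=
        Subgroup.mem_centralizer_singleton_iff.2 (mul_inv_eq_iff_eq_mul.1 hda)
      have hbC : b ∈ Subgroup.centralizer ({d} : Set SL₂F) :=
        Subgroup.mem_centralizer_singleton_iff.2 (mul_inv_eq_iff_eq_mul.1 hdb).symm
      rw [centralizer_eq_of_mem haZ hdC hd] at hbC
      exact hab (Subgroup.mem_centralizer_singleton_iff.1 hbC).symm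
    have hfin : ∀ m : SL₂F, tr m = 0 ∨ m = 1 → m⁻¹ * c ∈ Subgroup.center SL₂F →
        tr c = 0 ∨ tr c = 2 ∨ tr c = -2 := by
      intro m hm hmc
      rcases (CfsgLib.SL2.mem_center_iff _).1 hmc with e | e <;> rw [inv_mul_eq_iff_eq_mul] at e <;>
        rw [e] <;> rcases hm with hm | rfl
      · left; rw [mul_one, hm]
      · right; left; rw [mul_one, tr_one]
      · left; rw [mul_neg, mul_one, tr_neg, hm, neg_zero]
      · right; right; rw [one_mul, tr_neg, tr_one]
    have hii : ∀ m d : SL₂F, m⁻¹ * c * d * (m⁻¹ * c)⁻¹ = m⁻¹ * (c * d * c⁻¹) * m := fun m d => by group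
    have ea : a⁻¹ * a * a = a := by group
    have eb : b⁻¹ * b * b = b := by group
    have eba : b⁻¹ * a * b = -a := by
      rw [mul_assoc, hab', mul_neg, inv_mul_cancel_left]
    have eab : a⁻¹ * b * a = -b := by
      rw [mul_assoc, show b * a = -(a * b) by rw [hab', neg_neg], mul_neg, inv_mul_cancel_left]
    rcases hca with hca | hca <;> rcases hcb with hcb | hcb
    · exact hfin 1 (Or.inr rfl) (hcomb _ (by simpa using hca) (by simpa using hcb))
    · refine hfin a (Or.inl hta) (hcomb _ ?_ ?_)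
      · rw [hii, hca, ea]
      · rw [hii, hcb, mul_neg, neg_mul, eab, neg_neg]
    · refine hfin b (Or.inl htb) (hcomb _ ?_ ?_)
      · rw [hii, hca, mul_neg, neg_mul, eba, neg_neg]
      · rw [hii, hcb, eb]
    · refine hfin (a * b) (Or.inl htab) (hcomb _ ?_ ?_)
      · rw [hii, hca, show (a * b)⁻¹ * -a * (a * b) = b⁻¹ * (a⁻¹ * -a * a) * b by group, mul_neg,
          neg_mul, ea, mul_neg, neg_mul, eba, neg_neg]
      · rw [hii, hcb, show (a * b)⁻¹ * -b * (a * b) = b⁻¹ * (a⁻¹ * -b * a) * b by group, mul_neg a⁻¹,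
          neg_mul, eab, neg_neg, eb]
  -- the three projective images
  have hlines : ∀ c ∈ S, c ∉ Subgroup.center SL₂F →
      proj c = proj a ∨ proj c = proj b ∨ proj c = proj (a * b) := by
    intro c hcS hc
    have hca : c * a * c⁻¹ = a ∨ c * a * c⁻¹ = -a :=
      (hScomm c hcS a haS).imp (fun e => by rw [e, mul_inv_cancel_right])
        (fun e => by rw [e, neg_mul, mul_inv_cancel_right])
    have hcb : c * b * c⁻¹ = b ∨ c * b * c⁻¹ = -b :=
      (hScomm c hcS b hbS).imp (fun e => by rw [e, mul_inv_cancel_right])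
        (fun e => by rw [e, neg_mul, mul_inv_cancel_right])
    rcases hca with hca | hca
    · left
      have hcC : c ∈ Subgroup.centralizer ({a} : Set SL₂F) :=
        Subgroup.mem_centralizer_singleton_iff.2 (mul_inv_eq_iff_eq_mul.1 hca)
      rcases hfix c (Or.inl hca) hcb with h0 | h0
      · obtain ⟨α, β, hαβ⟩ := (mem_centralizer_singleton_iff' haZ c).1 hcC
        have htr : tr c = 2 * α + β * tr a := by simp [tr, hαβ]; ring
        rw [h0, hta, mul_zero, add_zero] at htr
        have hα : α = 0 := (mul_eq_zero.1 htr.symm).resolve_left h2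
        have hdet := det_lin a α β
        rw [← hαβ, c.det_coe, hα, hta] at hdet
        have hβ : β * β = 1 := by linear_combination -hdet
        refine proj_eq_iff.2 ((mul_self_eq_one_iff.1 hβ).imp (fun e => Subtype.ext ?_) fun e => Subtype.ext ?_)
        · rw [hαβ, hα, e, zero_smul, zero_add, one_smul]
        · rw [hαβ, hα, e, zero_smul, zero_add, neg_one_smul, Matrix.SpecialLinearGroup.coe_neg]
      · exfalso
        have ht4 : tr c ^ 2 = 4 := by rcases h0 with e | e <;> rw [e] <;> ring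
        have hca' := centralizer_eq_of_mem haZ hcC hc
        obtain ⟨α, β, hαβ⟩ := (mem_centralizer_singleton_iff' haZ c).1 hcC
        have htr : tr c = 2 * α + β * tr a := by simp [tr, hαβ]; ring
        rw [hta, mul_zero, add_zero] at htr
        have hdet := det_lin a α β
        rw [← hαβ, c.det_coe, hta] at hdet
        rw [htr] at ht4
        have hβ : (2 * β) ^ 2 = 0 := by linear_combination -4 * hdet - ht4
        have hβ0 : β = 0 := (mul_eq_zero.1 ((pow_eq_zero_iff two_ne_zero).1 hβ)).resolve_left h2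
        exact hc ((mem_center_iff_isScalarMat c).2 ((isScalarMat_iff _).2 ⟨α, by
          rw [hαβ, hβ0, zero_smul, add_zero]⟩))
    · right
      rcases hcb with hcb | hcb
      · left
        have hcC : c ∈ Subgroup.centralizer ({b} : Set SL₂F) :=
          Subgroup.mem_centralizer_singleton_iff.2 (mul_inv_eq_iff_eq_mul.1 hcb)
        obtain ⟨α, β, hαβ⟩ := (mem_centralizer_singleton_iff' hbZ c).1 hcC
        have htc : tr c = 0 := tr_eq_zero_of_conj_neg h2 (h := a) (by
          have e : c * a = -(a * c) := by rw [mul_inv_eq_iff_eq_mul.1 hca, neg_mul]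
          rw [mul_inv_eq_iff_eq_mul, neg_mul, e, neg_neg])
        have htr : tr c = 2 * α + β * tr b := by simp [tr, hαβ]; ring
        rw [htc, htb, mul_zero, add_zero] at htr
        have hα : α = 0 := (mul_eq_zero.1 htr.symm).resolve_left h2
        have hdet := det_lin b α β
        rw [← hαβ, c.det_coe, hα, htb] at hdet
        have hβ : β * β = 1 := by linear_combination -hdet
        refine proj_eq_iff.2 ((mul_self_eq_one_iff.1 hβ).imp (fun e => Subtype.ext ?_) fun e => Subtype.ext ?_)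
        · rw [hαβ, hα, e, zero_smul, zero_add, one_smul]
        · rw [hαβ, hα, e, zero_smul, zero_add, neg_one_smul, Matrix.SpecialLinearGroup.coe_neg]
      · right
        have hd : (a * b)⁻¹ * c ∈ Subgroup.center SL₂F := by
          by_contra hd
          have e1 : ∀ d : SL₂F, (a * b)⁻¹ * c * d * ((a * b)⁻¹ * c)⁻¹ =
              b⁻¹ * (a⁻¹ * (c * d * c⁻¹) * a) * b := fun d => by group
          have eba : b⁻¹ * a * b = -a := by
            rw [mul_assoc, hab', mul_neg, inv_mul_cancel_left]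
          have eab : a⁻¹ * b * a = -b := by
            rw [mul_assoc, show b * a = -(a * b) by rw [hab', neg_neg], mul_neg, inv_mul_cancel_left]
          have hA : (a * b)⁻¹ * c * a * ((a * b)⁻¹ * c)⁻¹ = a := by
            rw [e1, hca, mul_neg, neg_mul, show a⁻¹ * a * a = a by group, mul_neg, neg_mul, eba, neg_neg]
          have hB : (a * b)⁻¹ * c * b * ((a * b)⁻¹ * c)⁻¹ = b := by
            rw [e1, hcb, mul_neg, neg_mul, eab, neg_neg, show b⁻¹ * b * b = b by group]
          have hdC : (a * b)⁻¹ * c ∈ Subgroup.centralizer ({a} : Set SL₂F) :=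
            Subgroup.mem_centralizer_singleton_iff.2 (mul_inv_eq_iff_eq_mul.1 hA)
          have hbC : b ∈ Subgroup.centralizer ({(a * b)⁻¹ * c} : Set SL₂F) :=
            Subgroup.mem_centralizer_singleton_iff.2 (mul_inv_eq_iff_eq_mul.1 hB).symm
          rw [centralizer_eq_of_mem haZ hdC hd] at hbC
          exact hab (Subgroup.mem_centralizer_singleton_iff.1 hbC).symm
        rw [← proj_eq_one_iff, map_mul, map_inv, inv_mul_eq_one] at hd
        exact hd.symm
  have hkK := hgen k hk
  have himg : ∀ c ∈ S, c ∉ Subgroup.center SL₂F → ∀ j, proj j ∈ K →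
      proj (j * c * j⁻¹) = proj a ∨ proj (j * c * j⁻¹) = proj b ∨ proj (j * c * j⁻¹) = proj (a * b) := by
    intro c hcS hc j hj
    refine hlines _ (hconj j hj c hcS) fun hcc => hc ?_
    have := (Subgroup.center SL₂F).normal_of_characteristic.conj_mem _ hcc j⁻¹
    simpa [mul_assoc] using this
  -- `k` to a power at most three fixes both
  have hpow : ∀ i : ℕ, proj (k ^ i * a * (k ^ i)⁻¹) = proj a →
      proj (k ^ i * b * (k ^ i)⁻¹) = proj b → tr (k ^ i) = 0 ∨ tr (k ^ i) = 2 ∨ tr (k ^ i) = -2 :=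
    fun i hia hib => hfix _ (proj_eq_iff.1 hia) (proj_eq_iff.1 hib)
  set φ := MulAut.conj (proj k) with hφ
  have hφa : ∀ (i : ℕ) (c : SL₂F), proj (k ^ i * c * (k ^ i)⁻¹) = (φ ^ i) (proj c) := fun i c => by
    rw [hφ, ← map_pow, MulAut.conj_apply, map_mul, map_mul, map_inv, map_pow]
  have hneq : proj a ≠ proj b := by
    intro e
    rcases proj_eq_iff.1 e with e | e <;> apply hab <;> rw [e] <;> simp
  have hPa : φ (proj a) = proj a ∨ φ (proj a) = proj b ∨ φ (proj a) = proj a * proj b := by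
    have := himg a haS haZ k hkK
    rw [hφ, MulAut.conj_apply, ← map_mul proj a b, ← map_inv, ← map_mul, ← map_mul]
    exact this
  have hPb : φ (proj b) = proj a ∨ φ (proj b) = proj b ∨ φ (proj b) = proj a * proj b := by
    have := himg b hbS hbZ k hkK
    rw [hφ, MulAut.conj_apply, ← map_mul proj a b, ← map_inv, ← map_mul, ← map_mul]
    exact this
  have hcom : proj b * proj a = proj a * proj b := by
    rw [← map_mul, ← map_mul, proj_eq_iff]; right; rw [hab', neg_neg]
  have haa : proj a * proj a = 1 := by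
    rw [← map_mul, proj_eq_one_iff, CfsgLib.SL2.mem_center_iff]
    right
    apply Subtype.ext
    rw [Matrix.SpecialLinearGroup.coe_mul, mul_self_eq a, hta]
    simp
  have hbb : proj b * proj b = 1 := by
    rw [← map_mul, proj_eq_one_iff, CfsgLib.SL2.mem_center_iff]
    right
    apply Subtype.ext
    rw [Matrix.SpecialLinearGroup.coe_mul, mul_self_eq b, htb]
    simp
  have h3cases : ∃ i : ℕ, (i = 1 ∨ i = 2 ∨ i = 3) ∧ (φ ^ i) (proj a) = proj a ∧ (φ ^ i) (proj b) = proj b := by
    have p2 : ∀ c, (φ ^ 2) c = φ (φ c) := fun c => by rw [sq]; rfl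
    have p3 : ∀ c, (φ ^ 3) c = φ (φ (φ c)) := fun c => by rw [pow_succ, sq]; rfl
    have hne : φ (proj a) ≠ φ (proj b) := fun e => hneq (φ.injective e)
    rcases hPa with ea | ea | ea <;> rcases hPb with eb | eb | eb
    · exact absurd (ea.trans eb.symm) hne
    · exact ⟨1, by simp, by rw [pow_one, ea], by rw [pow_one, eb]⟩
    · refine ⟨2, by simp, by rw [p2, ea, ea], ?_⟩
      rw [p2, eb, map_mul, ea, eb, ← mul_assoc, haa, one_mul]
    · refine ⟨2, by simp, by rw [p2, ea, eb], by rw [p2, eb, ea]⟩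
    · exact absurd (ea.trans eb.symm) hne
    · refine ⟨3, by simp, ?_, ?_⟩
      · rw [p3, ea, eb, map_mul, ea, eb, ← hcom, ← mul_assoc, hbb, one_mul]
      · rw [p3, eb, map_mul, ea, eb, ← hcom, ← mul_assoc, hbb, one_mul, ea]
    · refine ⟨3, by simp, ?_, ?_⟩
      · rw [p3, ea, map_mul, ea, eb, mul_assoc, hcom, ← mul_assoc, haa, one_mul, eb]
      · rw [p3, eb, ea, map_mul, ea, eb, mul_assoc, hcom, ← mul_assoc, haa, one_mul]
    · refine ⟨2, by simp, ?_, by rw [p2, eb, eb]⟩
      rw [p2, ea, map_mul, ea, eb, mul_assoc, hbb, mul_one]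
    · exact absurd (ea.trans eb.symm) hne
  obtain ⟨i, hi, hia, hib⟩ := h3cases
  have hres := hpow i (by rw [hφa, hia]) (by rw [hφa, hib])
  refine ⟨tr (k ^ i), hres, ?_⟩
  rcases hi with rfl | rfl | rfl
  · left; rw [pow_one]
  · right; left; rw [tr_sq]
  · right; right; rw [tr_cube]

end CfsgLib.OutAut
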