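import Mathlib
import Cfsg.Agent.Lib.TwoFusion.StrongEmbed

/-!
Groups with a noncyclic nonnormal Sylow 2-subgroup in which the centraliser of every involution is
abelian: the strongly embedded normalizer, its action on the centraliser of the Sylow subgroup, and
the elements inverted by involutions outside it.
-/

set_option autoImplicit false
set_option linter.style.haveILetI false
set_option linter.unusedSectionVars false

namespace CfsgLib.OutAut

open CfsgLib.TwoFusion CfsgLib.Involutions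

/-- Noncyclic nonnormal Sylow 2-subgroup and abelian centralisers of involutions. -/
structure CAHyp {G : Type*} [Group G] (P : Sylow 2 G) : Prop where
  notCyclic : ¬ IsCyclic (P : Subgroup G)
  notNormal : ¬ (P : Subgroup G).Normal
  comm : ∀ t : G, orderOf t = 2 → IsMulCommutative (Subgroup.centralizer ({t} : Set G))

/-- The normalizer of the Sylow subgroup. -/
abbrev nP {G : Type*} [Group G] (P : Sylow 2 G) : Subgroup G :=
  Subgroup.normalizer ((P : Subgroup G) : Set G)

/-- The centraliser of the Sylow subgroup. -/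
abbrev cP {G : Type*} [Group G] (P : Sylow 2 G) : Subgroup G :=
  Subgroup.centralizer ((P : Subgroup G) : Set G)

/-- The base point. -/
abbrev basePt {G : Type*} [Group G] (P : Sylow 2 G) : G ⧸ nP P := QuotientGroup.mk 1

/-- The number of involutions of the normalizer. -/
noncomputable def invCount {G : Type*} [Group G] (P : Sylow 2 G) : ℕ :=
  Nat.card {t : G // orderOf t = 2 ∧ t ∈ nP P}

/-- The elements of the two-point stabiliser inverted by `u`. -/
def invSet {G : Type*} [Group G] (P : Sylow 2 G) (u : G) : Set G :=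
  {x | x ∈ nP P ⊓ (nP P).map (MulAut.conj u).toMonoidHom ∧ u * x * u⁻¹ = x⁻¹}

theorem mem_of_twoPow {G : Type*} [Group G] [Finite G] (P : Sylow 2 G) {g : G} {k : ℕ}
    (hg : orderOf g = 2 ^ k) (h : g ∈ nP P) : g ∈ (P : Subgroup G) := by
  haveI : Fact (Nat.Prime 2) := ⟨Nat.prime_two⟩
  have h1 : IsPGroup 2 (Subgroup.zpowers g) := IsPGroup.of_card (n := k) (by rw [Nat.card_zpowers, hg])
  have h2 : IsPGroup 2 (Subgroup.zpowers g ⊔ (P : Subgroup G) : Subgroup G) :=
    h1.to_sup_of_normal_right' P.isPGroup' (Subgroup.zpowers_le.2 h)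
  rw [← P.is_maximal' h2 le_sup_right]
  exact Subgroup.mem_sup_left (Subgroup.mem_zpowers g)

/-- An abelian `2`-group with at most one involution is cyclic. -/
theorem isCyclic_of_one_involution {A : Type*} [CommGroup A] [Finite A] (hA : IsPGroup 2 A)
    (h : ∀ s t : A, s * s = 1 → t * t = 1 → s ≠ 1 → t ≠ 1 → s = t) : IsCyclic A := by
  classical
  haveI : Fact (Nat.Prime 2) := ⟨Nat.prime_two⟩
  haveI := Fintype.ofFinite A
  have hroot : (Finset.univ.filter fun x : A => x * x = 1).card ≤ 2 := by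
    by_contra hlt
    obtain ⟨a, b, c, ha, hb, hc, hab, hac, hbc⟩ := Finset.two_lt_card_iff.1 (Nat.lt_of_not_le hlt)
    simp at ha hb hc
    by_cases ha1 : a = 1
    · exact hbc (h b c hb hc (fun e => hab (ha1.trans e.symm)) (fun e => hac (ha1.trans e.symm)))
    by_cases hb1 : b = 1
    · exact hac (h a c ha hc ha1 (fun e => hbc (hb1.trans e.symm)))
    exact hab (h a b ha hb ha1 hb1)
  have key : ∀ k, (Finset.univ.filter fun a : A => a ^ 2 ^ k = 1).card ≤ 2 ^ k := by
    intro k
    induction k with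
    | zero => exact Finset.card_le_one.2 fun a ha b hb => by simp at ha hb; rw [ha, hb]
    | succ k ih =>
      have hfib : ∀ b ∈ (Finset.univ.filter fun a : A => a ^ 2 ^ k = 1),
          ((Finset.univ.filter fun a : A => a ^ 2 ^ (k + 1) = 1).filter fun a => a * a = b).card ≤ 2 := by
        intro b _
        rcases Finset.eq_empty_or_nonempty
          ((Finset.univ.filter fun a : A => a ^ 2 ^ (k + 1) = 1).filter fun a => a * a = b) with he | ⟨a₀, ha₀⟩
        · rw [he]; simp
        refine le_trans (Finset.card_le_card_of_injOn (t := Finset.univ.filter fun x : A => x * x = 1)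
          (fun a => a * a₀⁻¹) ?_ fun a _ a' _ h => mul_right_cancel h) hroot
        intro a ha
        simp only [Finset.coe_filter, Finset.mem_filter, Set.mem_ofPred_eq] at ha ha₀
        simp only [Finset.coe_filter, Finset.mem_univ, true_and, Set.mem_ofPred_eq]
        rw [mul_mul_mul_comm, ha.2, ← mul_inv_rev, ha₀.2, mul_inv_cancel]
      calc (Finset.univ.filter fun a : A => a ^ 2 ^ (k + 1) = 1).card
          ≤ 2 * (Finset.univ.filter fun a : A => a ^ 2 ^ k = 1).card := by
            refine Finset.card_le_mul_card_image_of_maps_to (f := fun a => a * a) ?_ 2 hfib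
            intro a ha
            simp only [Finset.mem_filter, Finset.mem_univ, true_and] at ha ⊢
            rw [← sq, ← pow_mul, ← pow_succ']
            exact ha
        _ ≤ 2 * 2 ^ k := Nat.mul_le_mul_left _ ih
        _ = 2 ^ (k + 1) := by rw [pow_succ']
  refine isCyclic_of_card_pow_eq_one_le fun n hn => ?_
  obtain ⟨m, hm⟩ := IsPGroup.iff_card.1 hA
  obtain ⟨i, -, hi⟩ := (Nat.dvd_prime_pow Nat.prime_two).1
    (show n.gcd (2 ^ m) ∣ 2 ^ m from Nat.gcd_dvd_right _ _)
  calc (Finset.univ.filter fun a : A => a ^ n = 1).card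
      ≤ (Finset.univ.filter fun a : A => a ^ 2 ^ i = 1).card := by
        refine Finset.card_le_card fun a ha => ?_
        simp only [Finset.mem_filter, Finset.mem_univ, true_and] at ha ⊢
        rw [← hi]
        exact pow_gcd_eq_one.2 ⟨ha, by rw [← hm]; exact pow_card_eq_one'⟩
    _ ≤ 2 ^ i := key i
    _ ≤ n := by rw [← hi]; exact Nat.gcd_le_left _ hn

namespace CAHyp

variable {G : Type*} [Group G] [Finite G] {P : Sylow 2 G} (E : CAHyp P)
include E

theorem nontrivial : Nontrivial (P : Subgroup G) := by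
  by_contra h
  rw [not_nontrivial_iff_subsingleton] at h
  exact E.notCyclic inferInstance

theorem exists_involution_le : ∃ z : G, orderOf z = 2 ∧ z ∈ (P : Subgroup G) ∧
    (P : Subgroup G) ≤ Subgroup.centralizer ({z} : Set G) := by
  haveI : Fact (Nat.Prime 2) := ⟨Nat.prime_two⟩
  haveI := E.nontrivial
  haveI := P.isPGroup'.center_nontrivial
  obtain ⟨z, hz⟩ := exists_prime_orderOf_dvd_card' (G := Subgroup.center (P : Subgroup G)) 2
    ((P.isPGroup'.to_subgroup _).card_eq_or_dvd.resolve_left Finite.one_lt_card.ne')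
  refine ⟨((z : (P : Subgroup G)) : G), by rw [Subgroup.orderOf_coe, Subgroup.orderOf_coe, hz],
    SetLike.coe_mem _, fun t ht => ?_⟩
  rw [Subgroup.mem_centralizer_singleton_iff]
  exact congrArg Subtype.val (Subgroup.mem_center_iff.mp z.2 ⟨t, ht⟩)

theorem commute_of_cent {t a b : G} (ht : orderOf t = 2) (ha : a * t = t * a) (hb : b * t = t * b) :
    a * b = b * a := by
  haveI := E.comm t ht
  exact congrArg Subtype.val (mul_comm'
    (⟨a, Subgroup.mem_centralizer_singleton_iff.2 ha⟩ : Subgroup.centralizer ({t} : Set G))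
    ⟨b, Subgroup.mem_centralizer_singleton_iff.2 hb⟩)

theorem P_comm {a b : G} (ha : a ∈ (P : Subgroup G)) (hb : b ∈ (P : Subgroup G)) : a * b = b * a := by
  obtain ⟨z, hz, -, hle⟩ := E.exists_involution_le
  exact E.commute_of_cent hz (Subgroup.mem_centralizer_singleton_iff.1 (hle ha))
    (Subgroup.mem_centralizer_singleton_iff.1 (hle hb))

theorem P_le_cP : (P : Subgroup G) ≤ cP P := fun _ ha =>
  Subgroup.mem_centralizer_iff.2 fun _ hb => E.P_comm hb ha

theorem cent_eq {t : G} (ht : orderOf t = 2) (htP : t ∈ (P : Subgroup G)) :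
    Subgroup.centralizer ({t} : Set G) = cP P := by
  refine le_antisymm (fun c hc => Subgroup.mem_centralizer_iff.2 fun p hp => ?_)
    (Subgroup.centralizer_le (Set.singleton_subset_iff.2 htP))
  exact E.commute_of_cent ht (E.P_comm hp htP) (Subgroup.mem_centralizer_singleton_iff.1 hc)

theorem mem_cP {t c : G} (ht : orderOf t = 2) (htP : t ∈ (P : Subgroup G)) (h : c * t = t * c) :
    c ∈ cP P := by
  rw [← E.cent_eq ht htP]
  exact Subgroup.mem_centralizer_singleton_iff.2 h

theorem cP_comm {a b : G} (ha : a ∈ cP P) (hb : b ∈ cP P) : a * b = b * a := by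
  obtain ⟨z, hz, hzP, -⟩ := E.exists_involution_le
  exact E.commute_of_cent hz (Subgroup.mem_centralizer_iff.1 ha z hzP).symm
    (Subgroup.mem_centralizer_iff.1 hb z hzP).symm

omit E in
theorem cP_le_nP : cP P ≤ nP P := Subgroup.centralizer_le_normalizer _

theorem mem_P_of_involution {t : G} (ht : orderOf t = 2) (h : t ∈ nP P) : t ∈ (P : Subgroup G) :=
  mem_of_twoPow P (k := 1) (by rw [ht, pow_one]) h

omit E in
theorem cP_conj {a h : G} (ha : a ∈ cP P) (hh : h ∈ nP P) : h * a * h⁻¹ ∈ cP P := by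
  refine Subgroup.mem_centralizer_iff.2 fun p hp => ?_
  have h1 : h⁻¹ * p * h ∈ (P : Subgroup G) := by
    have := (Subgroup.mem_normalizer_iff.1 (inv_mem hh) p).1 hp
    simpa using this
  have := Subgroup.mem_centralizer_iff.1 ha _ h1
  calc p * (h * a * h⁻¹) = h * (h⁻¹ * p * h * a) * h⁻¹ := by group
    _ = h * (a * (h⁻¹ * p * h)) * h⁻¹ := by rw [this]
    _ = h * a * h⁻¹ * p := by group

theorem stronglyEmbedded : Cfsg.IsStronglyEmbedded (nP P) := by
  haveI : Fact (Nat.Prime 2) := ⟨Nat.prime_two⟩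
  refine ⟨fun h => E.notNormal (Subgroup.normalizer_eq_top_iff.1 h), ?_, fun g hg => ?_⟩
  · obtain ⟨z, hz, hzP, -⟩ := E.exists_involution_le
    have := orderOf_dvd_natCard (⟨z, Subgroup.le_normalizer hzP⟩ : nP P)
    rw [← Subgroup.orderOf_coe, hz] at this
    exact even_iff_two_dvd.2 this
  · by_contra hodd
    obtain ⟨t, ht⟩ := exists_prime_orderOf_dvd_card'
      (G := (nP P ⊓ (nP P).map (MulAut.conj g).toMonoidHom : Subgroup G)) 2
      (even_iff_two_dvd.1 (Nat.not_odd_iff_even.1 hodd))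
    obtain ⟨t, ⟨htH, htg⟩⟩ := t
    rw [← Subgroup.orderOf_coe] at ht
    obtain ⟨t', ht', htt⟩ := htg
    have htt' : g * t' * g⁻¹ = t := htt
    have ht'2 : orderOf t' = 2 := by
      show orderOf t' = 2
      have ht2 : orderOf t = 2 := ht
      rw [← ht2, ← htt']
      exact (orderOf_injective (MulAut.conj g).toMonoidHom (MulAut.conj g).injective t').symm
    have htP := E.mem_P_of_involution ht htH
    have ht'P := E.mem_P_of_involution ht'2 ht'
    apply hg
    have hsub : ∀ p ∈ (P : Subgroup G), g * p * g⁻¹ ∈ (P : Subgroup G) := by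
      intro p hp
      have hc : g * p * g⁻¹ ∈ cP P := E.mem_cP ht htP (by
        calc g * p * g⁻¹ * t = g * (p * t') * g⁻¹ := by rw [← htt']; group
          _ = g * (t' * p) * g⁻¹ := by rw [E.P_comm hp ht'P]
          _ = t * (g * p * g⁻¹) := by rw [← htt']; group)
      obtain ⟨k, hk⟩ := IsPGroup.iff_orderOf.1 P.isPGroup' ⟨p, hp⟩
      refine mem_of_twoPow P (k := k) ?_ (cP_le_nP hc)
      rw [← hk, ← Subgroup.orderOf_coe]
      exact orderOf_injective (MulAut.conj g).toMonoidHom (MulAut.conj g).injective p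
    refine Subgroup.mem_normalizer_iff.2 fun p => ⟨hsub p, fun hp => ?_⟩
    have hmap : (P : Subgroup G).map (MulAut.conj g).toMonoidHom = P := by
      refine Subgroup.eq_of_le_of_card_ge ?_ (le_of_eq ?_)
      · rintro _ ⟨x, hx, rfl⟩; exact hsub x hx
      · exact Nat.card_congr ((P : Subgroup G).equivMapOfInjective _ (MulAut.conj g).injective).toEquiv
    rw [← hmap] at hp
    obtain ⟨x, hx, hxp⟩ := hp
    exact (MulAut.conj g).injective hxp ▸ hx

theorem odd_twoPoint {u : G} (hu : u ∉ nP P) {x : G}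
    (hx : x ∈ nP P ⊓ (nP P).map (MulAut.conj u).toMonoidHom) : Odd (orderOf x) := by
  have h := E.stronglyEmbedded.2.2 u hu
  rw [← show orderOf (⟨x, hx⟩ : (nP P ⊓ (nP P).map (MulAut.conj u).toMonoidHom : Subgroup G)) =
    orderOf x from (Subgroup.orderOf_coe _).symm]
  exact Odd.of_dvd_nat h (orderOf_dvd_natCard _)

theorem three_le_invCount : 3 ≤ invCount P := by
  classical
  haveI : Fact (Nat.Prime 2) := ⟨Nat.prime_two⟩
  obtain ⟨s, hs2, hs⟩ : ∃ s t : (P : Subgroup G), s * s = 1 ∧ t * t = 1 ∧ s ≠ 1 ∧ t ≠ 1 ∧ s ≠ t := by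
    by_contra h
    apply E.notCyclic
    letI : CommGroup (P : Subgroup G) :=
      { (inferInstance : Group (P : Subgroup G)) with
        mul_comm := fun a b => Subtype.ext (E.P_comm a.2 b.2) }
    refine isCyclic_of_one_involution (A := (P : Subgroup G)) P.isPGroup' fun a b ha hb ha1 hb1 => ?_
    by_contra hne
    exact h ⟨a, b, ha, hb, ha1, hb1, hne⟩
  obtain ⟨h1, h2, h3, h4, h5⟩ := hs
  have hst' : s * hs2 ≠ 1 := fun h => h5 (by
    calc s = s * (hs2 * hs2) := by rw [h2, mul_one]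
      _ = hs2 := by rw [← mul_assoc, h, one_mul])
  have hord : ∀ a : (P : Subgroup G), a * a = 1 → a ≠ 1 → orderOf (a : G) = 2 := fun a ha ha1 => by
    rw [Subgroup.orderOf_coe]; exact orderOf_eq_prime (by rw [sq, ha]) ha1
  have hsq : s * hs2 * (s * hs2) = 1 := by
    have hc : hs2 * s = s * hs2 := Subtype.ext (E.P_comm hs2.2 s.2)
    calc s * hs2 * (s * hs2) = s * (hs2 * s) * hs2 := by group
      _ = s * (s * hs2) * hs2 := by rw [hc]
      _ = (s * s) * (hs2 * hs2) := by group
      _ = 1 := by rw [h1, h2, one_mul]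
  haveI := Fintype.ofFinite {t : G // orderOf t = 2 ∧ t ∈ nP P}
  let f : Fin 3 → {t : G // orderOf t = 2 ∧ t ∈ nP P} :=
    ![⟨s, hord s h1 h3, Subgroup.le_normalizer s.2⟩, ⟨hs2, hord hs2 h2 h4, Subgroup.le_normalizer hs2.2⟩,
      ⟨(s * hs2 : (P : Subgroup G)), hord _ hsq hst', Subgroup.le_normalizer (s * hs2).2⟩]
  have hinj : Function.Injective f := by
    intro i j hij
    have h' : ((f i : G)) = (f j : G) := congrArg Subtype.val hij
    fin_cases i <;> fin_cases j <;> simp [f] at h' ⊢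
    all_goals first
      | exact h5 h'
      | exact h5 h'.symm
      | exact h3 h'
      | exact h4 h'
  have := Nat.card_le_card_of_injective f hinj
  rw [Nat.card_fin] at this
  exact this

/-- An element of odd order of `C(P)` inverted by an involution is trivial. -/
theorem eq_one_of_inverted {a v : G} (ha : a ∈ cP P) (hodd : Odd (orderOf a)) (hv : orderOf v = 2)
    (hinv : v * a * v⁻¹ = a⁻¹) : a = 1 := by
  haveI : Fact (Nat.Prime 2) := ⟨Nat.prime_two⟩
  set C := Subgroup.centralizer ({a} : Set G) with hC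
  have hPC : (P : Subgroup G) ≤ C := fun p hp =>
    Subgroup.mem_centralizer_singleton_iff.2 (Subgroup.mem_centralizer_iff.1 ha p hp)
  have hvv : v * v = 1 := by rw [← sq, ← hv]; exact pow_orderOf_eq_one v
  have hnorm : ∀ c ∈ C, v * c * v⁻¹ ∈ C := by
    intro c hc
    rw [hC, Subgroup.mem_centralizer_singleton_iff] at hc ⊢
    have hai : v * a⁻¹ * v⁻¹ = a := by
      rw [show v * a⁻¹ * v⁻¹ = (v * a * v⁻¹)⁻¹ by group, hinv, inv_inv]
    have hc' : c * a⁻¹ = a⁻¹ * c := (Commute.inv_right (show Commute c a from hc)).eq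
    calc v * c * v⁻¹ * a = v * c * v⁻¹ * (v * a⁻¹ * v⁻¹) := by rw [hai]
      _ = v * (c * a⁻¹) * v⁻¹ := by group
      _ = v * (a⁻¹ * c) * v⁻¹ := by rw [hc']
      _ = (v * a⁻¹ * v⁻¹) * (v * c * v⁻¹) := by group
      _ = a * (v * c * v⁻¹) := by rw [hai]
  -- the two Sylow subgroups `P` and `vPv⁻¹` of `C`
  let Q : Sylow 2 C := P.subtype hPC
  have hQle : ((v • P : Sylow 2 G) : Subgroup G) ≤ C := by
    intro x hx
    obtain ⟨p, hp, hpx⟩ : ∃ p ∈ (P : Subgroup G), v * p * v⁻¹ = x := hx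
    rw [← hpx]; exact hnorm p (hPC hp)
  let Q' : Sylow 2 C := (v • P).subtype hQle
  obtain ⟨c, hc⟩ := MulAction.exists_smul_eq C Q' Q
  have hg : (c : G) * v ∈ nP P := by
    refine Sylow.smul_eq_iff_mem_normalizer.1 ?_
    rw [mul_smul]
    apply Sylow.ext
    have hmem : ∀ x : C, x ∈ (Q' : Sylow 2 C) ↔ (x : G) ∈ (v • P : Sylow 2 G) := fun x => Iff.rfl
    ext x
    constructor
    · intro hx
      obtain ⟨y, hy, hyx⟩ : ∃ y ∈ ((v • P : Sylow 2 G) : Subgroup G), (c : G) * y * (c : G)⁻¹ = x := hx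
      have h1 : c * ⟨y, hQle hy⟩ * c⁻¹ ∈ (c • Q' : Sylow 2 C) :=
        Subgroup.smul_mem_pointwise_smul (⟨y, hQle hy⟩ : C) (MulAut.conj c) _ ((hmem _).2 hy)
      rw [hc] at h1
      rw [← hyx]; exact h1
    · intro hx
      have h1 : (⟨x, hPC hx⟩ : C) ∈ (c • Q' : Sylow 2 C) := by rw [hc]; exact hx
      obtain ⟨y, hy, hyx⟩ : ∃ y ∈ (Q' : Subgroup C), c * y * c⁻¹ = ⟨x, hPC hx⟩ := h1
      exact ⟨(y : G), (hmem y).1 hy, congrArg Subtype.val hyx⟩
  -- `c v` has even order unless `v ∈ C`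
  have hsq : (c : G) * v * ((c : G) * v) ∈ C := by
    have : (c : G) * v * ((c : G) * v) = (c : G) * (v * (c : G) * v⁻¹) * (v * v) := by group
    rw [this, hvv, mul_one]; exact mul_mem c.2 (hnorm _ c.2)
  obtain ⟨k, m, hm, hord⟩ := Nat.exists_eq_two_pow_mul_odd (orderOf_pos ((c : G) * v)).ne'
  have hpow : orderOf (((c : G) * v) ^ m) = 2 ^ k := by
    rw [orderOf_pow' _ (by rcases hm with ⟨i, rfl⟩; omega), hord, Nat.gcd_mul_left_left,
      Nat.mul_div_cancel _ (by rcases hm with ⟨i, rfl⟩; omega)]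
  have hgm : ((c : G) * v) ^ m ∈ C := hPC (mem_of_twoPow P hpow (pow_mem hg m))
  obtain ⟨i, rfl⟩ := hm
  have hg1 : (c : G) * v ∈ C := by
    have : ((c : G) * v) ^ (2 * i + 1) = ((c : G) * v * ((c : G) * v)) ^ i * ((c : G) * v) := by
      rw [pow_succ, pow_mul, sq]
    rw [this] at hgm
    have := mul_mem (inv_mem (pow_mem hsq i)) hgm
    rwa [inv_mul_cancel_left] at this
  have hvC : v ∈ C := by
    have := mul_mem (inv_mem c.2) hg1
    rwa [inv_mul_cancel_left] at this
  rw [hC, Subgroup.mem_centralizer_singleton_iff] at hvC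
  rw [hvC, mul_inv_cancel_right] at hinv
  have h2 : a ^ 2 = 1 := by rw [sq]; nth_rewrite 2 [hinv]; exact mul_inv_cancel a
  rcases (Nat.dvd_prime Nat.prime_two).1 (orderOf_dvd_of_pow_eq_one h2) with h | h
  · exact orderOf_eq_one_iff.1 h
  · rw [h] at hodd; exact absurd hodd (by decide)

theorem smul_basePt_eq_iff {g : G} : g • basePt P = basePt P ↔ g ∈ nP P := by
  rw [CfsgLib.TwoFusion.smul_mk_eq_iff]; simp

theorem mem_twoPoint {u d : G} :
    d ∈ nP P ⊓ (nP P).map (MulAut.conj u).toMonoidHom ↔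
      d • basePt P = basePt P ∧ d • u • basePt P = u • basePt P := by
  rw [Subgroup.mem_inf, E.smul_basePt_eq_iff, MulAction.Quotient.smul_mk, smul_eq_mul, mul_one,
    CfsgLib.TwoFusion.smul_mk_eq_iff, Subgroup.mem_map_equiv, MulAut.conj_symm_apply]

theorem swapCount {x y : G ⧸ nP P} (hxy : x ≠ y) :
    Nat.card {i : G // orderOf i = 2 ∧ i • x = y} = invCount P := by
  refine (CfsgLib.TwoFusion.card_swappingInvolutions E.stronglyEmbedded hxy).trans
    ((CfsgLib.TwoFusion.card_fixingInvolutions_eq x (basePt P)).trans ?_)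
  refine Nat.card_congr (Equiv.subtypeEquivRight fun t => ?_)
  show orderOf t = 2 ∧ t • basePt P = basePt P ↔ _
  rw [E.smul_basePt_eq_iff]

theorem exists_swapper {x y : G ⧸ nP P} (hxy : x ≠ y) : ∃ v : G, orderOf v = 2 ∧ v • x = y := by
  have h := E.swapCount hxy
  obtain ⟨v, hv⟩ : Nonempty {i : G // orderOf i = 2 ∧ i • x = y} := by
    refine (Nat.card_pos_iff.1 ?_).1
    rw [h]
    have := E.three_le_invCount
    omega
  exact ⟨v, hv⟩

theorem card_invSet {u : G} (hu : orderOf u = 2) (huH : u ∉ nP P) :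
    Nat.card (invSet P u) = invCount P := by
  have hne : basePt P ≠ u • basePt P := fun h => huH (E.smul_basePt_eq_iff.1 h.symm)
  rw [← E.swapCount hne]
  have huu : u * u = 1 := by rw [← sq, ← hu]; exact pow_orderOf_eq_one u
  have hui : u⁻¹ = u := inv_eq_of_mul_eq_one_right huu
  refine Nat.card_congr
    { toFun := fun x => ⟨u * x.1, ?_, ?_⟩
      invFun := fun v => ⟨u * v.1, ?_, ?_⟩
      left_inv := fun x => Subtype.ext (show u * (u * x.1) = x.1 by rw [← mul_assoc, huu, one_mul])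
      right_inv := fun v => Subtype.ext (show u * (u * v.1) = v.1 by rw [← mul_assoc, huu, one_mul]) }
  · refine orderOf_eq_prime ?_ ?_
    · calc (u * x.1) ^ 2 = (u * x.1 * u⁻¹) * (u * u) * x.1 := by rw [sq]; group
        _ = 1 := by rw [huu, x.2.2, mul_one, inv_mul_cancel]
    · intro h
      have hxu : x.1 = u := (inv_eq_of_mul_eq_one_right h).symm.trans hui
      exact huH (hxu ▸ x.2.1.1)
  · rw [mul_smul, (E.mem_twoPoint.1 x.2.1).1]
  · obtain ⟨v, hv2, hv⟩ := v
    have hvb := smul_swap hv2 hv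
    exact E.mem_twoPoint.2 ⟨by rw [mul_smul, hv, ← mul_smul, huu, one_smul],
      by rw [mul_smul, hvb]⟩
  · have hvi : v.1⁻¹ = v.1 := inv_eq_of_mul_eq_one_right
      (by have := pow_orderOf_eq_one v.1; rwa [v.2.1, sq] at this)
    rw [mul_inv_rev, hui, hvi]
    calc u * (u * v.1) * u = (u * u) * (v.1 * u) := by group
      _ = v.1 * u := by rw [huu, one_mul]

theorem invSet_inj {u : G} (hu : orderOf u = 2) (huH : u ∉ nP P) {x x' : G} (hx : x ∈ invSet P u)
    (hx' : x' ∈ invSet P u) (h : x⁻¹ * x' ∈ cP P) : x = x' := by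
  have huu : u * u = 1 := by rw [← sq, ← hu]; exact pow_orderOf_eq_one u
  have hui : u⁻¹ = u := inv_eq_of_mul_eq_one_right huu
  have hv : orderOf (u * x) = 2 := by
    refine orderOf_eq_prime ?_ ?_
    · calc (u * x) ^ 2 = (u * x * u⁻¹) * (u * u) * x := by rw [sq]; group
        _ = 1 := by rw [huu, hx.2, mul_one, inv_mul_cancel]
    · intro h
      have hxu : x = u := by rw [← hui]; exact (inv_eq_of_mul_eq_one_right h).symm
      exact huH (hxu ▸ hx.1.1)
  have h1 : x⁻¹ * x' = 1 := by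
    refine E.eq_one_of_inverted h (E.odd_twoPoint huH (mul_mem (inv_mem hx.1) hx'.1)) hv ?_
    calc u * x * (x⁻¹ * x') * (u * x)⁻¹ = (u * x' * u⁻¹) * (u * x⁻¹ * u⁻¹) := by group
      _ = x'⁻¹ * x := by rw [hx'.2, show u * x⁻¹ * u⁻¹ = (u * x * u⁻¹)⁻¹ by group, hx.2, inv_inv]
      _ = (x⁻¹ * x')⁻¹ := by group
  exact inv_mul_eq_one.1 h1

theorem card_factor {u : G} (hu : orderOf u = 2) (huH : u ∉ nP P) :
    Nat.card (nP P ⧸ (cP P).subgroupOf (nP P)) = invCount P ∧
      ∀ h ∈ nP P, ∃ k ∈ invSet P u, k⁻¹ * h ∈ cP P := by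
  obtain ⟨z, hz, hzP, -⟩ := E.exists_involution_le
  set Q := nP P ⧸ (cP P).subgroupOf (nP P)
  let f : invSet P u → Q := fun x => QuotientGroup.mk (⟨x.1, x.2.1.1⟩ : nP P)
  have hf : Function.Injective f := fun x y hxy =>
    Subtype.ext (E.invSet_inj hu huH x.2 y.2
      ((QuotientGroup.eq (s := (cP P).subgroupOf (nP P))).1 hxy))
  let g : Q → {t : G // orderOf t = 2 ∧ t ∈ nP P} := fun q =>
    ⟨(q.out : G) * z * (q.out : G)⁻¹,
      (orderOf_injective (MulAut.conj (q.out : G)).toMonoidHom (MulAut.conj (q.out : G)).injective z).trans hz,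
      mul_mem (mul_mem q.out.2 (Subgroup.le_normalizer hzP)) (inv_mem q.out.2)⟩
  have hg : Function.Injective g := by
    intro a b hab
    have h : (a.out : G) * z * (a.out : G)⁻¹ = (b.out : G) * z * (b.out : G)⁻¹ :=
      congrArg Subtype.val hab
    rw [← a.out_eq, ← b.out_eq]
    refine QuotientGroup.eq.2 (E.mem_cP hz hzP ?_)
    show (a.out : G)⁻¹ * (b.out : G) * z = z * ((a.out : G)⁻¹ * (b.out : G))
    calc (a.out : G)⁻¹ * (b.out : G) * z
        = (a.out : G)⁻¹ * ((b.out : G) * z * (b.out : G)⁻¹) * (b.out : G) := by group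
      _ = z * ((a.out : G)⁻¹ * (b.out : G)) := by rw [← h]; group
  have h1 := Nat.card_le_card_of_injective f hf
  rw [E.card_invSet hu huH] at h1
  have h2 : Nat.card Q ≤ invCount P := Nat.card_le_card_of_injective g hg
  refine ⟨le_antisymm h2 h1, fun h hh => ?_⟩
  have hsurj : Function.Surjective f := ((Nat.bijective_iff_injective_and_card f).2
    ⟨hf, by rw [E.card_invSet hu huH]; omega⟩).2
  obtain ⟨k, hk⟩ := hsurj (QuotientGroup.mk ⟨h, hh⟩)
  exact ⟨k.1, k.2, (QuotientGroup.eq (s := (cP P).subgroupOf (nP P))).1 hk⟩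

theorem exists_outside : ∃ u : G, orderOf u = 2 ∧ u ∉ nP P := by
  obtain ⟨g, hg⟩ : ∃ g : G, g ∉ nP P := by
    by_contra h
    push Not at h
    exact E.stronglyEmbedded.1 (eq_top_iff.2 fun g _ => h g)
  obtain ⟨v, hv, hv'⟩ := E.exists_swapper (x := basePt P) (y := g • basePt P)
    fun h => hg (E.smul_basePt_eq_iff.1 h.symm)
  exact ⟨v, hv, fun h => hg (E.smul_basePt_eq_iff.1 (hv'.symm.trans (E.smul_basePt_eq_iff.2 h)))⟩

theorem card_nP : Nat.card (nP P) = invCount P * Nat.card (cP P) := by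
  obtain ⟨u, hu, huH⟩ := E.exists_outside
  rw [Subgroup.card_eq_card_quotient_mul_card_subgroup ((cP P).subgroupOf (nP P)),
    (E.card_factor hu huH).1, Nat.card_congr (Subgroup.subgroupOfEquivOfLe cP_le_nP).toEquiv]

theorem sq_mem_imp_mem {u : G} (hu : orderOf u = 2) (huH : u ∉ nP P) {k : G} (hk : k ∈ invSet P u)
    (h : k * k ∈ cP P) : k ∈ cP P := by
  obtain ⟨m, hm⟩ := E.odd_twoPoint huH hk.1
  have h1 : k = (k * k) ^ (m + 1) := by
    rw [← sq, ← pow_mul, show 2 * (m + 1) = (2 * m + 1) + 1 by ring, ← hm, pow_succ, pow_orderOf_eq_one,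
      one_mul]
  rw [h1]; exact pow_mem h _

theorem eq_one_of_invSet_cP {u : G} (hu : orderOf u = 2) (huH : u ∉ nP P) {k : G} (hk : k ∈ invSet P u)
    (h : k ∈ cP P) : k = 1 := by
  refine (E.invSet_inj hu huH (x := 1) ⟨one_mem _, by simp⟩ hk ?_).symm
  simpa using h

theorem eq_one_of_free {u : G} (hu : orderOf u = 2) (huH : u ∉ nP P)
    (hfree : ∀ d ∈ nP P ⊓ (nP P).map (MulAut.conj u).toMonoidHom, d ∈ cP P → d = 1)
    {d : G} (hd : d ∈ nP P ⊓ (nP P).map (MulAut.conj u).toMonoidHom) :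
    u * d * u⁻¹ = d⁻¹ := by
  obtain ⟨k, hk, hkd⟩ := (E.card_factor hu huH).2 d hd.1
  have := hfree _ (mul_mem (inv_mem hk.1) hd) hkd
  rw [← inv_mul_eq_one.1 this]
  exact hk.2

end CAHyp

end CfsgLib.OutAut
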