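import Mathlib
import Cfsg.Agent.Lib.SL2.Sylow
import Cfsg.Agent.Lib.SL2.Normalizer
import Cfsg.Agent.Lib.SL2.Dickson.Main
import Cfsg.Agent.Lib.ClassicalLinear.Simple

/-!
`SL₂` in characteristic two: centralisers of involutions, abelian subgroups of odd order, Sylow
subgroups.
-/

set_option autoImplicit false
set_option linter.style.haveILetI false
set_option linter.unusedSectionVars false

open scoped MatrixGroups
open CfsgLib.ClassicalLinear (upS upS_coe upS_add)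

namespace CfsgLib.OutAut.SLEven

open CfsgLib.SL2

variable {F : Type*} [Field F] [Finite F] (h2 : (2 : F) = 0)

include h2

theorem four_eq_zero : (4 : F) = 0 := by linear_combination (2 : F) * h2

theorem upS_sq (x : F) : upS x * upS x = (1 : SL(2, F)) := by
  rw [← upS_add, show x + x = 0 by linear_combination x * h2, upS_zero]

theorem sq_eq_one_of_tr {g : SL(2, F)} (ht : tr g ^ 2 = 4) : g * g = 1 := by
  obtain ⟨k, ε, x, hε, hk⟩ := trichotomy ht
  rw [center_eq_bot_of_two h2, Subgroup.mem_bot] at hε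
  rw [hε, one_mul] at hk
  calc g * g = k⁻¹ * ((k * g * k⁻¹) * (k * g * k⁻¹)) * k := by group
    _ = 1 := by rw [hk, upS_sq h2]; group

theorem tr_ne_of_odd {g : SL(2, F)} (hg : g ≠ 1) (hodd : Odd (orderOf g)) : tr g ^ 2 ≠ 4 := by
  intro ht
  have h := orderOf_dvd_of_pow_eq_one (show g ^ 2 = 1 by rw [sq]; exact sq_eq_one_of_tr h2 ht)
  rcases (Nat.dvd_prime Nat.prime_two).1 h with e | e
  · exact hg (orderOf_eq_one_iff.1 e)
  · rw [e] at hodd; exact absurd hodd (by decide)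

theorem centralizer_involution {X Y : SL(2, F)} (hX : X ≠ 1) (hX2 : X * X = 1)
    (h : Y * X = X * Y) : Y * Y = 1 := by
  have ht : tr X ^ 2 = 4 := by
    by_contra ht
    have hc := notMem_center_of_tr ht
    have h' := congrArg (fun g : SL(2, F) => (g : Matrix (Fin 2) (Fin 2) F)) hX2
    simp only [Matrix.SpecialLinearGroup.coe_mul, Matrix.SpecialLinearGroup.coe_one, mul_self_eq] at h'
    have h0 : tr X • (X : Matrix (Fin 2) (Fin 2) F) = 0 := by
      rw [sub_eq_iff_eq_add] at h'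
      rw [h', ← two_smul F (1 : Matrix (Fin 2) (Fin 2) F), h2, zero_smul]
    rcases smul_eq_zero.1 h0 with h1 | h1
    · exact ht (by rw [h1]; linear_combination -(four_eq_zero h2))
    · have hd := X.det_coe
      rw [h1] at hd
      simp at hd
  obtain ⟨k, ε, x, hε, hk⟩ := trichotomy ht
  have hε1 : ε = 1 := by rwa [center_eq_bot_of_two h2, Subgroup.mem_bot] at hε
  have hx : x ≠ 0 := by
    rintro rfl
    rw [hε1, upS_zero, one_mul, conj_eq_one_iff] at hk
    exact hX hk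
  have hY : k * Y * k⁻¹ ∈ Subgroup.centralizer ({ε * upS x} : Set SL(2, F)) := by
    rw [Subgroup.mem_centralizer_singleton_iff, ← hk]
    calc k * Y * k⁻¹ * (k * X * k⁻¹) = k * (Y * X) * k⁻¹ := by group
      _ = k * (X * Y) * k⁻¹ := by rw [h]
      _ = k * X * k⁻¹ * (k * Y * k⁻¹) := by group
  obtain ⟨η, hη, y, hy⟩ := (mem_centralizer_upS hε hx _).1 hY
  rw [center_eq_bot_of_two h2, Subgroup.mem_bot] at hη
  rw [hη, one_mul] at hy
  calc Y * Y = k⁻¹ * ((k * Y * k⁻¹) * (k * Y * k⁻¹)) * k := by group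
    _ = 1 := by rw [hy, upS_sq h2]; group

/-- An abelian subgroup of odd order has at most `q + 1` elements; one of order `q - 1` normalises
a Sylow 2-subgroup. -/
theorem abelian_odd (hq : 4 ≤ Nat.card F) {S : Subgroup SL(2, F)} (hne : S ≠ ⊥)
    (hodd : Odd (Nat.card S)) (hcomm : ∀ a ∈ S, ∀ b ∈ S, a * b = b * a) :
    Nat.card S ≤ Nat.card F + 1 ∧
      (Nat.card S = Nat.card F - 1 → ∃ k : SL(2, F), ∀ s ∈ S, k * s * k⁻¹ ∈ borel F) := by
  classical
  obtain ⟨g, hg, hg1⟩ := S.ne_bot_iff_exists_ne_one.1 hne |> fun ⟨x, hx⟩ =>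
    (⟨x.1, x.2, fun h => hx (Subtype.ext h)⟩ : ∃ g, g ∈ S ∧ g ≠ 1)
  have ht : tr g ^ 2 ≠ 4 := tr_ne_of_odd h2 hg1 (by
    rw [show orderOf g = orderOf (⟨g, hg⟩ : S) from (Subgroup.orderOf_coe (⟨g, hg⟩ : S))]
    exact hodd.of_dvd_nat (orderOf_dvd_natCard _))
  have hle : S ≤ Subgroup.centralizer ({g} : Set SL(2, F)) := fun s hs =>
    Subgroup.mem_centralizer_singleton_iff.2 (hcomm s hs g hg)
  have hdvd := Subgroup.card_dvd_of_le hle
  rw [card_centralizer ht] at hdvd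
  refine ⟨?_, fun hcard => ?_⟩
  · split_ifs at hdvd
    · exact le_trans (Nat.le_of_dvd (by omega) hdvd) (by omega)
    · exact Nat.le_of_dvd (by omega) hdvd
  have hroot : ∃ l : F, l * l = tr g * l - 1 := by
    by_contra h
    rw [if_neg h, hcard] at hdvd
    have h3 := Nat.dvd_sub hdvd (dvd_refl (Nat.card F - 1))
    rw [show Nat.card F + 1 - (Nat.card F - 1) = 2 by omega] at h3
    have := Nat.le_of_dvd two_pos h3
    omega
  obtain ⟨k, hk⟩ := exists_conj_borel_of_root hroot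
  refine ⟨k, fun s hs => ?_⟩
  obtain ⟨a, b, hab⟩ := (mem_centralizer_singleton_iff' (notMem_center_of_tr ht) s).1 (hle hs)
  rw [mem_borel] at hk ⊢
  rw [Matrix.SpecialLinearGroup.coe_mul, Matrix.SpecialLinearGroup.coe_mul] at hk ⊢
  rw [hab]
  simp only [Matrix.mul_add, Matrix.add_mul, Matrix.mul_smul, Matrix.smul_mul, mul_one,
    Matrix.add_apply, Matrix.smul_apply, smul_eq_mul, hk, mul_zero, add_zero]
  rw [← Matrix.SpecialLinearGroup.coe_mul, mul_inv_cancel]
  simp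

omit h2 in
/-- The upper unitriangular subgroup. -/
def upSub (F : Type*) [Field F] : Subgroup SL(2, F) where
  carrier := {g | ∃ x : F, g = upS x}
  one_mem' := ⟨0, upS_zero.symm⟩
  mul_mem' := by rintro _ _ ⟨x, rfl⟩ ⟨y, rfl⟩; exact ⟨x + y, (upS_add x y).symm⟩
  inv_mem' := by
    rintro _ ⟨x, rfl⟩
    exact ⟨-x, inv_eq_of_mul_eq_one_right (by rw [← upS_add, add_neg_cancel, upS_zero])⟩

omit h2 in
theorem card_upSub : Nat.card (upSub F) = Nat.card F := by
  refine (Nat.card_eq_of_bijective (fun x : F => (⟨upS x, x, rfl⟩ : upSub F)) ⟨fun x y h => ?_, ?_⟩).symm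
  · have h' := congrArg (fun g : upSub F => ((g : SL(2, F)) : Matrix (Fin 2) (Fin 2) F) 0 1) h
    simpa [upS_coe] using h'
  · rintro ⟨_, x, rfl⟩; exact ⟨x, rfl⟩

theorem exists_two_pow : ∃ n : ℕ, n ≠ 0 ∧ Nat.card F = 2 ^ n := by
  haveI : Fintype F := Fintype.ofFinite F
  haveI : CharP F 2 := CharTwo.of_one_ne_zero_of_two_eq_zero one_ne_zero h2
  obtain ⟨⟨n, hn⟩, -, hc⟩ := FiniteField.card F 2
  exact ⟨n, Nat.pos_iff_ne_zero.1 hn, by rw [Nat.card_eq_fintype_card]; exact hc⟩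

theorem factorization_card_SL :
    2 ^ (Nat.card SL(2, F)).factorization 2 = Nat.card F := by
  obtain ⟨n, hn, hq⟩ := exists_two_pow h2
  rw [card_SL, hq]
  have h4 : 2 ≤ 2 ^ n := Nat.le_self_pow hn 2
  have hodd : ¬ 2 ∣ 2 ^ n * 2 ^ n - 1 := by
    have : 2 ∣ 2 ^ n * 2 ^ n := Dvd.dvd.mul_left (dvd_pow_self 2 hn) _
    have : 4 ≤ 2 ^ n * 2 ^ n := Nat.mul_le_mul h4 h4
    omega
  have hne : 2 ^ n * 2 ^ n - 1 ≠ 0 := fun h => hodd (by rw [h]; exact dvd_zero 2)
  have hsq : (2 ^ n : ℕ) ^ 2 = 2 ^ n * 2 ^ n := sq _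
  rw [hsq, Nat.factorization_mul (by positivity) hne, Finsupp.add_apply,
    Nat.factorization_eq_zero_of_not_dvd hodd, Nat.prime_two.factorization_pow,
    Finsupp.single_eq_same, add_zero]

theorem sylow_conj_upSub (S : Sylow 2 SL(2, F)) :
    Nat.card S = Nat.card F ∧ (∀ s ∈ S, s * s = 1) ∧
      ∃ k : SL(2, F), ∀ s, s ∈ S ↔ k * s * k⁻¹ ∈ upSub F := by
  haveI : Fact (Nat.Prime 2) := ⟨Nat.prime_two⟩
  let U : Sylow 2 SL(2, F) := Sylow.ofCard (upSub F) (by rw [card_upSub, factorization_card_SL h2])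
  obtain ⟨k, hk⟩ := MulAction.exists_smul_eq SL(2, F) S U
  have hmem : ∀ s, s ∈ S ↔ k * s * k⁻¹ ∈ upSub F := by
    intro s
    constructor
    · intro hs
      show k * s * k⁻¹ ∈ (U : Subgroup SL(2, F))
      rw [← hk]
      exact (Subgroup.smul_mem_pointwise_smul s (MulAut.conj k) _ hs :)
    · intro hs
      have h' : k * s * k⁻¹ ∈ (k • S : Sylow 2 SL(2, F)) := by rw [hk]; exact hs
      obtain ⟨y, hy, hys⟩ : ∃ y ∈ (S : Subgroup SL(2, F)), k * y * k⁻¹ = k * s * k⁻¹ := h'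
      rw [← (MulAut.conj k).injective hys]; exact hy
  refine ⟨?_, fun s hs => ?_, k, hmem⟩
  · rw [S.card_eq_multiplicity, factorization_card_SL h2]
  · obtain ⟨x, hx⟩ := (hmem s).1 hs
    calc s * s = k⁻¹ * ((k * s * k⁻¹) * (k * s * k⁻¹)) * k := by group
      _ = 1 := by rw [hx, upS_sq h2]; group

omit h2 in
theorem borel_normalizes {b g : SL(2, F)} (hb : b ∈ borel F) (hg : g ∈ upSub F) :
    b * g * b⁻¹ ∈ upSub F := by
  obtain ⟨a, x, hx, -⟩ := borel_exists hb
  obtain ⟨y, rfl⟩ := hg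
  refine ⟨(a : F) ^ 2 * y, ?_⟩
  have hc : upS x * upS y * (upS x : SL(2, F))⁻¹ = upS y := by
    rw [← upS_add, add_comm, upS_add, mul_inv_cancel_right]
  rw [hx, ← conj_diag_upS]
  calc diag a * upS x * upS y * (diag a * upS x)⁻¹
      = diag a * (upS x * upS y * (upS x)⁻¹) * (diag a)⁻¹ := by group
    _ = _ := by rw [hc]

/-- Sylow subgroups for odd primes are cyclic. -/
theorem sylow_cyclic {ℓ : ℕ} [Fact ℓ.Prime] (hℓ : ℓ ≠ 2) (S : Sylow ℓ SL(2, F)) :
    IsCyclic (S : Subgroup SL(2, F)) := by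
  rcases subsingleton_or_nontrivial (S : Subgroup SL(2, F)) with h | h
  · infer_instance
  haveI := S.isPGroup'.center_nontrivial
  obtain ⟨z, hz⟩ := exists_ne (1 : Subgroup.center (S : Subgroup SL(2, F)))
  set g : SL(2, F) := ((z : (S : Subgroup SL(2, F))) : SL(2, F)) with hg
  have hg1 : g ≠ 1 := fun h => hz (Subtype.ext (Subtype.ext h))
  obtain ⟨i, hi⟩ := IsPGroup.iff_orderOf.1 S.isPGroup' (z : (S : Subgroup SL(2, F)))
  have ht : tr g ^ 2 ≠ 4 := tr_ne_of_odd h2 hg1 (by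
    rw [hg, Subgroup.orderOf_coe, hi]
    exact (Nat.Prime.odd_of_ne_two Fact.out hℓ).pow)
  have hle : (S : Subgroup SL(2, F)) ≤ Subgroup.centralizer ({g} : Set SL(2, F)) := fun s hs =>
    Subgroup.mem_centralizer_singleton_iff.2
      (congrArg Subtype.val (Subgroup.mem_center_iff.1 z.2 ⟨s, hs⟩))
  haveI := isCyclic_centralizer ht
  exact isCyclic_of_injective (Subgroup.inclusion hle) (Subgroup.inclusion_injective hle)

theorem simple_perfect (hq : 4 ≤ Nat.card F) :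
    IsSimpleGroup SL(2, F) ∧ commutator SL(2, F) = ⊤ := by
  haveI : Fintype F := Fintype.ofFinite F
  refine ⟨?_, CfsgLib.ClassicalLinear.commutator_sl_eq_top
    (Or.inr (CfsgLib.ClassicalLinear.exists_sq_ne_one_of_four_le_card (by simpa [Nat.card_eq_fintype_card] using hq)))⟩
  have hs := CfsgLib.ClassicalLinear.isSimpleGroup_psl_fin (F := F) (le_refl 2) (fun _ => hq)
  have e : SL(2, F) ≃* Matrix.ProjectiveSpecialLinearGroup (Fin 2) F :=
    (QuotientGroup.quotientBot (G := SL(2, F))).symm.trans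
      (QuotientGroup.quotientMulEquivOfEq (center_eq_bot_of_two h2).symm)
  exact e.isSimpleGroup

end CfsgLib.OutAut.SLEven
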