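import Mathlib
import Cfsg.Agent.Lib.OutAut.CAInvBasic
import Cfsg.Agent.Lib.OutAut.CAInvSL2

/-!
The odd part of the centraliser of the Sylow subgroup, restriction to subgroups, and what an
isomorphism with `SL₂(2ⁿ) × A` says about them.
-/

set_option autoImplicit false
set_option linter.style.haveILetI false
set_option linter.unusedSectionVars false

open scoped MatrixGroups

namespace CfsgLib.OutAut

/-- `G` is `SL₂(2ⁿ)` times an abelian group of odd order. -/
def SLTwoTimesOdd (G : Type*) [Group G] : Prop :=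
  ∃ (F : Type) (_ : Field F) (_ : Fintype F) (A : Type) (_ : CommGroup A) (_ : Finite A),
    CharP F 2 ∧ Odd (Nat.card A) ∧ Nonempty (G ≃* SL(2, F) × A)

namespace CAHyp

variable {G : Type*} [Group G] [Finite G] {P : Sylow 2 G} (E : CAHyp P)

/-- The elements of odd order of `C(P)`. -/
def oddPart (E : CAHyp P) : Subgroup G where
  carrier := {a | a ∈ cP P ∧ Odd (orderOf a)}
  one_mem' := ⟨one_mem _, by simp⟩
  mul_mem' := fun {a b} ha hb => ⟨mul_mem ha.1 hb.1,
    Odd.of_dvd_nat (ha.2.mul hb.2)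
      ((Commute.orderOf_mul_dvd_lcm (E.cP_comm ha.1 hb.1)).trans (Nat.lcm_dvd_mul _ _))⟩
  inv_mem' := fun {a} ha => ⟨inv_mem ha.1, by rw [orderOf_inv]; exact ha.2⟩

theorem oddPart_le : E.oddPart ≤ cP P := fun _ h => h.1

theorem P_le_centralizer_oddPart : (P : Subgroup G) ≤ Subgroup.centralizer (E.oddPart : Set G) :=
  fun _ hp => Subgroup.mem_centralizer_iff.2 fun _ hb =>
    E.cP_comm (E.oddPart_le hb) (E.P_le_cP hp)

theorem nP_normalizes_oddPart {h b : G} (hh : h ∈ nP P) (hb : b ∈ E.oddPart) :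
    h * b * h⁻¹ ∈ E.oddPart :=
  ⟨cP_conj hb.1 hh, by
    rw [show h * b * h⁻¹ = (MulAut.conj h).toMonoidHom b from rfl,
      orderOf_injective (MulAut.conj h).toMonoidHom (MulAut.conj h).injective b]
    exact hb.2⟩

theorem eq_one_of_mem_P_oddPart {a : G} (hP : a ∈ (P : Subgroup G)) (hb : a ∈ E.oddPart) : a = 1 := by
  obtain ⟨k, hk⟩ := IsPGroup.iff_orderOf.1 P.isPGroup' ⟨a, hP⟩
  rw [← Subgroup.orderOf_coe] at hk
  have hodd : Odd (2 ^ k) := hk ▸ hb.2
  rcases Nat.eq_zero_or_pos k with rfl | hpos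
  · exact orderOf_eq_one_iff.1 hk
  · exact absurd hodd (Nat.not_odd_iff_even.2 (Nat.even_pow.2 ⟨even_two, hpos.ne'⟩))

include E

/-- An element with even order in `C(P)` has its centraliser in `C(P)`. -/
theorem odd_of_centralizer {e : G} (he : e ∈ cP P)
    (hC : ¬ Subgroup.centralizer ({e} : Set G) ≤ nP P) : e ∈ E.oddPart := by
  refine ⟨he, ?_⟩
  by_contra hodd
  rw [Nat.not_odd_iff_even, even_iff_two_dvd] at hodd
  obtain ⟨k, hk⟩ := hodd
  have hk0 : 0 < k := by have := orderOf_pos e; omega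
  have ht : orderOf (e ^ k) = 2 := by
    rw [orderOf_pow' e hk0.ne', hk, Nat.gcd_mul_left_left, Nat.mul_div_cancel _ hk0]
  have htP : e ^ k ∈ (P : Subgroup G) :=
    E.mem_P_of_involution ht (cP_le_nP (pow_mem he k))
  refine hC fun c hc => cP_le_nP (E.mem_cP ht htP ?_)
  exact ((show Commute c e from Subgroup.mem_centralizer_singleton_iff.1 hc).pow_right k).eq

theorem restrict {L : Subgroup G} (hPL : (P : Subgroup G) ≤ L) (hLH : ¬ L ≤ nP P) :
    CAHyp (P.subtype hPL) := by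
  have e : ↥((P.subtype hPL : Sylow 2 L) : Subgroup L) ≃* (P : Subgroup G) := Subgroup.subgroupOfEquivOfLe hPL
  refine ⟨fun h => E.notCyclic (isCyclic_of_surjective e.toMonoidHom e.surjective), fun h => hLH ?_, ?_⟩
  · intro l hl
    refine Subgroup.mem_normalizer_iff.2 fun p => ⟨fun hp => ?_, fun hp => ?_⟩
    · exact (h.conj_mem ⟨p, hPL hp⟩ hp ⟨l, hl⟩ : _)
    · have := h.conj_mem ⟨l * p * l⁻¹, hPL hp⟩ hp (⟨l, hl⟩⁻¹ : L)
      have h' : (((⟨l, hl⟩⁻¹ : L) * ⟨l * p * l⁻¹, hPL hp⟩ * (⟨l, hl⟩⁻¹ : L)⁻¹ : L) : G) = p := by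
        simp [mul_assoc]
      rw [← h']; exact this
  · intro t ht
    have := E.comm (t : G) (by rw [Subgroup.orderOf_coe, ht])
    refine ⟨⟨fun a b => ?_⟩⟩
    apply Subtype.ext
    apply Subtype.ext
    show ((a : L) : G) * ((b : L) : G) = ((b : L) : G) * ((a : L) : G)
    exact congrArg Subtype.val (mul_comm'
      (⟨((a : L) : G), Subgroup.mem_centralizer_singleton_iff.2
        (congrArg Subtype.val (Subgroup.mem_centralizer_singleton_iff.1 a.2))⟩ :
          Subgroup.centralizer ({(t : G)} : Set G))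
      ⟨((b : L) : G), Subgroup.mem_centralizer_singleton_iff.2
        (congrArg Subtype.val (Subgroup.mem_centralizer_singleton_iff.1 b.2))⟩)

theorem exists_proj {L : Subgroup G} (hPL : (P : Subgroup G) ≤ L) (hM : SLTwoTimesOdd L) :
    ∃ (F : Type) (_ : Field F) (_ : Finite F) (π : L →* SL(2, F)), (2 : F) = 0 ∧
      Function.Surjective π ∧ (∀ x : L, π x = 1 ↔ (x : G) ∈ E.oddPart) ∧
      (∀ x : L, π x = 1 → ∀ y : L, y * x = x * y) ∧
      (∀ x y : L, π x * π y = π y * π x → x * y = y * x) := by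
  obtain ⟨F, iF, iFt, A, iA, iAf, hF, hA, ⟨φ⟩⟩ := hM
  have h2 : (2 : F) = 0 := by simpa using CharP.cast_eq_zero F 2
  let π : L →* SL(2, F) := (MonoidHom.fst _ _).comp φ.toMonoidHom
  have hcomm : ∀ x y : L, π x * π y = π y * π x → x * y = y * x := fun x y h =>
    φ.injective (by rw [map_mul, map_mul]; exact Prod.ext h (mul_comm _ _))
  have hcen : ∀ x : L, π x = 1 → ∀ y : L, y * x = x * y := fun x hx y =>
    hcomm y x (by rw [hx, mul_one, one_mul])
  have hker : ∀ x : L, π x = 1 → Odd (orderOf x) := fun x hx => by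
    rw [← orderOf_injective φ.toMonoidHom φ.injective x]
    have h1 : φ x = MonoidHom.inr SL(2, F) A (φ x).2 := Prod.ext hx rfl
    show Odd (orderOf (φ x))
    rw [h1, orderOf_injective (MonoidHom.inr SL(2, F) A) (fun a b h => (Prod.ext_iff.1 h).2)]
    exact hA.of_dvd_nat (orderOf_dvd_natCard _)
  refine ⟨F, iF, inferInstance, π, h2, fun s => ⟨φ.symm (s, 1), by simp [π]⟩,
    fun x => ⟨fun hx => ?_, fun hx => ?_⟩, hcen, hcomm⟩
  · refine ⟨Subgroup.mem_centralizer_iff.2 fun p hp => congrArg Subtype.val (hcen x hx ⟨p, hPL hp⟩),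
      ?_⟩
    rw [Subgroup.orderOf_coe]; exact hker x hx
  · obtain ⟨z, hz, hzP, -⟩ := E.exists_involution_le
    have hzL : orderOf (⟨z, hPL hzP⟩ : L) = 2 := by rw [← Subgroup.orderOf_coe]; exact hz
    have hπz : π ⟨z, hPL hzP⟩ ≠ 1 := fun h => by
      have := hker _ h
      rw [hzL] at this
      exact absurd this (by decide)
    have hπz2 : π ⟨z, hPL hzP⟩ * π ⟨z, hPL hzP⟩ = 1 := by
      have := pow_orderOf_eq_one (⟨z, hPL hzP⟩ : L)
      rw [hzL, sq] at this
      rw [← map_mul, this, map_one]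
    have hc : π x * π ⟨z, hPL hzP⟩ = π ⟨z, hPL hzP⟩ * π x := by
      rw [← map_mul, ← map_mul]
      exact congrArg π (Subtype.ext (Subgroup.mem_centralizer_iff.1 hx.1 z hzP).symm)
    have h1 := SLEven.centralizer_involution h2 hπz hπz2 hc
    have h3 : orderOf (π x) ∣ 2 := orderOf_dvd_of_pow_eq_one (by rw [sq, h1])
    rcases (Nat.dvd_prime Nat.prime_two).1 h3 with e | e
    · exact orderOf_eq_one_iff.1 e
    · have h4 := orderOf_map_dvd π x
      rw [e, ← Subgroup.orderOf_coe] at h4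
      exact absurd (Odd.of_dvd_nat hx.2 h4) (by decide)

/-- The centraliser of a nontrivial element of the odd part, when not inside `N(P)`. -/
theorem centralizer_eq_oddPart (IH : ∀ L : Subgroup G, L ≠ ⊤ → ∀ Q : Sylow 2 L, CAHyp Q → SLTwoTimesOdd L)
    {e : G} (he : e ∈ E.oddPart) (htop : Subgroup.centralizer ({e} : Set G) ≠ ⊤)
    (hC : ¬ Subgroup.centralizer ({e} : Set G) ≤ nP P) :
    Subgroup.centralizer ({e} : Set G) = Subgroup.centralizer (E.oddPart : Set G) := by
  set L := Subgroup.centralizer ({e} : Set G) with hL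
  refine le_antisymm (fun c hc => Subgroup.mem_centralizer_iff.2 fun b hb => ?_)
    (Subgroup.centralizer_le (Set.singleton_subset_iff.2 he))
  have hAL : cP P ≤ L := fun a ha =>
    Subgroup.mem_centralizer_singleton_iff.2 (E.cP_comm ha he.1)
  have hPL : (P : Subgroup G) ≤ L := E.P_le_cP.trans hAL
  obtain ⟨F, iF, iFin, π, -, -, hker, hcen, -⟩ :=
    E.exists_proj hPL (IH L htop _ (E.restrict hPL hC))
  exact congrArg Subtype.val (hcen ⟨b, hAL hb.1⟩ ((hker ⟨b, hAL hb.1⟩).2 hb) ⟨c, hc⟩).symm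

end CAHyp

end CfsgLib.OutAut
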