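import Mathlib
import Cfsg.Agent.Lib.OutAut.CAInvModel
import Cfsg.Agent.Lib.AltGroups.ZassenhausAbelian
import Cfsg.Agent.Lib.TwoFusion.ElemCentField

/-!
The case in which every nontrivial element of `C(P)` has its centraliser inside `N(P)`: the
action on the cosets of `N(P)` is a Zassenhaus group and `C(P)` is elementary abelian.
-/

set_option autoImplicit false
set_option linter.style.haveILetI false
set_option linter.unusedSectionVars false

open scoped MatrixGroups

namespace CfsgLib.OutAut.CAHyp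

open CfsgLib.TwoFusion CfsgLib.Involutions

variable {G : Type*} [Group G] [Finite G] {P : Sylow 2 G} (E : CAHyp P)
  (hfree : ∀ a ∈ cP P, a ≠ 1 → Subgroup.centralizer ({a} : Set G) ≤ nP P)
include E hfree

theorem sep_free {u : G} (huH : u ∉ nP P) {g : G} (hg : g ∈ cP P) (hug : u⁻¹ * g * u ∈ cP P) :
    g = 1 := by
  by_contra h1
  apply huH
  have hsub : ∀ p ∈ (P : Subgroup G), u * p * u⁻¹ ∈ (P : Subgroup G) := by
    intro p hp
    have hc : u * p * u⁻¹ ∈ Subgroup.centralizer ({g} : Set G) := by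
      rw [Subgroup.mem_centralizer_singleton_iff]
      have := Subgroup.mem_centralizer_iff.1 hug p hp
      calc u * p * u⁻¹ * g = u * (p * (u⁻¹ * g * u)) * u⁻¹ := by group
        _ = u * (u⁻¹ * g * u * p) * u⁻¹ := by rw [this]
        _ = g * (u * p * u⁻¹) := by group
    obtain ⟨k, hk⟩ := IsPGroup.iff_orderOf.1 P.isPGroup' ⟨p, hp⟩
    refine mem_of_twoPow P (k := k) ?_ (hfree g hg h1 hc)
    rw [← hk, ← Subgroup.orderOf_coe]
    exact orderOf_injective (MulAut.conj u).toMonoidHom (MulAut.conj u).injective p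
  have hmap : (P : Subgroup G).map (MulAut.conj u).toMonoidHom = P := by
    refine Subgroup.eq_of_le_of_card_ge ?_ (le_of_eq ?_)
    · rintro _ ⟨x, hx, rfl⟩; exact hsub x hx
    · exact Nat.card_congr ((P : Subgroup G).equivMapOfInjective _ (MulAut.conj u).injective).toEquiv
  refine Subgroup.mem_normalizer_iff.2 fun p => ⟨hsub p, fun hp => ?_⟩
  rw [← hmap] at hp
  obtain ⟨x, hx, hxp⟩ := hp
  exact (MulAut.conj u).injective hxp ▸ hx

theorem trivial_inter {u : G} (hu : orderOf u = 2) (huH : u ∉ nP P) {e : G}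
    (hD : e ∈ nP P ⊓ (nP P).map (MulAut.conj u).toMonoidHom) (he : e ∈ cP P) : e = 1 := by
  by_contra h1
  have huu : u * u = 1 := by rw [← sq, ← hu]; exact pow_orderOf_eq_one u
  have hui : u⁻¹ = u := inv_eq_of_mul_eq_one_right huu
  obtain ⟨heH, x, hxH, hxe⟩ := hD
  have hxe' : u * x * u⁻¹ = e := hxe
  have hx : x = u * e * u := by
    rw [← hxe', hui]
    calc x = (u * u) * x * (u * u) := by rw [huu, one_mul, mul_one]
      _ = u * (u * x * u) * u := by group
  -- `e` commutes with its conjugate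
  have hexH : u * e * u ∈ nP P := hx ▸ hxH
  have hc1 : e * (u * e * u) * e⁻¹ * (u * e * u)⁻¹ ∈ cP P := by
    rw [show e * (u * e * u) * e⁻¹ * (u * e * u)⁻¹ = e * ((u * e * u) * e⁻¹ * (u * e * u)⁻¹) by group]
    exact mul_mem he (cP_conj (inv_mem he) hexH)
  have hc2 : u⁻¹ * (e * (u * e * u) * e⁻¹ * (u * e * u)⁻¹) * u ∈ cP P := by
    have key : u⁻¹ * (e * (u * e * u) * e⁻¹ * (u * e * u)⁻¹) * u =
        ((u * e * u) * e * (u * e * u)⁻¹) * e⁻¹ := by
      simp only [mul_inv_rev, hui]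
      calc u * (e * (u * e * u) * e⁻¹ * (u * (e⁻¹ * u))) * u
          = (u * e * u) * e * (u * e⁻¹ * u) * e⁻¹ * (u * u) := by group
        _ = (u * e * u) * e * (u * (e⁻¹ * u)) * e⁻¹ := by rw [huu]; group
    rw [key]
    exact mul_mem (cP_conj he hexH) (inv_mem he)
  have hcomm : e * (u * e * u) = (u * e * u) * e := by
    have := E.sep_free hfree huH hc1 hc2
    calc e * (u * e * u) = (e * (u * e * u) * e⁻¹ * (u * e * u)⁻¹) * ((u * e * u) * e) := by group
      _ = _ := by rw [this, one_mul]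
  set f := e * (u * e * u) with hf
  have hfu : f * u = u * f := by
    calc f * u = e * (u * e) * (u * u) := by rw [hf]; group
      _ = (u * u) * (e * (u * e)) := by rw [huu, one_mul, mul_one]
      _ = u * ((u * e * u) * e) := by group
      _ = u * f := by rw [← hcomm]
  have hodd : Odd (orderOf e) := E.odd_twoPoint huH ⟨heH, x, hxH, hxe⟩
  have hf1 : f ≠ 1 := by
    intro h
    apply h1
    refine E.eq_one_of_inverted he hodd hu ?_
    rw [hui]
    exact (inv_eq_of_mul_eq_one_right h).symm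
  -- the conjugate of `u` in `P`
  obtain ⟨z, hz, hzP, -⟩ := E.exists_involution_le
  obtain ⟨g, hg⟩ := isConj_iff.1 (CfsgLib.TwoFusion.isConj_involutions E.stronglyEmbedded hu hz)
  have hfA : g * f * g⁻¹ ∈ cP P := E.mem_cP hz hzP (by
    rw [← hg]
    calc g * f * g⁻¹ * (g * u * g⁻¹) = g * (f * u) * g⁻¹ := by group
      _ = g * (u * f) * g⁻¹ := by rw [hfu]
      _ = g * u * g⁻¹ * (g * f * g⁻¹) := by group)
  have hgf1 : g * f * g⁻¹ ≠ 1 := fun h => hf1 (conj_eq_one_iff.1 h)
  have heN : g * e * g⁻¹ ∈ nP P := hfree _ hfA hgf1 (by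
    rw [Subgroup.mem_centralizer_singleton_iff]
    have : e * f = f * e := by rw [hf, mul_assoc e (u * e * u) e, ← hcomm]
    calc g * e * g⁻¹ * (g * f * g⁻¹) = g * (e * f) * g⁻¹ := by group
      _ = g * (f * e) * g⁻¹ := by rw [this]
      _ = g * f * g⁻¹ * (g * e * g⁻¹) := by group)
  -- `u` and `e u e⁻¹` lie in one Sylow subgroup, their product has odd order
  have h1' : g * (e * u * e⁻¹) * g⁻¹ ∈ (P : Subgroup G) := by
    have := (Subgroup.mem_normalizer_iff.1 heN (g * u * g⁻¹)).1 (hg ▸ hzP)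
    simpa [mul_assoc] using this
  have hk : u * (e * u * e⁻¹) = (u * e * u) * e⁻¹ := by group
  have hkP : g * (u * (e * u * e⁻¹)) * g⁻¹ ∈ (P : Subgroup G) := by
    have := mul_mem (hg ▸ hzP : g * u * g⁻¹ ∈ (P : Subgroup G)) h1'
    simpa [mul_assoc] using this
  have hkD : u * (e * u * e⁻¹) ∈ nP P ⊓ (nP P).map (MulAut.conj u).toMonoidHom := by
    rw [hk]
    refine mul_mem ⟨hexH, e, heH, ?_⟩ (inv_mem ⟨heH, x, hxH, hxe⟩)
    show u * e * u⁻¹ = _
    rw [hui]
  have hk1 : u * (e * u * e⁻¹) = 1 := by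
    have ho := E.odd_twoPoint huH hkD
    obtain ⟨k, hk'⟩ := IsPGroup.iff_orderOf.1 P.isPGroup' ⟨_, hkP⟩
    rw [← Subgroup.orderOf_coe] at hk'
    change orderOf ((MulAut.conj g).toMonoidHom (u * (e * u * e⁻¹))) = 2 ^ k at hk'
    rw [orderOf_injective (MulAut.conj g).toMonoidHom (MulAut.conj g).injective] at hk'
    rcases Nat.eq_zero_or_pos k with rfl | hpos
    · exact orderOf_eq_one_iff.1 hk'
    · rw [hk'] at ho
      exact absurd ho (Nat.not_odd_iff_even.2 (Nat.even_pow.2 ⟨even_two, hpos.ne'⟩))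
  rw [hk, mul_inv_eq_one] at hk1
  exact h1 (E.sep_free hfree huH he (by rw [hui, hk1]; exact he))

theorem inverts_free {u : G} (hu : orderOf u = 2) (huH : u ∉ nP P) {d : G}
    (hd : d ∈ nP P ⊓ (nP P).map (MulAut.conj u).toMonoidHom) : u * d * u⁻¹ = d⁻¹ :=
  E.eq_one_of_free hu huH (fun _ h1 h2 => E.trivial_inter hfree hu huH h1 h2) hd

theorem quotient_comm {h h' : G} (hh : h ∈ nP P) (hh' : h' ∈ nP P) :
    h * h' * h⁻¹ * h'⁻¹ ∈ cP P := by
  obtain ⟨u, hu, huH⟩ := E.exists_outside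
  obtain ⟨k, hk, hka⟩ := (E.card_factor hu huH).2 h hh
  obtain ⟨k', hk', hka'⟩ := (E.card_factor hu huH).2 h' hh'
  have hkk : k * k' = k' * k := by
    have h1 := E.inverts_free hfree hu huH (mul_mem hk.1 hk'.1)
    rw [show u * (k * k') * u⁻¹ = (u * k * u⁻¹) * (u * k' * u⁻¹) by group, hk.2, hk'.2] at h1
    calc k * k' = (k'⁻¹ * k⁻¹)⁻¹ := by group
      _ = (k * k')⁻¹⁻¹ := by group
      _ = (k⁻¹ * k'⁻¹)⁻¹ := by rw [← h1]
      _ = k' * k := by group
  have hkH := hk.1.1
  have hk'H := hk'.1.1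
  set a := k⁻¹ * h with ha
  set b := k'⁻¹ * h' with hb
  have key : h * h' * h⁻¹ * h'⁻¹ =
      (k * k' * ((k'⁻¹ * a * k') * b) * (k * k')⁻¹) * (k' * k * ((k⁻¹ * b * k) * a)⁻¹ * (k' * k)⁻¹) := by
    calc h * h' * h⁻¹ * h'⁻¹ = (k * a) * (k' * b) * (k * a)⁻¹ * (k' * b)⁻¹ := by rw [ha, hb]; group
      _ = (k * k' * ((k'⁻¹ * a * k') * b) * (k * k')⁻¹) * ((k * k') * (k' * k)⁻¹) *
          (k' * k * ((k⁻¹ * b * k) * a)⁻¹ * (k' * k)⁻¹) := by group
      _ = _ := by rw [hkk]; group
  rw [key]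
  have hc : ∀ {c l : G}, c ∈ cP P → l ∈ nP P → l⁻¹ * c * l ∈ cP P := fun {c l} hc hl => by
    simpa using cP_conj hc (inv_mem hl)
  exact mul_mem (cP_conj (mul_mem (hc hka hk'H) hka') (mul_mem hkH hk'H))
    (cP_conj (inv_mem (mul_mem (hc hka' hkH) hka)) (mul_mem hk'H hkH))

theorem inverts_at {d v : G} {y : G ⧸ nP P} (hy : y ≠ basePt P) (hd1 : d • basePt P = basePt P)
    (hd2 : d • y = y) (hv : orderOf v = 2) (hvy : v • basePt P = y) : v * d * v⁻¹ = d⁻¹ := by
  refine E.inverts_free hfree hv (fun h => hy ?_) (E.mem_twoPoint.2 ⟨hd1, by rw [hvy]; exact hd2⟩)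
  rw [← hvy]; exact E.smul_basePt_eq_iff.2 h

theorem eq_one_of_fix_three {x : G} {y z : G ⧸ nP P} (hy : y ≠ basePt P) (hz : z ≠ basePt P)
    (hyz : y ≠ z) (h0 : x • basePt P = basePt P) (h1 : x • y = y) (h2 : x • z = z) : x = 1 := by
  -- any two fixed points are swapped by involutions inverting `x`
  have key : ∀ p q : G ⧸ nP P, p ≠ q → x • p = p → x • q = q →
      ∃ v : G, orderOf v = 2 ∧ v • p = q ∧ v * x * v⁻¹ = x⁻¹ := by
    intro p q hpq hp hq
    obtain ⟨g, rfl⟩ : ∃ g : G, g • basePt P = p := by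
      induction p using QuotientGroup.induction_on with
      | H g => exact ⟨g, by rw [MulAction.Quotient.smul_mk, smul_eq_mul, mul_one]⟩
    obtain ⟨v, hv, hvq⟩ := E.exists_swapper hpq
    refine ⟨v, hv, hvq, ?_⟩
    have hcv : orderOf (g⁻¹ * v * g) = 2 := by
      rw [show g⁻¹ * v * g = (MulAut.conj g⁻¹).toMonoidHom v by simp, 
        orderOf_injective (MulAut.conj g⁻¹).toMonoidHom (MulAut.conj g⁻¹).injective, hv]
    have h' := E.inverts_at hfree (d := g⁻¹ * x * g) (v := g⁻¹ * v * g) (y := g⁻¹ • q)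
      (fun h => hpq (by rw [← h, smul_inv_smul]))
      (by rw [mul_smul, mul_smul, hp, inv_smul_smul]) (by rw [mul_smul, mul_smul, smul_inv_smul, hq])
      hcv (by rw [mul_smul, mul_smul, hvq])
    calc v * x * v⁻¹ = g * (g⁻¹ * v * g * (g⁻¹ * x * g) * (g⁻¹ * v * g)⁻¹) * g⁻¹ := by group
      _ = x⁻¹ := by rw [h']; group
  obtain ⟨v, hv, hv', hvi⟩ := key _ _ hy.symm h0 h1
  obtain ⟨w, hw, hw', hwi⟩ := key _ _ hyz h1 h2
  obtain ⟨w', hw2, hw'', hwi'⟩ := key _ _ hz h2 h0
  set g := w' * w * v with hg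
  have hgH : g ∈ nP P := by
    refine E.smul_basePt_eq_iff.1 ?_
    rw [hg, mul_smul, mul_smul, hv', hw', hw'']
  have hginv : g * x * g⁻¹ = x⁻¹ := by
    calc g * x * g⁻¹ = w' * (w * (v * x * v⁻¹) * w⁻¹) * w'⁻¹ := by rw [hg]; group
      _ = w' * (w * x * w⁻¹)⁻¹ * w'⁻¹ := by rw [hvi]; group
      _ = w' * x * w'⁻¹ := by rw [hwi, inv_inv]
      _ = x⁻¹ := hwi'
  have hxH : x ∈ nP P := E.smul_basePt_eq_iff.1 h0
  obtain ⟨u, hu, huy⟩ := E.exists_swapper hy.symm
  have huH : u ∉ nP P := fun h => hy (by rw [← huy]; exact E.smul_basePt_eq_iff.2 h)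
  have hxD : x ∈ nP P ⊓ (nP P).map (MulAut.conj u).toMonoidHom :=
    E.mem_twoPoint.2 ⟨h0, by rw [huy]; exact h1⟩
  refine E.trivial_inter hfree hu huH hxD ?_
  have hq : x⁻¹ * x⁻¹ ∈ cP P := by
    have := E.quotient_comm hfree hgH hxH
    rwa [hginv] at this
  have hxi : x⁻¹ ∈ invSet P u := by
    refine ⟨inv_mem hxD, ?_⟩
    exact E.inverts_free hfree hu huH (inv_mem hxD)
  simpa using inv_mem (E.sq_mem_imp_mem hu huH hxi hq)

theorem fix_eq_base {a : G} (ha : a ∈ cP P) (ha1 : a ≠ 1) {y : G ⧸ nP P} (hay : a • y = y) :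
    y = basePt P := by
  by_contra hy
  obtain ⟨u, hu, huy⟩ := E.exists_swapper (Ne.symm hy)
  have huH : u ∉ nP P := fun h => hy (by rw [← huy]; exact E.smul_basePt_eq_iff.2 h)
  exact ha1 (E.trivial_inter hfree hu huH
    (E.mem_twoPoint.2 ⟨E.smul_basePt_eq_iff.2 (cP_le_nP ha), by rw [huy]; exact hay⟩) ha)

theorem transitive_free {y z : G ⧸ nP P} (hy : y ≠ basePt P) (hz : z ≠ basePt P) :
    ∃! a : cP P, (a : G) • y = z := by
  classical
  have hne : ∀ {a : cP P} {p : G ⧸ nP P}, p ≠ basePt P → (a : G) • p ≠ basePt P := fun {a p} hp h =>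
    hp (by rw [← inv_smul_smul (a : G) p, h]; exact E.smul_basePt_eq_iff.2 (inv_mem (cP_le_nP a.2)))
  let Y := {p : G ⧸ nP P // p ≠ basePt P}
  haveI := Fintype.ofFinite G
  haveI : Fintype Y := Fintype.ofFinite _
  let f : cP P → Y := fun a => ⟨(a : G) • y, hne hy⟩
  have hinj : Function.Injective f := by
    intro a b hab
    have h : ((b⁻¹ * a : cP P) : G) • y = y := by
      have : (a : G) • y = (b : G) • y := congrArg Subtype.val hab
      rw [Subgroup.coe_mul, Subgroup.coe_inv, mul_smul, this, inv_smul_smul]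
    by_contra hne'
    exact hy (E.fix_eq_base hfree (b⁻¹ * a).2 (fun h1 => hne' (by
      have : b⁻¹ * a = 1 := Subtype.ext h1
      exact (inv_mul_eq_one.1 this).symm)) h)
  -- counting the fixed points of the elements of `N(P)` outside `C(P)`
  have hle : Nat.card Y ≤ Nat.card (cP P) := by
    let W := {h : nP P // (h : G) ∉ cP P}
    choose v hv hvp using fun p : Y => E.exists_swapper (Ne.symm p.2)
    have hvH : ∀ p : Y, v p ∉ nP P := fun p h => p.2 (by rw [← hvp p]; exact E.smul_basePt_eq_iff.2 h)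
    have hcardK : ∀ p : Y, Nat.card {x : invSet P (v p) // (x : G) ∉ cP P} = invCount P - 1 := by
      intro p
      haveI : Fintype (invSet P (v p)) := Fintype.ofFinite _
      rw [Nat.card_eq_fintype_card, Fintype.card_subtype_compl, ← Nat.card_eq_fintype_card,
        E.card_invSet (hv p) (hvH p)]
      congr 1
      refine Fintype.card_eq_one_iff.2 ⟨⟨⟨1, one_mem _, by simp⟩, one_mem _⟩, fun x => ?_⟩
      exact Subtype.ext (Subtype.ext (E.eq_one_of_invSet_cP (hv p) (hvH p) x.1.2 x.2))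
    let g : (Σ p : Y, {x : invSet P (v p) // (x : G) ∉ cP P}) → W := fun s =>
      ⟨⟨((s.2 : invSet P (v s.1)) : G), (s.2 : invSet P (v s.1)).2.1.1⟩, s.2.2⟩
    have hg : Function.Injective g := by
      rintro ⟨p, x⟩ ⟨q, x'⟩ h
      have hxx : ((x : invSet P (v p)) : G) = ((x' : invSet P (v q)) : G) :=
        congrArg (fun w : W => ((w : nP P) : G)) h
      have hpq : p = q := by
        by_contra hpq
        have h1 := E.mem_twoPoint.1 (x : invSet P (v p)).2.1
        have h2 := E.mem_twoPoint.1 (x' : invSet P (v q)).2.1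
        rw [hvp] at h1 h2
        rw [← hxx] at h2
        exact x.2 (by
          rw [E.eq_one_of_fix_three hfree p.2 q.2 (fun e => hpq (Subtype.ext e)) h1.1 h1.2 h2.2]
          exact one_mem _)
      subst hpq
      exact congrArg (Sigma.mk p) (Subtype.ext (Subtype.ext hxx))
    have hcount := Nat.card_le_card_of_injective g hg
    haveI : Fintype (nP P) := Fintype.ofFinite _
    rw [Nat.card_sigma, Finset.sum_congr rfl (fun p _ => hcardK p), Finset.sum_const, Finset.card_univ,
      smul_eq_mul, ← Nat.card_eq_fintype_card, Nat.card_eq_fintype_card (α := W),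
      Fintype.card_subtype_compl, ← Nat.card_eq_fintype_card, ← Nat.card_eq_fintype_card, E.card_nP,
      Nat.card_congr (show {h : nP P // (h : G) ∈ cP P} ≃ cP P from
        (Subgroup.subgroupOfEquivOfLe cP_le_nP).toEquiv), ← Nat.sub_one_mul,
      mul_comm (Nat.card Y)] at hcount
    exact Nat.le_of_mul_le_mul_left hcount (by have := E.three_le_invCount; omega)
  obtain ⟨a, ha⟩ := ((Nat.bijective_iff_injective_and_card f).2
    ⟨hinj, le_antisymm (Nat.card_le_card_of_injective f hinj) hle⟩).2 ⟨z, hz⟩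
  exact ⟨a, congrArg Subtype.val ha, fun b hb => hinj (Subtype.ext (hb.trans (congrArg Subtype.val ha).symm))⟩

theorem free_elem : (∀ t : G, orderOf t = 2 → IsMulCommutative (Subgroup.centralizer ({t} : Set G)) ∧
    ∀ c ∈ Subgroup.centralizer ({t} : Set G), c ^ 2 = 1) := by
  classical
  haveI : Fact (Nat.Prime 2) := ⟨Nat.prime_two⟩
  haveI : Fintype (G ⧸ nP P) := Fintype.ofFinite _
  obtain ⟨u, hu, huH⟩ := E.exists_outside
  have hy : u • basePt P ≠ basePt P := fun h => huH (E.smul_basePt_eq_iff.1 h)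
  obtain ⟨t, ht, htP, -⟩ := E.exists_involution_le
  have ht1 : t ≠ 1 := fun h => by rw [h, orderOf_one] at ht; omega
  have hty : t • u • basePt P ≠ u • basePt P := fun h =>
    hy (E.fix_eq_base hfree (E.P_le_cP htP) ht1 h)
  have hty0 : t • u • basePt P ≠ basePt P := fun h => hy (by
    rw [← inv_smul_smul t (u • basePt P), h]
    exact E.smul_basePt_eq_iff.2 (inv_mem (Subgroup.le_normalizer htP)))
  have htrans : ∀ p : G ⧸ nP P, ∃ g : G, g • basePt P = p := fun p => by
    induction p using QuotientGroup.induction_on with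
    | H g => exact ⟨g, by rw [MulAction.Quotient.smul_mk, smul_eq_mul, mul_one]⟩
  have hfix3 : ∀ g : G, ∀ a b c : G ⧸ nP P, a ≠ b → b ≠ c → a ≠ c →
      g • a = a → g • b = b → g • c = c → g = 1 := by
    intro g a b c hab hbc hac ha hb hc
    obtain ⟨k, rfl⟩ := htrans a
    have := E.eq_one_of_fix_three hfree (x := k⁻¹ * g * k) (y := k⁻¹ • b) (z := k⁻¹ • c)
      (fun h => hab (by rw [← h, smul_inv_smul])) (fun h => hac (by rw [← h, smul_inv_smul]))
      (fun h => hbc (by simpa using congrArg (k • ·) h))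
      (by rw [mul_smul, mul_smul, ha, inv_smul_smul])
      (by rw [mul_smul, mul_smul, smul_inv_smul, hb])
      (by rw [mul_smul, mul_smul, smul_inv_smul, hc])
    calc g = k * (k⁻¹ * g * k) * k⁻¹ := by group
      _ = 1 := by rw [this]; group
  have hfaith : FaithfulSMul G (G ⧸ nP P) := ⟨fun {a b} h => inv_mul_eq_one.1
    (hfix3 (a⁻¹ * b) (basePt P) (u • basePt P) (t • u • basePt P) hy.symm hty.symm hty0.symm
      (by rw [mul_smul, ← h, inv_smul_smul]) (by rw [mul_smul, ← h, inv_smul_smul])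
      (by rw [mul_smul, ← h, inv_smul_smul]))⟩
  have h2t : MulAction.IsMultiplyPretransitive G (G ⧸ nP P) 2 := by
    rw [MulAction.is_two_pretransitive_iff]
    intro a b c d hab hcd
    obtain ⟨g, hg⟩ := htrans a
    obtain ⟨k, hk⟩ := htrans c
    obtain ⟨e, he, -⟩ := E.transitive_free hfree (y := g⁻¹ • b) (z := k⁻¹ • d)
      (fun h => hab (by rw [← hg, ← h, smul_inv_smul]))
      (fun h => hcd (by rw [← hk, ← h, smul_inv_smul]))
    refine ⟨k * e * g⁻¹, ?_, ?_⟩
    · rw [← hg, mul_smul, mul_smul, inv_smul_smul,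
        E.smul_basePt_eq_iff.2 (cP_le_nP e.2), hk]
    · rw [mul_smul, mul_smul, he, smul_inv_smul]
  obtain ⟨x, hx, hx1⟩ : ∃ x ∈ invSet P u, x ≠ 1 := by
    by_contra h
    push Not at h
    have hs : Nat.card (invSet P u) ≤ 1 := by
      haveI : Subsingleton (invSet P u) := ⟨fun a b => Subtype.ext ((h a a.2).trans (h b b.2).symm)⟩
      exact Finite.card_le_one_iff_subsingleton.2 inferInstance
    rw [E.card_invSet hu huH] at hs
    have := E.three_le_invCount
    omega
  have hxfix := E.mem_twoPoint.1 hx.1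
  have hcardΩ : Fintype.card (G ⧸ nP P) = Nat.card (cP P) + 1 := by
    have e1 : cP P ≃ {p : G ⧸ nP P // p ≠ basePt P} := Equiv.ofBijective
      (fun a => ⟨(a : G) • u • basePt P, fun h => hy (by
        rw [← inv_smul_smul (a : G) (u • basePt P), h]
        exact E.smul_basePt_eq_iff.2 (inv_mem (cP_le_nP a.2)))⟩)
      ⟨fun a b h => (E.transitive_free hfree hy (fun h' => hy (by
          rw [← inv_smul_smul (a : G) (u • basePt P), h']
          exact E.smul_basePt_eq_iff.2 (inv_mem (cP_le_nP a.2))))).unique rfl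
          (congrArg Subtype.val h).symm,
        fun p => by
          obtain ⟨a, ha, -⟩ := E.transitive_free hfree hy p.2
          exact ⟨a, Subtype.ext ha⟩⟩
    rw [Nat.card_congr e1, Nat.card_eq_fintype_card, Fintype.card_subtype_compl,
      Fintype.card_subtype_eq]
    have : 0 < Fintype.card (G ⧸ nP P) := Fintype.card_pos
    omega
  have hAeven : Even (Nat.card (cP P)) := even_iff_two_dvd.2 (by
    have := orderOf_dvd_natCard (⟨t, E.P_le_cP htP⟩ : cP P)
    rwa [← Subgroup.orderOf_coe, ht] at this)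
  have hreg : ∀ N : Subgroup G, N.Normal → MulAction.IsPretransitive N (G ⧸ nP P) →
      ∃ a : G ⧸ nP P, MulAction.stabilizer N a ≠ ⊥ := by
    intro N hNn hNt
    by_contra hcon
    push Not at hcon
    have hst : ∀ g ∈ N, g ∈ nP P → g = 1 := fun g hg hgH => by
      have : (⟨g, hg⟩ : N) ∈ MulAction.stabilizer N (basePt P) := E.smul_basePt_eq_iff.2 hgH
      rw [hcon, Subgroup.mem_bot] at this
      exact congrArg Subtype.val this
    have hinv : ∀ s : G, orderOf s = 2 → s ∈ (P : Subgroup G) → ∀ n ∈ N, s * n * s⁻¹ = n⁻¹ := by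
      intro s hs hsP n hn
      let f : N → N := fun m => ⟨(m : G)⁻¹ * (s * m * s⁻¹), mul_mem (inv_mem m.2) (hNn.conj_mem _ m.2 s)⟩
      have hf : Function.Injective f := by
        intro a b hab
        have h : (a : G)⁻¹ * (s * a * s⁻¹) = (b : G)⁻¹ * (s * b * s⁻¹) := congrArg Subtype.val hab
        have hc : ((b : G) * (a : G)⁻¹) * s = s * ((b : G) * (a : G)⁻¹) := by
          calc ((b : G) * (a : G)⁻¹) * s
              = (b : G) * ((a : G)⁻¹ * (s * a * s⁻¹)) * (s * (a : G)⁻¹) * 1 := by group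
            _ = (b : G) * ((b : G)⁻¹ * (s * b * s⁻¹)) * (s * (a : G)⁻¹) * 1 := by rw [h]
            _ = s * ((b : G) * (a : G)⁻¹) := by group
        have := hst _ (mul_mem b.2 (inv_mem a.2)) (cP_le_nP (E.mem_cP hs hsP hc))
        exact Subtype.ext (mul_inv_eq_one.1 this).symm
      obtain ⟨m, hm⟩ := (Finite.injective_iff_surjective.1 hf) ⟨n, hn⟩
      have hm' : (m : G)⁻¹ * (s * m * s⁻¹) = n := congrArg Subtype.val hm
      have hss : s * s = 1 := by rw [← sq, ← hs]; exact pow_orderOf_eq_one s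
      have hsi : s⁻¹ = s := inv_eq_of_mul_eq_one_right hss
      rw [← hm', hsi]
      calc s * ((m : G)⁻¹ * (s * m * s)) * s = s * (m : G)⁻¹ * s * m * (s * s) := by group
        _ = s * (m : G)⁻¹ * s * m := by rw [hss, mul_one]
        _ = s⁻¹ * (m : G)⁻¹ * s⁻¹ * m := by rw [hsi]
        _ = ((m : G)⁻¹ * (s * m * s))⁻¹ := by group
    -- two involutions of `P` with product an involution
    obtain ⟨s, hs, hsP, hst1⟩ : ∃ s, orderOf s = 2 ∧ s ∈ (P : Subgroup G) ∧ s ≠ t := by
      by_contra h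
      push Not at h
      have hsub : Subsingleton {r : G // orderOf r = 2 ∧ r ∈ nP P} := ⟨fun a b => Subtype.ext
        ((h a a.2.1 (E.mem_P_of_involution a.2.1 a.2.2)).trans
          (h b b.2.1 (E.mem_P_of_involution b.2.1 b.2.2)).symm)⟩
      have := E.three_le_invCount
      have := Finite.card_le_one_iff_subsingleton.2 hsub
      unfold invCount at *
      omega
    have hr : orderOf (s * t) = 2 := by
      refine orderOf_eq_prime ?_ ?_
      · rw [(show Commute s t from E.P_comm hsP htP).mul_pow, ← hs, pow_orderOf_eq_one, one_mul, hs, ← ht,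
          pow_orderOf_eq_one]
      · intro h
        exact hst1 ((eq_inv_of_mul_eq_one_left h).trans
          (inv_eq_of_mul_eq_one_right (by rw [← sq, ← ht]; exact pow_orderOf_eq_one t)))
    obtain ⟨n, hn⟩ := hNt.exists_smul_eq (basePt P) (u • basePt P)
    have h3 : (n : G) * (s * t) = (s * t) * (n : G) := by
      have h' : s * t * (n : G) * (s * t)⁻¹ = n := by
        calc s * t * (n : G) * (s * t)⁻¹ = s * (t * n * t⁻¹) * s⁻¹ := by group
          _ = (s * n * s⁻¹)⁻¹ := by rw [hinv t ht htP n n.2]; group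
          _ = n := by rw [hinv s hs hsP n n.2, inv_inv]
      exact (mul_inv_eq_iff_eq_mul.1 h').symm
    have hn1 := hst n n.2 (cP_le_nP (E.mem_cP hr (mul_mem hsP htP) h3))
    apply hy
    rw [← hn]
    show (n : G) • basePt P = _
    rw [hn1, one_smul]
  have hZ : Cfsg.IsZassenhausGroup G (G ⧸ nP P) :=
    ⟨hfaith, h2t, hfix3, ⟨x, hx1, basePt P, u • basePt P, hy.symm, hxfix.1, hxfix.2⟩, hreg⟩
  have hstab : MulAction.stabilizer G (basePt P) = nP P := by
    ext g; rw [MulAction.mem_stabilizer_iff]; exact E.smul_basePt_eq_iff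
  have hFn : ((cP P).subgroupOf (MulAction.stabilizer G (basePt P))).Normal :=
    ⟨fun a ha g => cP_conj ha (E.smul_basePt_eq_iff.1 g.2)⟩
  have hFab : IsMulCommutative (cP P) := ⟨⟨fun a b => Subtype.ext (E.cP_comm a.2 b.2)⟩⟩
  have hres := CfsgLib.AltGroups.zassenhaus_abelian_kernel hZ hy (cP P) (fun x hx => E.smul_basePt_eq_iff.2 (cP_le_nP hx)) hFn hFab
    fun y z hy' hz' => E.transitive_free hfree hy' hz'
  have hD : Nat.card ↥(MulAction.stabilizer G (basePt P) ⊓ MulAction.stabilizer G (u • basePt P)) =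
      invCount P := by
    rw [← E.card_invSet hu huH]
    refine Nat.card_congr (Equiv.subtypeEquivRight fun d => ?_)
    rw [Subgroup.mem_inf, MulAction.mem_stabilizer_iff, MulAction.mem_stabilizer_iff]
    constructor
    · intro h
      exact ⟨E.mem_twoPoint.2 h, E.inverts_free hfree hu huH (E.mem_twoPoint.2 h)⟩
    · intro h; exact E.mem_twoPoint.1 h.1
  have hA : Nat.card (cP P) = invCount P + 1 := by
    rcases hres with h | ⟨h, -⟩
    · rw [hD, hcardΩ] at h; omega
    · rw [hD, hcardΩ] at h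
      obtain ⟨k, hk⟩ := hAeven
      omega
  -- every nontrivial element of `C(P)` is an involution
  have hsq : ∀ a ∈ cP P, a ^ 2 = 1 := by
    haveI : Fintype (cP P) := Fintype.ofFinite _
    let g : {r : G // orderOf r = 2 ∧ r ∈ nP P} → {a : cP P // a ≠ 1} := fun r =>
      ⟨⟨r.1, E.P_le_cP (E.mem_P_of_involution r.2.1 r.2.2)⟩, fun h => by
        have := congrArg (fun a : cP P => orderOf (a : G)) h
        simp [r.2.1] at this⟩
    have hg : Function.Injective g := fun a b h =>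
      Subtype.ext (congrArg (fun a : {a : cP P // a ≠ 1} => ((a : cP P) : G)) h)
    have hcard : Nat.card {a : cP P // a ≠ 1} = invCount P := by
      rw [Nat.card_eq_fintype_card, Fintype.card_subtype_compl, Fintype.card_subtype_eq,
        ← Nat.card_eq_fintype_card, hA, Nat.add_sub_cancel]
    have hsurj := ((Nat.bijective_iff_injective_and_card g).2 ⟨hg, by rw [hcard]; rfl⟩).2
    intro a ha
    by_cases h1 : a = 1
    · rw [h1, one_pow]
    obtain ⟨r, hr⟩ := hsurj ⟨⟨a, ha⟩, fun h => h1 (congrArg Subtype.val h)⟩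
    have : r.1 = a := congrArg (fun a : {a : cP P // a ≠ 1} => ((a : cP P) : G)) hr
    have h := pow_orderOf_eq_one r.1
    rw [r.2.1] at h
    rw [← this]; exact h
  intro s hs
  refine ⟨E.comm s hs, fun c hc => ?_⟩
  obtain ⟨g, hg⟩ := isConj_iff.1 (CfsgLib.TwoFusion.isConj_involutions E.stronglyEmbedded hs ht)
  have hc' : g * c * g⁻¹ ∈ cP P := E.mem_cP ht htP (by
    rw [Subgroup.mem_centralizer_singleton_iff] at hc
    rw [← hg]
    calc g * c * g⁻¹ * (g * s * g⁻¹) = g * (c * s) * g⁻¹ := by group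
      _ = g * (s * c) * g⁻¹ := by rw [hc]
      _ = g * s * g⁻¹ * (g * c * g⁻¹) := by group)
  have := hsq _ hc'
  rw [conj_pow] at this
  exact conj_eq_one_iff.1 this

theorem free_model : SLTwoTimesOdd G := by
  have E' : CfsgLib.TwoFusion.ElemCentHyp P := ⟨E.notCyclic, E.notNormal, E.free_elem hfree⟩
  obtain ⟨F, iF, iFt, -, h2, ⟨e⟩⟩ := E'.exists_mulEquiv_SL2
  haveI : CharP F 2 := CharTwo.of_one_ne_zero_of_two_eq_zero one_ne_zero h2
  exact ⟨F, iF, iFt, Multiplicative PUnit.{1}, inferInstance, inferInstance, inferInstance,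
    by simp, ⟨e.trans (MulEquiv.prodUnique (M := SL(2, F)) (N := Multiplicative PUnit.{1})).symm⟩⟩

end CfsgLib.OutAut.CAHyp
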