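import Mathlib
import Cfsg.Agent.Lib.OutAut.CAInvModel

/-!
With trivial centre no nontrivial element of `C(P)` has its centraliser outside `N(P)`.
-/

set_option autoImplicit false
set_option linter.style.haveILetI false
set_option linter.unusedSectionVars false

open scoped MatrixGroups

namespace CfsgLib.OutAut

variable {G : Type*} [Group G] [Finite G] {P : Sylow 2 G}

theorem mem_nP_of_forall {h : G} (H : ∀ p ∈ (P : Subgroup G), h * p * h⁻¹ ∈ (P : Subgroup G)) :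
    h ∈ nP P := by
  have hmap : (P : Subgroup G).map (MulAut.conj h).toMonoidHom = P := by
    refine Subgroup.eq_of_le_of_card_ge ?_ (le_of_eq ?_)
    · rintro _ ⟨x, hx, rfl⟩; exact H x hx
    · exact Nat.card_congr ((P : Subgroup G).equivMapOfInjective _ (MulAut.conj h).injective).toEquiv
  refine Subgroup.mem_normalizer_iff.2 fun p => ⟨H p, fun hp => ?_⟩
  rw [← hmap] at hp
  obtain ⟨x, hx, hxp⟩ := hp
  exact (MulAut.conj h).injective hxp ▸ hx

theorem exists_mul_mem_nP {C : Subgroup G} (hPC : (P : Subgroup G) ≤ C) (v : G)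
    (hv : ∀ p ∈ (P : Subgroup G), v * p * v⁻¹ ∈ C) : ∃ c ∈ C, c * v ∈ nP P := by
  haveI : Fact (Nat.Prime 2) := ⟨Nat.prime_two⟩
  have hle : ((v • P : Sylow 2 G) : Subgroup G) ≤ C := by
    intro x hx
    obtain ⟨p, hp, hpx⟩ : ∃ p ∈ (P : Subgroup G), v * p * v⁻¹ = x := hx
    rw [← hpx]; exact hv p hp
  obtain ⟨c, hc⟩ := MulAction.exists_smul_eq C ((v • P).subtype hle) (P.subtype hPC)
  refine ⟨c, c.2, mem_nP_of_forall fun p hp => ?_⟩
  have h1 : c * ⟨v * p * v⁻¹, hv p hp⟩ * c⁻¹ ∈ (c • (v • P).subtype hle : Sylow 2 C) :=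
    Subgroup.smul_mem_pointwise_smul (⟨v * p * v⁻¹, hv p hp⟩ : C) (MulAut.conj c) _
      (show v * p * v⁻¹ ∈ ((v • P : Sylow 2 G) : Subgroup G) from ⟨p, hp, rfl⟩)
  rw [hc] at h1
  have : (c : G) * v * p * ((c : G) * v)⁻¹ = ((c * ⟨v * p * v⁻¹, hv p hp⟩ * c⁻¹ : C) : G) := by
    simp [mul_assoc]
  rw [this]
  exact h1

namespace CAHyp

variable (E : CAHyp P)
include E

theorem cP_decomp {a : G} (ha : a ∈ cP P) :
    ∃ p ∈ (P : Subgroup G), ∃ b ∈ E.oddPart, a = p * b := by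
  obtain ⟨k, m, hm, hord⟩ := Nat.exists_eq_two_pow_mul_odd (orderOf_pos a).ne'
  have hco : Nat.Coprime (2 ^ k) m := (Nat.coprime_two_left.2 hm).pow_left k
  obtain ⟨s, t, hst⟩ : ∃ s t : ℤ, (2 ^ k : ℕ) * s + (m : ℕ) * t = 1 :=
    ⟨Nat.gcdA (2 ^ k) m, Nat.gcdB (2 ^ k) m, by rw [← Nat.gcd_eq_gcd_ab, hco.gcd_eq_one]; rfl⟩
  refine ⟨a ^ ((m : ℕ) * t : ℤ), ?_, a ^ ((2 ^ k : ℕ) * s : ℤ), ⟨zpow_mem ha _, ?_⟩, ?_⟩
  · have h : orderOf (a ^ ((m : ℕ) * t : ℤ)) ∣ 2 ^ k := orderOf_dvd_of_pow_eq_one (by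
      rw [← zpow_natCast, ← zpow_mul, show ((m : ℕ) * t : ℤ) * (2 ^ k : ℕ) = ((orderOf a : ℕ) : ℤ) * t by
        rw [hord]; push_cast; ring, zpow_mul, zpow_natCast, pow_orderOf_eq_one, one_zpow])
    obtain ⟨i, -, hi⟩ := (Nat.dvd_prime_pow Nat.prime_two).1 h
    exact mem_of_twoPow P hi (cP_le_nP (zpow_mem ha _))
  · refine hm.of_dvd_nat (orderOf_dvd_of_pow_eq_one ?_)
    rw [← zpow_natCast, ← zpow_mul, show ((2 ^ k : ℕ) * s : ℤ) * (m : ℕ) = ((orderOf a : ℕ) : ℤ) * s by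
      rw [hord]; push_cast; ring, zpow_mul, zpow_natCast, pow_orderOf_eq_one, one_zpow]
  · rw [← zpow_add, add_comm, hst, zpow_one]

theorem not_commute_of_notMem {p d : G} (hp : p ∈ (P : Subgroup G)) (hp1 : p ≠ 1)
    (hd : d * p = p * d) : d ∈ cP P := by
  haveI : Fact (Nat.Prime 2) := ⟨Nat.prime_two⟩
  obtain ⟨k, hk⟩ := IsPGroup.iff_orderOf.1 P.isPGroup' ⟨p, hp⟩
  rw [← Subgroup.orderOf_coe] at hk
  have hk0 : k ≠ 0 := fun h => hp1 (orderOf_eq_one_iff.1 (by rw [hk, h, pow_zero]))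
  have ht : orderOf (p ^ 2 ^ (k - 1)) = 2 := by
    obtain ⟨i, rfl⟩ := Nat.exists_eq_succ_of_ne_zero hk0
    rw [orderOf_pow' p (by positivity), show orderOf p = 2 ^ (i + 1) from hk, Nat.succ_sub_one, pow_succ',
      Nat.gcd_mul_left_left, Nat.mul_div_cancel _ (by positivity)]
  exact E.mem_cP ht (pow_mem hp _) ((show Commute d p from hd).pow_right _).eq

omit E in
theorem swap_mem_twoPoint {u : G} (hu : orderOf u = 2) {d : G}
    (hd : d ∈ nP P ⊓ (nP P).map (MulAut.conj u).toMonoidHom) :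
    u * d * u⁻¹ ∈ nP P ⊓ (nP P).map (MulAut.conj u).toMonoidHom := by
  obtain ⟨hdH, x, hx, hxd⟩ := hd
  have hxd' : u * x * u⁻¹ = d := hxd
  have hui : u⁻¹ = u := inv_eq_of_mul_eq_one_right (by rw [← sq, ← hu]; exact pow_orderOf_eq_one u)
  refine ⟨?_, d, hdH, rfl⟩
  have : u * d * u⁻¹ = x := by
    rw [← hxd']
    calc u * (u * x * u⁻¹) * u⁻¹ = (u * u) * x * (u⁻¹ * u⁻¹) := by group
      _ = (u * u⁻¹) * x * (u * u⁻¹) := by rw [hui]
      _ = x := by group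
  rw [this]; exact hx

set_option maxHeartbeats 1000000 in
theorem no_proper (IH : ∀ L : Subgroup G, L ≠ ⊤ → ∀ Q : Sylow 2 L, CAHyp Q → SLTwoTimesOdd L)
    (hZ : ∀ g : G, g ≠ 1 → Subgroup.centralizer ({g} : Set G) ≠ ⊤)
    {a : G} (haB : a ∈ E.oddPart) (ha1 : a ≠ 1)
    (haC : ¬ Subgroup.centralizer ({a} : Set G) ≤ nP P) : False := by
  haveI : Fact (Nat.Prime 2) := ⟨Nat.prime_two⟩
  set B := E.oddPart with hB
  set L := Subgroup.centralizer (B : Set G) with hLdef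
  have hLa : Subgroup.centralizer ({a} : Set G) = L :=
    E.centralizer_eq_oddPart IH haB (hZ a ha1) haC
  have hLtop : L ≠ ⊤ := hLa ▸ hZ a ha1
  have hLH : ¬ L ≤ nP P := hLa ▸ haC
  have hCe : ∀ e ∈ B, e ≠ 1 → Subgroup.centralizer ({e} : Set G) = L := fun e he he1 =>
    E.centralizer_eq_oddPart IH he (hZ e he1) fun h =>
      hLH ((Subgroup.centralizer_le (Set.singleton_subset_iff.2 he)).trans h)
  have hAL : cP P ≤ L := fun x hx =>
    Subgroup.mem_centralizer_iff.2 fun b hb => E.cP_comm hb.1 hx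
  have hBL : B ≤ L := E.oddPart_le.trans hAL
  have hPL : (P : Subgroup G) ≤ L := E.P_le_cP.trans hAL
  have hLB : ∀ l ∈ L, ∀ b ∈ B, l * b = b * l := fun l hl b hb =>
    (Subgroup.mem_centralizer_iff.1 hl b hb).symm
  set EL := E.restrict hPL hLH with hEL
  obtain ⟨F, iF, iFin, π, h2, hπsurj, hker, -, hπcomm⟩ :=
    E.exists_proj hPL (IH L hLtop _ (E.restrict hPL hLH))
  -- `N(P) ≤ L`
  have hHL : nP P ≤ L := by
    let P' := P.subtype hPL
    have hnP : ∀ x : L, x ∈ nP P' ↔ (x : G) ∈ nP P := by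
      intro x
      constructor
      · intro hx
        refine mem_nP_of_forall fun p hp => ?_
        exact ((Subgroup.mem_normalizer_iff.1 hx ⟨p, hPL hp⟩).1 hp :)
      · intro hx
        exact mem_nP_of_forall fun p hp => ((Subgroup.mem_normalizer_iff.1 hx p).1 hp :)
    have hcP : ∀ x : L, x ∈ cP P' ↔ (x : G) ∈ cP P := by
      intro x
      constructor
      · intro hx
        exact Subgroup.mem_centralizer_iff.2 fun p hp =>
          congrArg Subtype.val (Subgroup.mem_centralizer_iff.1 hx ⟨p, hPL hp⟩ hp)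
      · intro hx
        exact Subgroup.mem_centralizer_iff.2 fun p hp =>
          Subtype.ext (Subgroup.mem_centralizer_iff.1 hx p hp)
    have hj : invCount P' = invCount P := Nat.card_congr
      { toFun := fun t => ⟨(t.1 : G), by rw [Subgroup.orderOf_coe]; exact t.2.1, (hnP _).1 t.2.2⟩
        invFun := fun t => ⟨⟨t.1, hPL (E.mem_P_of_involution t.2.1 t.2.2)⟩,
          by rw [← Subgroup.orderOf_coe]; exact t.2.1, (hnP _).2 t.2.2⟩
        left_inv := fun t => rfl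
        right_inv := fun t => rfl }
    have hA : Nat.card (cP P') = Nat.card (cP P) := Nat.card_congr
      { toFun := fun x => ⟨((x : L) : G), (hcP _).1 x.2⟩
        invFun := fun x => ⟨⟨x, hAL x.2⟩, (hcP _).2 x.2⟩
        left_inv := fun x => rfl
        right_inv := fun x => rfl }
    let f : nP P' → nP P := fun x => ⟨((x : L) : G), (hnP _).1 x.2⟩
    have hf : Function.Injective f := fun x y h =>
      Subtype.ext (Subtype.ext (congrArg (fun z : nP P => (z : G)) h))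
    have hsurj := ((Nat.bijective_iff_injective_and_card f).2
      ⟨hf, by rw [EL.card_nP, E.card_nP, hj, hA]⟩).2
    intro x hx
    obtain ⟨y, hy⟩ := hsurj ⟨x, hx⟩
    have : ((y : L) : G) = x := congrArg (fun z : nP P => (z : G)) hy
    rw [← this]; exact (y : L).2
  -- conjugates of `P` inside `L` come from `L`
  have hLnorm : ∀ g : G, (∀ p ∈ (P : Subgroup G), g * p * g⁻¹ ∈ L) → g ∈ L := by
    intro g hg
    obtain ⟨c, hc, hcg⟩ := exists_mul_mem_nP hPL g hg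
    have := mul_mem (inv_mem hc) (hHL hcg)
    rwa [inv_mul_cancel_left] at this
  -- an involution of `L` outside `N(P)`
  obtain ⟨u, hu, huL, huH⟩ : ∃ u : G, orderOf u = 2 ∧ u ∈ L ∧ u ∉ nP P := by
    obtain ⟨u', hu', huH'⟩ := EL.exists_outside
    refine ⟨(u' : G), by rw [Subgroup.orderOf_coe]; exact hu', u'.2, fun h => huH' ?_⟩
    exact mem_nP_of_forall fun p hp => ((Subgroup.mem_normalizer_iff.1 h p).1 hp :)
  have huu : u * u = 1 := by rw [← sq, ← hu]; exact pow_orderOf_eq_one u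
  have hui : u⁻¹ = u := inv_eq_of_mul_eq_one_right huu
  set D := nP P ⊓ (nP P).map (MulAut.conj u).toMonoidHom with hD
  have hDL : D ≤ L := inf_le_left.trans hHL
  have hBD : B ≤ D := by
    intro b hb
    refine ⟨cP_le_nP hb.1, b, cP_le_nP hb.1, ?_⟩
    show u * b * u⁻¹ = b
    rw [hLB u huL b hb, mul_inv_cancel_right]
  have hDA : ∀ d ∈ D, d ∈ cP P → d ∈ B := fun d hd hdA => ⟨hdA, E.odd_twoPoint huH hd⟩
  have hDP : ∀ d ∈ D, d ∈ (P : Subgroup G) → d = 1 := fun d hd hdP =>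
    E.eq_one_of_mem_P_oddPart hdP (hDA d hd (E.P_le_cP hdP))
  have hDfac : ∀ h ∈ nP P, ∃ d ∈ D, ∃ p ∈ (P : Subgroup G), h = d * p := by
    intro h hh
    obtain ⟨k, hk, hka⟩ := (E.card_factor hu huH).2 h hh
    obtain ⟨p, hp, b, hb, hpb⟩ := E.cP_decomp hka
    refine ⟨k * b, mul_mem hk.1 (hBD hb), p, hp, ?_⟩
    calc h = k * (k⁻¹ * h) := by group
      _ = k * (p * b) := by rw [hpb]
      _ = k * (b * p) := by rw [E.cP_comm (E.P_le_cP hp) hb.1]
      _ = k * b * p := by group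
  have hπD : ∀ d (hd : d ∈ D), π ⟨u * d * u⁻¹, mul_mem (mul_mem huL (hDL hd)) (inv_mem huL)⟩ =
      (π ⟨d, hDL hd⟩)⁻¹ := by
    intro d hd
    obtain ⟨k, hk, hka⟩ := (E.card_factor hu huH).2 d hd.1
    have hkL : k ∈ L := hDL hk.1
    have h1 : π ⟨k⁻¹ * d, mul_mem (inv_mem hkL) (hDL hd)⟩ = 1 :=
      (hker _).2 (hDA _ (mul_mem (inv_mem hk.1) hd) hka)
    have h2' : π ⟨d, hDL hd⟩ = π ⟨k, hkL⟩ := by
      rw [show (⟨d, hDL hd⟩ : L) = ⟨k, hkL⟩ * ⟨k⁻¹ * d, mul_mem (inv_mem hkL) (hDL hd)⟩ from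
        Subtype.ext (by simp), map_mul, h1, mul_one]
    have h3 : π ⟨u * d * u⁻¹, mul_mem (mul_mem huL (hDL hd)) (inv_mem huL)⟩ =
        π ⟨u, huL⟩ * π ⟨k, hkL⟩ * (π ⟨u, huL⟩)⁻¹ := by
      rw [← h2', ← map_inv π (⟨u, huL⟩ : L), ← map_mul, ← map_mul]
      rfl
    rw [h3, h2', ← map_inv π (⟨u, huL⟩ : L), ← map_mul, ← map_mul, ← map_inv]
    exact congrArg π (Subtype.ext hk.2)
  have hDcomm : ∀ x ∈ D, ∀ y ∈ D, x * y = y * x := by
    intro x hx y hy
    refine congrArg Subtype.val (hπcomm ⟨x, hDL hx⟩ ⟨y, hDL hy⟩ ?_)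
    have e1 := hπD x hx
    have e2 := hπD y hy
    have e3 := hπD _ (mul_mem hx hy)
    have e4 : (⟨u * (x * y) * u⁻¹, mul_mem (mul_mem huL (hDL (mul_mem hx hy))) (inv_mem huL)⟩ : L) =
        ⟨u * x * u⁻¹, mul_mem (mul_mem huL (hDL hx)) (inv_mem huL)⟩ *
          ⟨u * y * u⁻¹, mul_mem (mul_mem huL (hDL hy)) (inv_mem huL)⟩ :=
      Subtype.ext (by simp [mul_assoc])
    rw [e4, map_mul, e1, e2, show (⟨x * y, hDL (mul_mem hx hy)⟩ : L) = ⟨x, hDL hx⟩ * ⟨y, hDL hy⟩ from rfl,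
      map_mul] at e3
    calc π ⟨x, hDL hx⟩ * π ⟨y, hDL hy⟩ = ((π ⟨x, hDL hx⟩ * π ⟨y, hDL hy⟩)⁻¹)⁻¹ := by group
      _ = ((π ⟨x, hDL hx⟩)⁻¹ * (π ⟨y, hDL hy⟩)⁻¹)⁻¹ := by rw [e3]
      _ = π ⟨y, hDL hy⟩ * π ⟨x, hDL hx⟩ := by group
  have hDfix : ∀ d ∈ D, u * d * u⁻¹ = d → d ∈ B := by
    intro d hd he
    refine (hker ⟨d, hDL hd⟩).1 ?_
    have h1 := hπD d hd
    rw [show (⟨u * d * u⁻¹, _⟩ : L) = ⟨d, hDL hd⟩ from Subtype.ext he] at h1
    have h3 : π ⟨d, hDL hd⟩ ^ 2 = 1 := by rw [sq]; nth_rewrite 2 [h1]; exact mul_inv_cancel _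
    rcases (Nat.dvd_prime Nat.prime_two).1 (orderOf_dvd_of_pow_eq_one h3) with e | e
    · exact orderOf_eq_one_iff.1 e
    · have h4 := orderOf_map_dvd π (⟨d, hDL hd⟩ : L)
      rw [e, ← Subgroup.orderOf_coe] at h4
      exact absurd (Odd.of_dvd_nat (E.odd_twoPoint huH hd) h4) (by decide)
  -- odd elements of `N(P)` are conjugate into `D`
  have hconj : ∀ h ∈ nP P, Odd (orderOf h) → h ∉ B →
      ∃ p ∈ (P : Subgroup G), p * h * p⁻¹ ∈ D ∧ p * h * p⁻¹ ∉ B := by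
    intro h hh hodd hhB
    obtain ⟨d, hd, q, hq, rfl⟩ := hDfac h hh
    by_cases hdB : d ∈ B
    · exfalso
      have hdq : Commute d q := E.cP_comm hdB.1 (E.P_le_cP hq)
      have h1 : d ^ orderOf (d * q) * q ^ orderOf (d * q) = 1 := by
        rw [← hdq.mul_pow, pow_orderOf_eq_one]
      have h2 : q ^ orderOf (d * q) = 1 := E.eq_one_of_mem_P_oddPart (pow_mem hq _) (by
        rw [eq_inv_of_mul_eq_one_right h1]
        exact inv_mem (pow_mem hdB _))
      obtain ⟨i, hi⟩ := IsPGroup.iff_orderOf.1 P.isPGroup' ⟨q, hq⟩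
      rw [← Subgroup.orderOf_coe] at hi
      have h3 : orderOf q = 1 := by
        have h4 := orderOf_dvd_of_pow_eq_one h2
        rw [show orderOf q = 2 ^ i from hi] at h4 ⊢
        exact Nat.eq_one_of_dvd_coprimes ((Nat.coprime_two_left.2 hodd).pow_left i) dvd_rfl h4
      exact hhB (by rw [orderOf_eq_one_iff.1 h3, mul_one]; exact hdB)
    · have hdN : d ∈ nP P := hd.1
      have hdP : ∀ p ∈ (P : Subgroup G), d * p * d⁻¹ ∈ (P : Subgroup G) := fun p hp =>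
        (Subgroup.mem_normalizer_iff.1 hdN p).1 hp
      let f : ↥(P : Subgroup G) → ↥(P : Subgroup G) := fun p =>
        ⟨(p : G) * (d * (p : G)⁻¹ * d⁻¹), mul_mem p.2 (hdP _ (inv_mem p.2))⟩
      have hf : Function.Injective f := by
        intro p q hpq
        have h : (p : G) * (d * (p : G)⁻¹ * d⁻¹) = (q : G) * (d * (q : G)⁻¹ * d⁻¹) :=
          congrArg Subtype.val hpq
        by_contra hne
        refine hdB (hDA d hd (E.not_commute_of_notMem (p := (q : G)⁻¹ * p) (mul_mem (inv_mem q.2) p.2)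
          (fun h1 => hne (Subtype.ext (inv_mul_eq_one.1 h1).symm)) ?_))
        calc d * ((q : G)⁻¹ * p) = (d * (q : G)⁻¹ * d⁻¹) * (d * p) := by group
          _ = (q : G)⁻¹ * ((q : G) * (d * (q : G)⁻¹ * d⁻¹)) * (d * p) := by group
          _ = (q : G)⁻¹ * ((p : G) * (d * (p : G)⁻¹ * d⁻¹)) * (d * p) := by rw [h]
          _ = (q : G)⁻¹ * p * d := by group
      obtain ⟨p, hp⟩ := (Finite.injective_iff_surjective.1 hf) ⟨(d * q * d⁻¹)⁻¹, inv_mem (hdP q hq)⟩
      have hp' : (p : G) * (d * (p : G)⁻¹ * d⁻¹) = (d * q * d⁻¹)⁻¹ := congrArg Subtype.val hp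
      have he : (p : G) * (d * q) * (p : G)⁻¹ = d := by
        calc (p : G) * (d * q) * (p : G)⁻¹ = (p : G) * d * (q * (p : G)⁻¹) := by group
          _ = (p : G) * d * ((p : G)⁻¹ * q) := by rw [E.P_comm hq (inv_mem p.2)]
          _ = ((p : G) * (d * (p : G)⁻¹ * d⁻¹)) * (d * q) := by group
          _ = d := by rw [hp']; group
      exact ⟨p, p.2, by rw [he]; exact hd, by rw [he]; exact hdB⟩
  have hCD : ∀ d ∈ D, d ∉ B → ∀ h ∈ nP P, h * d = d * h → h ∈ D := by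
    intro d hd hdB h hh hhd
    obtain ⟨e, he, p, hp, rfl⟩ := hDfac h hh
    by_cases hp1 : p = 1
    · rw [hp1, mul_one]; exact he
    exfalso
    refine hdB (hDA d hd (E.not_commute_of_notMem hp hp1 ?_))
    calc d * p = e⁻¹ * (e * d) * p := by group
      _ = e⁻¹ * (d * (e * p)) := by rw [hDcomm e he d hd]; group
      _ = e⁻¹ * ((e * p) * d) := by rw [hhd]
      _ = p * d := by group
  obtain ⟨d₀, hd₀, hd₀B⟩ : ∃ d ∈ D, d ∉ B := by
    by_contra h
    push Not at h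
    have hs : Subsingleton (invSet P u) := ⟨fun x y => Subtype.ext (by
      rw [E.eq_one_of_invSet_cP hu huH x.2 (h x.1 x.2.1).1,
        E.eq_one_of_invSet_cP hu huH y.2 (h y.1 y.2.1).1])⟩
    have := Finite.card_le_one_iff_subsingleton.2 hs
    rw [E.card_invSet hu huH] at this
    have := E.three_le_invCount
    omega
  have hNHD : ∀ h ∈ nP P, (∀ d ∈ D, h * d * h⁻¹ ∈ D) → h ∈ D := by
    intro h hh hn
    refine hCD d₀ hd₀ hd₀B h hh ?_
    obtain ⟨e, he, p, hp, rfl⟩ := hDfac h hh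
    have h1 : p * d₀ * p⁻¹ ∈ D := by
      have h' := mul_mem (mul_mem (inv_mem he) (hn d₀ hd₀)) he
      rwa [show e⁻¹ * (e * p * d₀ * (e * p)⁻¹) * e = p * d₀ * p⁻¹ by group] at h'
    have h3 : p * d₀ * p⁻¹ * d₀⁻¹ ∈ (P : Subgroup G) := by
      rw [show p * d₀ * p⁻¹ * d₀⁻¹ = p * (d₀ * p⁻¹ * d₀⁻¹) by group]
      exact mul_mem hp ((Subgroup.mem_normalizer_iff.1 hd₀.1 _).1 (inv_mem hp))
    have h4 := hDP _ (mul_mem h1 (inv_mem hd₀)) h3
    have h5 : p * d₀ = d₀ * p := mul_inv_eq_iff_eq_mul.1 (mul_inv_eq_one.1 h4)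
    calc e * p * d₀ = e * (p * d₀) := mul_assoc _ _ _
      _ = e * (d₀ * p) := by rw [h5]
      _ = (e * d₀) * p := (mul_assoc _ _ _).symm
      _ = (d₀ * e) * p := by rw [hDcomm e he d₀ hd₀]
      _ = d₀ * (e * p) := mul_assoc _ _ _
  have hDmax : ∀ x ∈ nP P, ∀ S : Subgroup G, D ≤ S → x ∈ S → (∀ s ∈ S, Odd (orderOf s)) → x ∈ D := by
    intro x hx S hDS hxS hodd
    obtain ⟨e, he, p, hp, rfl⟩ := hDfac x hx
    have hpS : p ∈ S := by
      have := mul_mem (inv_mem (hDS he)) hxS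
      rwa [inv_mul_cancel_left] at this
    have hp1 : p = 1 := E.eq_one_of_mem_P_oddPart hp ⟨E.P_le_cP hp, hodd p hpS⟩
    rw [hp1, mul_one]; exact he
  -- the order of `D` and of the field
  have hcardD : Nat.card D = invCount P * Nat.card B := by
    let f : invSet P u × B → D := fun x => ⟨x.1.1 * x.2.1, mul_mem x.1.2.1 (hBD x.2.2)⟩
    have hf : Function.Injective f := by
      rintro ⟨k, b⟩ ⟨k', b'⟩ h
      have h' : k.1 * b.1 = k'.1 * b'.1 := congrArg Subtype.val h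
      have hkk : k.1 = k'.1 := E.invSet_inj hu huH k.2 k'.2 (by
        have : k.1⁻¹ * k'.1 = b.1 * b'.1⁻¹ := by
          calc k.1⁻¹ * k'.1 = k.1⁻¹ * (k'.1 * b'.1) * b'.1⁻¹ := by group
            _ = b.1 * b'.1⁻¹ := by rw [← h']; group
        rw [this]; exact mul_mem b.2.1 (inv_mem b'.2.1))
      rw [hkk] at h'
      exact Prod.ext (Subtype.ext hkk) (Subtype.ext (mul_left_cancel h'))
    have hs : Function.Surjective f := by
      rintro ⟨d, hd⟩
      obtain ⟨k, hk, hka⟩ := (E.card_factor hu huH).2 d hd.1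
      exact ⟨⟨⟨k, hk⟩, ⟨k⁻¹ * d, hDA _ (mul_mem (inv_mem hk.1) hd) hka⟩⟩,
        Subtype.ext (mul_inv_cancel_left k d)⟩
    rw [← Nat.card_eq_of_bijective f ⟨hf, hs⟩, Nat.card_prod, E.card_invSet hu huH]
  let U : Sylow 2 SL(2, F) := (P.subtype hPL).mapSurjective hπsurj
  obtain ⟨hUcard, hUsq, k₁, hk₁⟩ := SLEven.sylow_conj_upSub h2 U
  have hUmem : ∀ p (hp : p ∈ (P : Subgroup G)), π ⟨p, hPL hp⟩ ∈ U := fun p hp =>
    ⟨⟨p, hPL hp⟩, hp, rfl⟩
  have hPsq : ∀ p ∈ (P : Subgroup G), p * p = 1 := by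
    intro p hp
    have h1 : π (⟨p, hPL hp⟩ * ⟨p, hPL hp⟩) = 1 := by rw [map_mul]; exact hUsq _ (hUmem p hp)
    exact E.eq_one_of_mem_P_oddPart (mul_mem hp hp) ((hker _).1 h1)
  have hq : Nat.card (P : Subgroup G) = Nat.card F := by
    rw [← hUcard]
    refine Nat.card_eq_of_bijective (fun p : (P : Subgroup G) => (⟨π ⟨p, hPL p.2⟩, hUmem p p.2⟩ : U))
      ⟨fun p q h => ?_, fun z => ?_⟩
    · have h' : π ⟨p, hPL p.2⟩ = π ⟨q, hPL q.2⟩ := congrArg Subtype.val h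
      have h1 : π ((⟨p, hPL p.2⟩ : L)⁻¹ * ⟨q, hPL q.2⟩) = 1 := by
        rw [map_mul, map_inv, h', inv_mul_cancel]
      exact Subtype.ext (inv_mul_eq_one.1
        (E.eq_one_of_mem_P_oddPart (mul_mem (inv_mem p.2) q.2) ((hker _).1 h1)))
    · obtain ⟨z, hz⟩ := z
      obtain ⟨p, hp, hpz⟩ : ∃ p ∈ ((P.subtype hPL : Sylow 2 L) : Subgroup L), π p = z := hz
      exact ⟨⟨p, hp⟩, Subtype.ext hpz⟩
  have hjq : invCount P + 1 = Nat.card F := by
    classical
    haveI : Fintype (P : Subgroup G) := Fintype.ofFinite _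
    have e : {t : G // orderOf t = 2 ∧ t ∈ nP P} ≃ {p : (P : Subgroup G) // p ≠ 1} :=
      { toFun := fun t => ⟨⟨t.1, E.mem_P_of_involution t.2.1 t.2.2⟩, fun h => by
          have := congrArg (fun p : (P : Subgroup G) => orderOf (p : G)) h
          simp [t.2.1] at this⟩
        invFun := fun p => ⟨p.1.1, orderOf_eq_prime (by rw [sq]; exact hPsq _ p.1.2)
          (fun h => p.2 (Subtype.ext h)), Subgroup.le_normalizer p.1.2⟩
        left_inv := fun t => rfl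
        right_inv := fun p => rfl }
    rw [invCount, Nat.card_congr e, ← hq, Nat.card_eq_fintype_card, Fintype.card_subtype_compl,
      Fintype.card_subtype_eq, ← Nat.card_eq_fintype_card]
    have : 0 < Nat.card (P : Subgroup G) := Nat.card_pos
    omega
  have hq4 : 4 ≤ Nat.card F := by have := E.three_le_invCount; omega
  -- nothing outside `L` moves `D` to itself
  have hN : ∀ g : G, (∀ d ∈ D, g * d * g⁻¹ ∈ D) → g ∈ L := by
    intro g hg
    have hg' : ∀ d ∈ D, g⁻¹ * d * g ∈ D := by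
      have hmap : D.map (MulAut.conj g).toMonoidHom = D := by
        refine Subgroup.eq_of_le_of_card_ge ?_ (le_of_eq ?_)
        · rintro _ ⟨x, hx, rfl⟩; exact hg x hx
        · exact Nat.card_congr (D.equivMapOfInjective _ (MulAut.conj g).injective).toEquiv
      intro d hd
      rw [← hmap] at hd
      obtain ⟨x, hx, hxd⟩ := hd
      have hxd' : g * x * g⁻¹ = d := hxd
      rw [← hxd']
      simpa [mul_assoc] using hx
    have hsq : ∀ n : G, (∀ d ∈ D, n * d * n⁻¹ ∈ D) → (∀ d ∈ D, n⁻¹ * d * n ∈ D) → n * n ∈ D := by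
      intro n hn hn'
      by_cases hnH : n ∈ nP P
      · exact mul_mem (hNHD n hnH hn) (hNHD n hnH hn)
      obtain ⟨v, hv, hvn⟩ := E.exists_swapper (x := basePt P) (y := n • basePt P)
        fun h => hnH (E.smul_basePt_eq_iff.1 h.symm)
      have hvH : v ∉ nP P := fun h => hnH (E.smul_basePt_eq_iff.1
        (hvn.symm.trans (E.smul_basePt_eq_iff.2 h)))
      have hDv : D ≤ nP P ⊓ (nP P).map (MulAut.conj v).toMonoidHom := by
        intro d hd
        refine E.mem_twoPoint.2 ⟨E.smul_basePt_eq_iff.2 hd.1, ?_⟩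
        rw [hvn]
        calc d • n • basePt P = n • (n⁻¹ * d * n) • basePt P := by rw [← mul_smul, ← mul_smul]; group
          _ = n • basePt P := by rw [E.smul_basePt_eq_iff.2 (hn' d hd).1]
      have hDv' : nP P ⊓ (nP P).map (MulAut.conj v).toMonoidHom ≤ D := fun x hx =>
        hDmax x hx.1 _ hDv hx fun s hs => E.odd_twoPoint hvH hs
      have hvD : ∀ d ∈ D, v * d * v⁻¹ ∈ D := fun d hd => hDv' (swap_mem_twoPoint hv (hDv hd))
      have hvv : v * v = 1 := by rw [← sq, ← hv]; exact pow_orderOf_eq_one v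
      have hvi : v⁻¹ = v := inv_eq_of_mul_eq_one_right hvv
      have hvn' : v * n ∈ D := hNHD _
        (E.smul_basePt_eq_iff.1 (by rw [mul_smul, ← hvn, ← mul_smul, hvv, one_smul])) fun d hd => by
          rw [show v * n * d * (v * n)⁻¹ = v * (n * d * n⁻¹) * v⁻¹ by group]
          exact hvD _ (hn d hd)
      have : n * n = (v * (v * n) * v⁻¹) * (v * n) := by
        calc n * n = (v * v) * n * ((v * v) * n) := by rw [hvv, one_mul]
          _ = (v * (v * n) * v) * (v * n) := by group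
          _ = (v * (v * n) * v⁻¹) * (v * n) := by rw [hvi]
      rw [this]
      exact mul_mem (hvD _ hvn') hvn'
    have hu' : ∀ d ∈ D, u * d * u⁻¹ ∈ D := fun d hd => swap_mem_twoPoint hu hd
    have hu'' : ∀ d ∈ D, u⁻¹ * d * u ∈ D := fun d hd => by
      have := hu' d hd; rwa [hui] at this ⊢
    have hgi : ∀ d ∈ D, g⁻¹ * d * g⁻¹⁻¹ ∈ D := fun d hd => by rw [inv_inv]; exact hg' d hd
    have hc : g * u * g⁻¹ * u ∈ D := by
      have h1 := hsq (g * u)
        (fun d hd => by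
          rw [show g * u * d * (g * u)⁻¹ = g * (u * d * u⁻¹) * g⁻¹ by group]
          exact hg _ (hu' d hd))
        (fun d hd => by
          rw [show (g * u)⁻¹ * d * (g * u) = u⁻¹ * (g⁻¹ * d * g) * u by group]
          exact hu'' _ (hg' d hd))
      have h2 := hsq g⁻¹ hgi (fun d hd => by rw [inv_inv]; exact hg d hd)
      have h3 := mul_mem h1 (hu'' _ h2)
      rwa [show g * u * (g * u) * (u⁻¹ * (g⁻¹ * g⁻¹) * u) = g * u * g⁻¹ * u by group] at h3
    have hgB : ∀ b ∈ B, g * b * g⁻¹ ∈ B := by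
      intro b hb
      have hd := hg b (hBD hb)
      refine hDfix _ hd ?_
      have hub : u * b * u⁻¹ = b := by rw [hLB u huL b hb, mul_inv_cancel_right]
      have hcd : (g * u * g⁻¹ * u) * (u * (g * b * g⁻¹) * u⁻¹) * (g * u * g⁻¹ * u)⁻¹ = g * b * g⁻¹ := by
        calc (g * u * g⁻¹ * u) * (u * (g * b * g⁻¹) * u⁻¹) * (g * u * g⁻¹ * u)⁻¹
            = g * u * g⁻¹ * (u * u) * g * b * g⁻¹ * (u * u)⁻¹ * g * u⁻¹ * g⁻¹ := by group
          _ = g * (u * b * u⁻¹) * g⁻¹ := by rw [huu]; group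
          _ = g * b * g⁻¹ := by rw [hub]
      rw [hDcomm _ hc _ (hu' _ hd), mul_inv_cancel_right] at hcd
      exact hcd
    have hmapB : B.map (MulAut.conj g).toMonoidHom = B := by
      refine Subgroup.eq_of_le_of_card_ge ?_ (le_of_eq ?_)
      · rintro _ ⟨x, hx, rfl⟩; exact hgB x hx
      · exact Nat.card_congr (B.equivMapOfInjective _ (MulAut.conj g).injective).toEquiv
    refine hLnorm g fun p hp => Subgroup.mem_centralizer_iff.2 fun b hb => ?_
    obtain ⟨b', hb', rfl⟩ : b ∈ B.map (MulAut.conj g).toMonoidHom := by rw [hmapB]; exact hb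
    show g * b' * g⁻¹ * (g * p * g⁻¹) = g * p * g⁻¹ * (g * b' * g⁻¹)
    calc g * b' * g⁻¹ * (g * p * g⁻¹) = g * (b' * p) * g⁻¹ := by group
      _ = g * (p * b') * g⁻¹ := by rw [hLB p (hPL hp) b' hb']
      _ = g * p * g⁻¹ * (g * b' * g⁻¹) := by group
  -- no nontrivial element of `B` fixes a point outside the orbit of `L`
  have hnofix : ∀ g : G, g ∉ L → ∀ e ∈ B, e ≠ 1 → g⁻¹ * e * g ∉ nP P := by
    intro g hgL e heB he1 he
    have hodd : Odd (orderOf (g⁻¹ * e * g)) := by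
      rw [show g⁻¹ * e * g = (MulAut.conj g⁻¹).toMonoidHom e by simp,
        orderOf_injective (MulAut.conj g⁻¹).toMonoidHom (MulAut.conj g⁻¹).injective]
      exact heB.2
    have hne : g⁻¹ * e * g ≠ 1 := fun h => he1 (by
      calc e = g * (g⁻¹ * e * g) * g⁻¹ := by group
        _ = 1 := by rw [h]; group)
    have hCg : ∀ c, c * (g⁻¹ * e * g) = (g⁻¹ * e * g) * c → g * c * g⁻¹ ∈ L := by
      intro c hc
      rw [← hCe e heB he1, Subgroup.mem_centralizer_singleton_iff]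
      calc g * c * g⁻¹ * e = g * (c * (g⁻¹ * e * g)) * g⁻¹ := by group
        _ = g * ((g⁻¹ * e * g) * c) * g⁻¹ := by rw [hc]
        _ = e * (g * c * g⁻¹) := by group
    by_cases heB' : g⁻¹ * e * g ∈ B
    · exact hgL (hLnorm g fun p hp => hCg p (hLB p (hPL hp) _ heB'))
    obtain ⟨p, hp, hpD, hpB⟩ := hconj _ he hodd heB'
    set g' := g * p⁻¹ with hg'
    have hd : g'⁻¹ * e * g' = p * (g⁻¹ * e * g) * p⁻¹ := by rw [hg']; group
    -- the image of `D`
    have hW : ∀ d ∈ D, g' * d * g'⁻¹ ∈ L := by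
      intro d hdD
      rw [← hCe e heB he1, Subgroup.mem_centralizer_singleton_iff]
      have h := hDcomm d hdD _ hpD
      rw [← hd] at h
      calc g' * d * g'⁻¹ * e = g' * (d * (g'⁻¹ * e * g')) * g'⁻¹ := by group
        _ = g' * ((g'⁻¹ * e * g') * d) * g'⁻¹ := by rw [h]
        _ = e * (g' * d * g'⁻¹) := by group
    let ψ : D →* SL(2, F) :=
      { toFun := fun d => π ⟨g' * d * g'⁻¹, hW d d.2⟩
        map_one' := by
          rw [show (⟨g' * ((1 : D) : G) * g'⁻¹, hW _ (1 : D).2⟩ : L) = 1 from Subtype.ext (by simp), map_one]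
        map_mul' := fun d d' => by
          rw [← map_mul]
          exact congrArg π (Subtype.ext (by simp [mul_assoc])) }
    have hkerle : Nat.card ψ.ker ∣ Nat.card B := by
      let f : ψ.ker →* B :=
        { toFun := fun d => ⟨g' * ((d : D) : G) * g'⁻¹, (hker _).1 d.2⟩
          map_one' := Subtype.ext (by simp)
          map_mul' := fun d d' => Subtype.ext (by simp [mul_assoc]) }
      refine Subgroup.card_dvd_of_injective f fun x y h => ?_
      have h' : g' * ((x : D) : G) * g'⁻¹ = g' * ((y : D) : G) * g'⁻¹ :=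
        congrArg (fun z : B => (z : G)) h
      exact Subtype.ext (Subtype.ext ((MulAut.conj g').injective h'))
    have hmul : Nat.card ψ.ker * Nat.card ψ.range = Nat.card D := by
      rw [← ψ.ker.card_mul_index, Subgroup.index_ker]
    obtain ⟨m, hm⟩ := hkerle
    rw [hcardD, hm] at hmul
    have hrange : Nat.card ψ.range = invCount P * m :=
      Nat.eq_of_mul_eq_mul_left (Nat.card_pos) (by rw [hmul]; ring)
    have hm0 : 1 ≤ m := by
      rcases Nat.eq_zero_or_pos m with rfl | h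
      · rw [mul_zero] at hm; exact absurd hm Nat.card_pos.ne'
      · exact h
    have hrne : ψ.range ≠ ⊥ := fun h => by
      rw [h, Subgroup.card_bot] at hrange
      have h' : invCount P * 1 ≤ invCount P * m := Nat.mul_le_mul_left _ hm0
      have := E.three_le_invCount
      omega
    have hrodd : Odd (Nat.card ψ.range) :=
      (E.stronglyEmbedded.2.2 u huH).of_dvd_nat (Subgroup.card_range_dvd ψ)
    have hrcomm : ∀ x ∈ ψ.range, ∀ y ∈ ψ.range, x * y = y * x := by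
      rintro _ ⟨x, rfl⟩ _ ⟨y, rfl⟩
      rw [← map_mul, ← map_mul, show x * y = y * x from Subtype.ext (hDcomm _ x.2 _ y.2)]
    obtain ⟨hle, hconjB⟩ := SLEven.abelian_odd h2 hq4 hrne hrodd hrcomm
    have hm1 : m = 1 := by
      by_contra hne'
      have h' : invCount P * 2 ≤ invCount P * m := Nat.mul_le_mul_left _ (by omega)
      have := E.three_le_invCount
      omega
    rw [hm1, mul_one] at hrange hm
    obtain ⟨k₀, hk₀⟩ := hconjB (by omega)
    obtain ⟨l, hl⟩ := hπsurj (k₁⁻¹ * k₀)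
    -- now the image lies in `N(P)`
    set g₂ := (l : G) * g' with hg₂
    have hW₂ : ∀ d ∈ D, g₂ * d * g₂⁻¹ ∈ nP P := by
      intro d hdD
      set w : L := l * ⟨g' * d * g'⁻¹, hW d hdD⟩ * l⁻¹ with hw
      have hwc : ((w : L) : G) = g₂ * d * g₂⁻¹ := by rw [hw, hg₂]; simp [mul_assoc]
      rw [← hwc]
      refine mem_nP_of_forall fun p hp' => ?_
      have hwb : k₁ * π w * k₁⁻¹ = k₀ * ψ ⟨d, hdD⟩ * k₀⁻¹ := by
        rw [hw, map_mul, map_mul, map_inv, hl]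
        show _ = k₀ * π ⟨g' * d * g'⁻¹, hW d hdD⟩ * k₀⁻¹
        group
      have h1 : π (w * ⟨p, hPL hp'⟩ * w⁻¹) ∈ U := by
        rw [hk₁, map_mul, map_mul, map_inv,
          show k₁ * (π w * π ⟨p, hPL hp'⟩ * (π w)⁻¹) * k₁⁻¹ =
            (k₁ * π w * k₁⁻¹) * (k₁ * π ⟨p, hPL hp'⟩ * k₁⁻¹) * (k₁ * π w * k₁⁻¹)⁻¹ by group, hwb]
        exact SLEven.borel_normalizes (hk₀ _ ⟨⟨d, hdD⟩, rfl⟩) ((hk₁ _).1 (hUmem p hp'))
      obtain ⟨z, hz, hzw⟩ : ∃ z ∈ ((P.subtype hPL : Sylow 2 L) : Subgroup L),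
          π z = π (w * ⟨p, hPL hp'⟩ * w⁻¹) := h1
      have hzB : π (z⁻¹ * (w * ⟨p, hPL hp'⟩ * w⁻¹)) = 1 := by
        rw [map_mul, map_inv, hzw, inv_mul_cancel]
      have hcA : ((w * ⟨p, hPL hp'⟩ * w⁻¹ : L) : G) ∈ cP P := by
        have hzb := mul_mem (E.P_le_cP (show (z : G) ∈ (P : Subgroup G) from hz))
          (((hker _).1 hzB).1)
        simpa [mul_assoc] using hzb
      obtain ⟨i, hi⟩ := IsPGroup.iff_orderOf.1 P.isPGroup' ⟨p, hp'⟩
      refine mem_of_twoPow P (k := i) ?_ (cP_le_nP (by simpa using hcA))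
      rw [← hi, ← Subgroup.orderOf_coe]
      exact orderOf_injective (MulAut.conj (w : G)).toMonoidHom (MulAut.conj (w : G)).injective p
    obtain ⟨d₁, hd₁, hd₁B⟩ : ∃ d ∈ D, g₂ * d * g₂⁻¹ ∉ B := by
      by_contra h
      push Not at h
      let f : D → B := fun d => ⟨g₂ * d * g₂⁻¹, h d d.2⟩
      have hinj : Function.Injective f := fun x y hxy =>
        Subtype.ext ((MulAut.conj g₂).injective (congrArg (fun z : B => (z : G)) hxy :))
      have h5 := Nat.card_le_card_of_injective f hinj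
      rw [hcardD] at h5
      have h6 : 0 < Nat.card B := Nat.card_pos
      have := E.three_le_invCount
      nlinarith
    have hodd₁ : Odd (orderOf (g₂ * d₁ * g₂⁻¹)) := by
      rw [show g₂ * d₁ * g₂⁻¹ = (MulAut.conj g₂).toMonoidHom d₁ from rfl,
        orderOf_injective (MulAut.conj g₂).toMonoidHom (MulAut.conj g₂).injective]
      exact E.odd_twoPoint huH hd₁
    obtain ⟨p₂, hp₂, hp₂D, hp₂B⟩ := hconj _ (hW₂ d₁ hd₁) hodd₁ hd₁B
    set g₃ := p₂ * g₂ with hg₃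
    have hg₃D : ∀ d ∈ D, g₃ * d * g₃⁻¹ ∈ D := by
      intro d hdD
      have hh : g₃ * d * g₃⁻¹ ∈ nP P := by
        rw [show g₃ * d * g₃⁻¹ = p₂ * (g₂ * d * g₂⁻¹) * p₂⁻¹ by rw [hg₃]; group]
        exact mul_mem (mul_mem (Subgroup.le_normalizer hp₂) (hW₂ d hdD)) (inv_mem (Subgroup.le_normalizer hp₂))
      have hd₃ : p₂ * (g₂ * d₁ * g₂⁻¹) * p₂⁻¹ = g₃ * d₁ * g₃⁻¹ := by rw [hg₃]; group
      rw [hd₃] at hp₂D hp₂B
      refine hCD _ hp₂D hp₂B _ hh ?_
      calc g₃ * d * g₃⁻¹ * (g₃ * d₁ * g₃⁻¹) = g₃ * (d * d₁) * g₃⁻¹ := by group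
        _ = g₃ * (d₁ * d) * g₃⁻¹ := by rw [hDcomm d hdD d₁ hd₁]
        _ = g₃ * d₁ * g₃⁻¹ * (g₃ * d * g₃⁻¹) := by group
    have hg₃L := hN g₃ hg₃D
    apply hgL
    have := mul_mem (mul_mem (inv_mem (mul_mem (hPL hp₂) l.2)) hg₃L) (hPL hp)
    rw [hg₃, hg₂, hg'] at this
    simpa [mul_assoc] using this
  -- outside `L` the two-point stabilisers are inverted
  have hinvout : ∀ v : G, orderOf v = 2 → v ∉ L →
      ∀ d ∈ nP P ⊓ (nP P).map (MulAut.conj v).toMonoidHom, v * d * v⁻¹ = d⁻¹ := by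
    intro v hv hvL d hd
    have hvH : v ∉ nP P := fun h => hvL (hHL h)
    refine E.eq_one_of_free hv hvH (fun e he heA => ?_) hd
    by_contra he1
    refine hnofix v hvL e ⟨heA, E.odd_twoPoint hvH he⟩ he1 ?_
    obtain ⟨-, x, hx, hxe⟩ := he
    have hxe' : v * x * v⁻¹ = e := hxe
    rw [← hxe']
    simpa [mul_assoc] using hx
  obtain ⟨g, hgL⟩ : ∃ g, g ∉ L := by
    by_contra h
    push Not at h
    exact hLtop (eq_top_iff.2 fun g _ => h g)
  obtain ⟨v, hv, hvg⟩ := E.exists_swapper (x := basePt P) (y := g • basePt P)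
    fun h => hgL (hHL (E.smul_basePt_eq_iff.1 h.symm))
  have hvL : v ∉ L := fun h => hgL (by
    have h' : v⁻¹ * g ∈ nP P := E.smul_basePt_eq_iff.1 (by rw [mul_smul, ← hvg, inv_smul_smul])
    have := mul_mem h (hHL h')
    rwa [mul_inv_cancel_left] at this)
  have hvH : v ∉ nP P := fun h => hvL (hHL h)
  obtain ⟨x₁, hx₁, hx₁1⟩ : ∃ x ∈ invSet P v, x ≠ 1 := by
    by_contra h
    push Not at h
    have hs : Subsingleton (invSet P v) := ⟨fun a b => Subtype.ext ((h a a.2).trans (h b b.2).symm)⟩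
    have := Finite.card_le_one_iff_subsingleton.2 hs
    rw [E.card_invSet hv hvH] at this
    have := E.three_le_invCount
    omega
  obtain ⟨p, hp, hpD, hpB⟩ := hconj x₁ hx₁.1.1 (E.odd_twoPoint hvH hx₁.1)
    fun h => hx₁1 (E.eq_one_of_invSet_cP hv hvH hx₁ h.1)
  set x := p * x₁ * p⁻¹ with hx
  set v₁ := p * v * p⁻¹ with hv₁
  have hv₁2 : orderOf v₁ = 2 :=
    (orderOf_injective (MulAut.conj p).toMonoidHom (MulAut.conj p).injective v).trans hv
  have hv₁L : v₁ ∉ L := fun h => hvL (by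
    have := mul_mem (mul_mem (inv_mem (hPL hp)) h) (hPL hp)
    rw [hv₁] at this
    simpa [mul_assoc] using this)
  have hv₁x : v₁ * x * v₁⁻¹ = x⁻¹ := by
    calc v₁ * x * v₁⁻¹ = p * (v * x₁ * v⁻¹) * p⁻¹ := by rw [hx, hv₁]; group
      _ = x⁻¹ := by rw [hx₁.2, hx]; group
  have hv₁v : v₁ * v₁ = 1 := by rw [← sq, ← hv₁2]; exact pow_orderOf_eq_one v₁
  have hv₁i : v₁⁻¹ = v₁ := inv_eq_of_mul_eq_one_right hv₁v
  -- the point `y = v₁ • pt` is fixed by `x`
  have hxy : x • v₁ • basePt P = v₁ • basePt P := by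
    refine (E.mem_twoPoint.1 ⟨hpD.1, x⁻¹, inv_mem hpD.1, ?_⟩).2
    show v₁ * x⁻¹ * v₁⁻¹ = x
    rw [show v₁ * x⁻¹ * v₁⁻¹ = (v₁ * x * v₁⁻¹)⁻¹ by group, hv₁x, inv_inv]
  obtain ⟨w', hw', hw'y⟩ := E.exists_swapper (x := basePt P) (y := u • v₁ • basePt P) fun h => hv₁L (by
    have h' : u * v₁ ∈ L := hHL (E.smul_basePt_eq_iff.1 (by rw [mul_smul, ← h]))
    have := mul_mem (inv_mem huL) h'
    rwa [inv_mul_cancel_left] at this)
  have hw'L : w' ∉ L := fun h => hv₁L (by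
    have h1 : w'⁻¹ * (u * v₁) ∈ L :=
      hHL (E.smul_basePt_eq_iff.1 (by rw [mul_smul, mul_smul, ← hw'y, inv_smul_smul]))
    have := mul_mem (inv_mem huL) (mul_mem h h1)
    rwa [mul_inv_cancel_left, inv_mul_cancel_left] at this)
  have hx'D : u * x * u⁻¹ ∈ D := swap_mem_twoPoint hu hpD
  have hw'x : w' * (u * x * u⁻¹) * w'⁻¹ = (u * x * u⁻¹)⁻¹ := by
    refine hinvout w' hw' hw'L _ (E.mem_twoPoint.2 ⟨E.smul_basePt_eq_iff.2 hx'D.1, ?_⟩)
    rw [hw'y, mul_smul, mul_smul, inv_smul_smul, hxy]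
  set w := u * w' * u⁻¹ with hw
  have hw2 : orderOf w = 2 :=
    (orderOf_injective (MulAut.conj u).toMonoidHom (MulAut.conj u).injective w').trans hw'
  have hwx : w * x * w⁻¹ = x⁻¹ := by
    calc w * x * w⁻¹ = u * w' * (u⁻¹ * x * u) * w'⁻¹ * u⁻¹ := by rw [hw]; group
      _ = u * (w' * (u * x * u⁻¹) * w'⁻¹) * u⁻¹ := by rw [hui]; group
      _ = u * (u * x * u⁻¹)⁻¹ * u⁻¹ := by rw [hw'x]
      _ = (u * u) * x⁻¹ * (u * u)⁻¹ := by group
      _ = x⁻¹ := by rw [huu]; group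
  have hwy : w • u • basePt P = v₁ • basePt P := by
    rw [hw, mul_smul, mul_smul, inv_smul_smul, hw'y, ← mul_smul, huu, one_smul]
  set r := w * v₁ with hr
  have hrx : r * x * r⁻¹ = x := by
    calc r * x * r⁻¹ = w * (v₁ * x * v₁⁻¹) * w⁻¹ := by rw [hr]; group
      _ = (w * x * w⁻¹)⁻¹ := by rw [hv₁x]; group
      _ = x := by rw [hwx, inv_inv]
  have hrpt : r • basePt P = u • basePt P := by
    rw [hr, mul_smul]; exact CfsgLib.TwoFusion.smul_swap hw2 hwy
  have hhH : u * r ∈ nP P := E.smul_basePt_eq_iff.1 (by rw [mul_smul, hrpt, ← mul_smul, huu, one_smul])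
  have hhx : u * r * x * (u * r)⁻¹ = u * x * u⁻¹ := by
    calc u * r * x * (u * r)⁻¹ = u * (r * x * r⁻¹) * u⁻¹ := by group
      _ = u * x * u⁻¹ := by rw [hrx]
  obtain ⟨e, he, q, hq', heq⟩ := hDfac _ hhH
  have hqx : q * x * q⁻¹ = u * x * u⁻¹ := by
    have h1 : e * (q * x * q⁻¹) * e⁻¹ = u * x * u⁻¹ := by
      rw [← hhx, heq]; group
    calc q * x * q⁻¹ = e⁻¹ * (e * (q * x * q⁻¹) * e⁻¹) * e := by group
      _ = e⁻¹ * ((u * x * u⁻¹) * e) := by rw [h1]; group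
      _ = e⁻¹ * (e * (u * x * u⁻¹)) := by rw [hDcomm _ hx'D e he]
      _ = u * x * u⁻¹ := by group
  have h4 : q * x * q⁻¹ * x⁻¹ = 1 := by
    refine hDP _ ?_ ?_
    · rw [hqx]; exact mul_mem hx'D (inv_mem hpD)
    · rw [show q * x * q⁻¹ * x⁻¹ = q * (x * q⁻¹ * x⁻¹) by group]
      exact mul_mem hq' ((Subgroup.mem_normalizer_iff.1 hpD.1 _).1 (inv_mem hq'))
  rw [hqx, mul_inv_eq_one] at h4
  exact hpB (hDfix x hpD h4)

end CAHyp

end CfsgLib.OutAut
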