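import Mathlib
import Cfsg.Agent.Lib.OutAut.CAInvFree
import Cfsg.Agent.Lib.OutAut.CAInvProper

/-!
Groups with a noncyclic nonnormal Sylow 2-subgroup in which the centraliser of every involution is
abelian are `SL₂(2ⁿ)` times an abelian group of odd order: induction through the centre.
-/

set_option autoImplicit false
set_option linter.style.haveILetI false
set_option linter.unusedSectionVars false

open scoped MatrixGroups

namespace CfsgLib.OutAut

universe u

theorem odd_card_of_no_involution {A : Type*} [Group A] [Finite A]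
    (h : ∀ t : A, orderOf t ≠ 2) : Odd (Nat.card A) := by
  haveI : Fact (Nat.Prime 2) := ⟨Nat.prime_two⟩
  by_contra hodd
  obtain ⟨t, ht⟩ := exists_prime_orderOf_dvd_card' (G := A) 2
    (even_iff_two_dvd.1 (Nat.not_odd_iff_even.1 hodd))
  exact h t ht

namespace CAHyp

variable {G : Type u} [Group G] [Finite G] {P : Sylow 2 G} (E : CAHyp P)
include E

theorem not_central_involution {t : G} (ht : orderOf t = 2) : t ∉ Subgroup.center G := by
  intro hc
  refine E.notNormal ⟨fun p hp g => ?_⟩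
  have h1 : g * p = p * g :=
    E.commute_of_cent ht (Subgroup.mem_center_iff.1 hc g) (Subgroup.mem_center_iff.1 hc p)
  rw [h1, mul_inv_cancel_right]
  exact hp

theorem odd_center : Odd (Nat.card (Subgroup.center G)) :=
  odd_card_of_no_involution fun t ht =>
    E.not_central_involution (t := (t : G)) (by rw [Subgroup.orderOf_coe]; exact ht) t.2

theorem eq_one_of_center_twoPow {z : G} (hz : z ∈ Subgroup.center G) {i : ℕ}
    (h : z ^ 2 ^ i = 1) : z = 1 := by
  have h2 : orderOf z ∣ Nat.card (Subgroup.center G) := by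
    have h' := orderOf_dvd_natCard (⟨z, hz⟩ : Subgroup.center G)
    rwa [← Subgroup.orderOf_coe] at h'
  exact orderOf_eq_one_iff.1 (Nat.eq_one_of_dvd_coprimes
    ((Nat.coprime_two_left.2 E.odd_center).pow_left i) (orderOf_dvd_of_pow_eq_one h) h2)

theorem exists_twoPow {p : G} (hp : p ∈ (P : Subgroup G)) : ∃ i : ℕ, p ^ 2 ^ i = 1 := by
  obtain ⟨i, hi⟩ := P.isPGroup' ⟨p, hp⟩
  exact ⟨i, by simpa using congrArg Subtype.val hi⟩

theorem quot_hyp [Fact (Nat.Prime 2)] :
    CAHyp (P.mapSurjective (QuotientGroup.mk'_surjective (Subgroup.center G))) := by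
  set Z := Subgroup.center G with hZ
  have hmem : ∀ q : G ⧸ Z, q ∈ (P.mapSurjective (QuotientGroup.mk'_surjective Z) :
      Sylow 2 (G ⧸ Z)) ↔ ∃ p ∈ (P : Subgroup G), QuotientGroup.mk' Z p = q := fun q => by
    exact Iff.rfl
  refine ⟨fun hc => E.notCyclic ?_, fun hn => E.notNormal ⟨fun p hp g => ?_⟩, fun t ht => ?_⟩
  · let f : (P : Subgroup G) →*
        ↥((P.mapSurjective (QuotientGroup.mk'_surjective Z) : Sylow 2 (G ⧸ Z)) : Subgroup (G ⧸ Z)) :=
      ((QuotientGroup.mk' Z).comp (P : Subgroup G).subtype).codRestrict _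
        fun p => (hmem _).2 ⟨p, p.2, rfl⟩
    refine isCyclic_of_injective f ((injective_iff_map_eq_one _).2 fun p hp => Subtype.ext ?_)
    obtain ⟨i, hi⟩ := E.exists_twoPow p.2
    exact E.eq_one_of_center_twoPow
      ((QuotientGroup.eq_one_iff _).1 (congrArg Subtype.val hp)) hi
  · obtain ⟨p', hp', he⟩ :=
      (hmem _).1 (hn.conj_mem (QuotientGroup.mk' Z p) ((hmem _).2 ⟨p, hp, rfl⟩) (QuotientGroup.mk' Z g))
    rw [← map_inv, ← map_mul, ← map_mul] at he
    obtain ⟨z, hz, hz'⟩ := (QuotientGroup.mk'_eq_mk' (N := Z)).1 he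
    obtain ⟨i, hi⟩ := E.exists_twoPow hp
    obtain ⟨j, hj⟩ := E.exists_twoPow hp'
    have hpz : (p' * z) ^ 2 ^ (i + j) = 1 := by
      rw [hz', conj_pow, pow_add, pow_mul, hi, one_pow, mul_one, mul_inv_cancel]
    have hz1 : z = 1 := E.eq_one_of_center_twoPow hz (i := i + j) (by
      rw [(show Commute p' z from Subgroup.mem_center_iff.1 hz p').mul_pow, pow_add, mul_comm (2 ^ i),
        pow_mul, hj, one_pow, one_mul] at hpz
      rw [pow_add, mul_comm]; exact hpz)
    rw [← hz', hz1, mul_one]; exact hp'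
  · obtain ⟨x, rfl⟩ := QuotientGroup.mk'_surjective Z t
    have hx2 : x ^ 2 ∈ Z := by
      rw [← QuotientGroup.eq_one_iff, QuotientGroup.mk_pow]
      have := pow_orderOf_eq_one (QuotientGroup.mk' Z x)
      rwa [ht] at this
    set m := Nat.card Z with hm
    have hs : QuotientGroup.mk' Z (x ^ m) = QuotientGroup.mk' Z x := by
      obtain ⟨k, hk⟩ := E.odd_center
      rw [show m = 2 * k + 1 from hk, map_pow, pow_succ, pow_mul]
      have := pow_orderOf_eq_one (QuotientGroup.mk' Z x)
      rw [ht] at this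
      rw [this, one_pow, one_mul]
    have hs2 : (x ^ m) ^ 2 = 1 := by
      rw [← pow_mul, mul_comm, pow_mul]
      exact congrArg Subtype.val (pow_card_eq_one' (G := Z) (x := ⟨x ^ 2, hx2⟩))
    have hs0 : x ^ m ≠ 1 := fun h => by
      rw [h, map_one] at hs
      rw [← hs, orderOf_one] at ht
      exact absurd ht (by norm_num)
    haveI := E.comm (x ^ m) (orderOf_eq_prime hs2 hs0)
    have key : ∀ g : G, QuotientGroup.mk' Z g * QuotientGroup.mk' Z x =
        QuotientGroup.mk' Z x * QuotientGroup.mk' Z g → g ∈ Subgroup.centralizer ({x ^ m} : Set G) := by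
      intro g hg
      rw [← hs, ← map_mul, ← map_mul] at hg
      obtain ⟨z, hz, hz'⟩ := (QuotientGroup.mk'_eq_mk' (N := Z)).1 hg.symm
      have hc : g * x ^ m * g⁻¹ = x ^ m * z := by
        rw [← hz', mul_assoc (x ^ m) g z, Subgroup.mem_center_iff.1 hz g]; group
      have h1 : (x ^ m * z) ^ 2 = 1 := by rw [← hc, conj_pow, hs2, mul_one, mul_inv_cancel]
      rw [(show Commute (x ^ m) z from Subgroup.mem_center_iff.1 hz (x ^ m)).mul_pow, hs2, one_mul] at h1
      have hz1 : z = 1 := E.eq_one_of_center_twoPow hz (i := 1) (by simpa using h1)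
      rw [hz1, mul_one] at hc
      exact Subgroup.mem_centralizer_singleton_iff.2 (mul_inv_eq_iff_eq_mul.1 hc)
    refine ⟨⟨fun a b => ?_⟩⟩
    obtain ⟨a, ha⟩ := a
    obtain ⟨b, hb⟩ := b
    obtain ⟨g, rfl⟩ := QuotientGroup.mk'_surjective Z a
    obtain ⟨g', rfl⟩ := QuotientGroup.mk'_surjective Z b
    apply Subtype.ext
    show QuotientGroup.mk' Z g * QuotientGroup.mk' Z g' = QuotientGroup.mk' Z g' * QuotientGroup.mk' Z g
    rw [← map_mul, ← map_mul]
    exact congrArg _ (congrArg Subtype.val (mul_comm'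
      (⟨g, key g (Subgroup.mem_centralizer_singleton_iff.1 ha)⟩ :
        Subgroup.centralizer ({x ^ m} : Set G))
      ⟨g', key g' (Subgroup.mem_centralizer_singleton_iff.1 hb)⟩))

/-- A central element of the derived subgroup is trivial when the odd Sylow subgroups of a central
quotient are cyclic. -/
theorem eq_one_of_mem_commutator {S : Type*} [Group S] [Finite S] (ψ : G →* S)
    (hψ : Function.Surjective ψ) (hK : ψ.ker ≤ Subgroup.center G)
    (hcyc : ∀ (ℓ : ℕ) [Fact ℓ.Prime], ℓ ≠ 2 → ∀ T : Sylow ℓ S, IsCyclic T)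
    {z : G} (hzK : z ∈ ψ.ker) (hzC : z ∈ commutator G) : z = 1 := by
  by_contra hz1
  obtain ⟨p, hp, k, hk⟩ := Nat.exists_prime_and_dvd (fun h => hz1 (orderOf_eq_one_iff.1 h))
  haveI : Fact p.Prime := ⟨hp⟩
  have hk0 : 0 < k := by
    have := orderOf_pos z
    rw [hk] at this
    exact pos_of_mul_pos_right this (Nat.zero_le _)
  set w := z ^ k with hw
  have hwo : orderOf w = p := by
    rw [hw, orderOf_pow' z hk0.ne', hk, Nat.gcd_mul_left_left, Nat.mul_div_cancel _ hk0]
  have hwK : w ∈ ψ.ker := pow_mem hzK k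
  have hwC : w ∈ commutator G := pow_mem hzC k
  have hp2 : p ≠ 2 := by
    rintro rfl
    exact E.not_central_involution hwo (hK hwK)
  obtain ⟨T, hT⟩ := IsPGroup.exists_le_sylow
    (show IsPGroup p (Subgroup.zpowers w) from IsPGroup.of_card (n := 1) (by rw [Nat.card_zpowers, hwo, pow_one]))
  haveI : IsCyclic (((T : Subgroup G)).map ψ) := by
    have := hcyc p hp2 (T.mapSurjective hψ)
    rw [← Sylow.coe_mapSurjective hψ]; exact this
  have hab : ∀ a b : T, a * b = b * a := fun a b => by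
    refine commutative_of_cyclic_center_quotient (ψ.subgroupMap (T : Subgroup G)) (fun c hc => ?_) a b
    refine Subgroup.mem_center_iff.2 fun d => Subtype.ext ?_
    exact Subgroup.mem_center_iff.1 (hK (show ψ c = 1 from congrArg Subtype.val hc)) d
  letI : CommGroup T := { (inferInstance : Group T) with mul_comm := hab }
  let τ : G →* T := MonoidHom.transfer (MonoidHom.id T)
  have hwT : w ∈ (T : Subgroup G) := hT (Subgroup.mem_zpowers w)
  have hτ1 : τ w = 1 := Abelianization.commutator_subset_ker τ hwC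
  have hτ2 := MonoidHom.transfer_eq_pow (MonoidHom.id T) w (fun j g₀ _ => by
    rw [mul_assoc, ← Subgroup.mem_center_iff.1 (pow_mem (hK hwK) j) g₀, inv_mul_cancel_left])
  have hpow : w ^ (T : Subgroup G).index = 1 := by
    have h := congrArg Subtype.val (hτ1.symm.trans hτ2)
    simpa using h.symm
  have h5 := orderOf_dvd_of_pow_eq_one hpow
  rw [hwo] at h5
  exact T.not_dvd_index h5

theorem center_case (IH : ∀ Q : Sylow 2 (G ⧸ Subgroup.center G), CAHyp Q →
    SLTwoTimesOdd (G ⧸ Subgroup.center G)) : SLTwoTimesOdd G := by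
  haveI : Fact (Nat.Prime 2) := ⟨Nat.prime_two⟩
  set Z := Subgroup.center G with hZ
  obtain ⟨F, iF, iFt, B, iB, iBf, hchar, hB, ⟨φ⟩⟩ := IH _ E.quot_hyp
  have h2 : (2 : F) = 0 := by simpa using CharP.cast_eq_zero F 2
  let ψ : G →* SL(2, F) :=
    ((MonoidHom.fst _ _).comp φ.toMonoidHom).comp (QuotientGroup.mk' Z)
  have hψ : Function.Surjective ψ := fun s => by
    obtain ⟨g, hg⟩ := QuotientGroup.mk'_surjective Z (φ.symm (s, 1))
    exact ⟨g, show (φ (QuotientGroup.mk' Z g)).1 = s by rw [hg, φ.apply_symm_apply]⟩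
  have hPinj : ∀ p ∈ (P : Subgroup G), ψ p = 1 → p = 1 := by
    intro p hp hp1
    obtain ⟨i, hi⟩ := E.exists_twoPow hp
    refine E.eq_one_of_center_twoPow ((QuotientGroup.eq_one_iff p).1 ?_) hi
    apply φ.injective
    rw [map_one]
    refine Prod.ext hp1 (orderOf_eq_one_iff.1 (Nat.eq_one_of_dvd_coprimes
      ((Nat.coprime_two_left.2 hB).pow_left i) (orderOf_dvd_of_pow_eq_one ?_) (orderOf_dvd_natCard _)))
    rw [← Prod.pow_snd, ← map_pow, ← QuotientGroup.mk_pow, hi, QuotientGroup.mk_one, map_one,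
      Prod.snd_one]
  have hq : 4 ≤ Nat.card F := by
    obtain ⟨n, hn, hn2⟩ := SLEven.exists_two_pow (F := F) h2
    rcases Nat.lt_or_ge n 2 with hlt | hge
    · exfalso
      obtain ⟨T, hT⟩ := IsPGroup.exists_le_sylow (P.isPGroup'.map ψ)
      have hTc : Nat.card T = 2 := by
        rw [(SLEven.sylow_conj_upSub h2 T).1, hn2, show n = 1 by omega, pow_one]
      haveI : IsCyclic T := isCyclic_of_prime_card hTc
      refine E.notCyclic (isCyclic_of_injective
        ((ψ.comp (P : Subgroup G).subtype).codRestrict (T : Subgroup SL(2, F))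
          fun p => hT ⟨p, p.2, rfl⟩) ((injective_iff_map_eq_one _).2 fun p hp =>
          Subtype.ext (hPinj p p.2 (congrArg Subtype.val hp))))
    · rw [hn2]
      calc (4 : ℕ) = 2 ^ 2 := rfl
        _ ≤ 2 ^ n := Nat.pow_le_pow_right two_pos hge
  obtain ⟨hsimp, hperf⟩ := SLEven.simple_perfect h2 hq
  have hKcP : ψ.ker ≤ cP P := by
    intro k hk
    refine Subgroup.mem_centralizer_iff.2 fun p hp => ?_
    have hz : k * p * k⁻¹ * p⁻¹ ∈ Z := by
      rw [← QuotientGroup.eq_one_iff]
      have hc : QuotientGroup.mk' Z k * QuotientGroup.mk' Z p =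
          QuotientGroup.mk' Z p * QuotientGroup.mk' Z k := by
        apply φ.injective
        have hk1 : (φ (QuotientGroup.mk' Z k)).1 = 1 := hk
        rw [map_mul, map_mul]
        exact Prod.ext (by rw [Prod.fst_mul, Prod.fst_mul, hk1, one_mul, mul_one]) (mul_comm _ _)
      show QuotientGroup.mk' Z (k * p * k⁻¹ * p⁻¹) = 1
      rw [map_mul, map_mul, map_mul, hc, mul_assoc, mul_assoc, ← mul_assoc (QuotientGroup.mk' Z k),
        ← map_mul _ k, mul_inv_cancel, map_one, one_mul, ← map_mul, mul_inv_cancel, map_one]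
    obtain ⟨i, hi⟩ := E.exists_twoPow hp
    have h1 : k * p * k⁻¹ * p⁻¹ = 1 := by
      refine E.eq_one_of_center_twoPow hz (i := i) ?_
      have hcp : Commute (k * p * k⁻¹ * p⁻¹) p := (Subgroup.mem_center_iff.1 hz p).symm
      have h3 := hcp.mul_pow (2 ^ i)
      rw [show k * p * k⁻¹ * p⁻¹ * p = k * p * k⁻¹ by group, conj_pow, hi, mul_one,
        mul_inv_cancel, mul_one] at h3
      exact h3.symm
    calc p * k = (k * p * k⁻¹ * p⁻¹) * p * k := by rw [h1, one_mul]
      _ = k * p := by group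
  have hKZ : ψ.ker ≤ Z := by
    intro k hk
    set C := Subgroup.centralizer (ψ.ker : Set G) with hC
    haveI : (C.map ψ).Normal := Subgroup.Normal.map inferInstance ψ hψ
    have hne : C.map ψ ≠ ⊥ := by
      intro h
      obtain ⟨z, hz, hzP, -⟩ := E.exists_involution_le
      have hzC : z ∈ C := Subgroup.mem_centralizer_iff.2 fun l hl =>
        (Subgroup.mem_centralizer_iff.1 (hKcP hl) z hzP).symm
      have h1 := hPinj z hzP ((Subgroup.eq_bot_iff_forall _).1 h _ ⟨z, hzC, rfl⟩)
      rw [h1, orderOf_one] at hz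
      exact absurd hz (by norm_num)
    have htop : C.map ψ = ⊤ :=
      (IsSimpleGroup.eq_bot_or_eq_top_of_normal (C.map ψ) inferInstance).resolve_left hne
    refine Subgroup.mem_center_iff.2 fun g => ?_
    obtain ⟨c, hc, hcg⟩ : ψ g ∈ C.map ψ := htop ▸ Subgroup.mem_top _
    have hl : c⁻¹ * g ∈ ψ.ker := by simp [MonoidHom.mem_ker, hcg]
    have h1 : (c⁻¹ * g) * k = k * (c⁻¹ * g) := E.cP_comm (hKcP hl) (hKcP hk)
    have h3 : k * c = c * k := Subgroup.mem_centralizer_iff.1 hc k hk
    calc g * k = c * ((c⁻¹ * g) * k) := by group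
      _ = (c * k) * (c⁻¹ * g) := by rw [h1]; group
      _ = k * g := by rw [← h3]; group
  have hdisj : ∀ z ∈ commutator G, ψ z = 1 → z = 1 := fun z hz hz1 =>
    E.eq_one_of_mem_commutator ψ hψ hKZ (fun ℓ _ hℓ T => SLEven.sylow_cyclic h2 hℓ T) hz1 hz
  have hsurj : ∀ s : SL(2, F), ∃ g ∈ commutator G, ψ g = s := by
    intro s
    have h : (commutator G).map ψ = ⊤ := by
      rw [commutator_def, Subgroup.map_commutator, ← MonoidHom.range_eq_map,
        MonoidHom.range_eq_top.2 hψ, ← commutator_def, hperf]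
    exact Subgroup.mem_map.1 (h ▸ Subgroup.mem_top s)
  let e : commutator G ≃* SL(2, F) := MulEquiv.ofBijective (ψ.comp (commutator G).subtype)
    ⟨(injective_iff_map_eq_one _).2 fun g hg => Subtype.ext (hdisj g g.2 hg),
      fun s => let ⟨g, hg, h⟩ := hsurj s; ⟨⟨g, hg⟩, h⟩⟩
  letI : CommGroup ψ.ker :=
    { (inferInstance : Group ψ.ker) with
      mul_comm := fun a b => Subtype.ext (E.cP_comm (hKcP a.2) (hKcP b.2)) }
  have he : ∀ g : commutator G, e g = ψ g := fun _ => rfl
  have hes : ∀ s : SL(2, F), ψ (e.symm s : G) = s := fun s => by rw [← he, e.apply_symm_apply]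
  let Φ : SL(2, F) × ψ.ker →* G :=
    MonoidHom.mk' (fun x => (e.symm x.1 : G) * (x.2 : G)) (fun x y => by
      simp only [Prod.fst_mul, Prod.snd_mul, map_mul, Subgroup.coe_mul]
      rw [mul_assoc (e.symm x.1 : G), ← mul_assoc (e.symm y.1 : G),
        Subgroup.mem_center_iff.1 (hKZ x.2.2) (e.symm y.1 : G)]
      group)
  have hΦ1 : Function.Injective Φ := (injective_iff_map_eq_one _).2 fun x hx => by
    have hx' : (e.symm x.1 : G) * (x.2 : G) = 1 := hx
    have h1 : x.1 = 1 := by
      have := congrArg ψ hx'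
      rwa [map_mul, hes, show ψ (x.2 : G) = 1 from x.2.2, mul_one, map_one] at this
    rw [h1, map_one, Subgroup.coe_one, one_mul] at hx'
    exact Prod.ext h1 (Subtype.ext hx')
  have hΦ2 : Function.Surjective Φ := fun g =>
    ⟨(ψ g, ⟨(e.symm (ψ g) : G)⁻¹ * g, by simp [MonoidHom.mem_ker, hes]⟩),
      mul_inv_cancel_left _ _⟩
  haveI : Small.{0} ψ.ker := inferInstance
  refine ⟨F, iF, iFt, Shrink.{0} ψ.ker, inferInstance,
    Finite.of_equiv _ (equivShrink ψ.ker), hchar, ?_,
    ⟨(MulEquiv.ofBijective Φ ⟨hΦ1, hΦ2⟩).symm.trans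
      (MulEquiv.prodCongr (MulEquiv.refl _) (Shrink.mulEquiv (α := ψ.ker)).symm)⟩⟩
  rw [← Nat.card_congr (equivShrink ψ.ker)]
  exact odd_card_of_no_involution fun t ht => E.not_central_involution (t := (t : G))
    (by rw [Subgroup.orderOf_coe]; exact ht) (hKZ t.2)

end CAHyp

theorem caHyp_main (n : ℕ) : ∀ (G : Type u) [Group G] [Finite G], Nat.card G = n →
    ∀ P : Sylow 2 G, CAHyp P → SLTwoTimesOdd G := by
  induction n using Nat.strong_induction_on with
  | _ n ih =>
    intro G _ _ hn P E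
    by_cases hZ : ∀ g : G, g ≠ 1 → Subgroup.centralizer ({g} : Set G) ≠ ⊤
    · refine E.free_model fun a ha ha1 => ?_
      by_contra hC
      refine E.no_proper (fun L hL Q hQ => ih _ ?_ L rfl Q hQ) hZ (E.odd_of_centralizer ha hC) ha1 hC
      rw [← hn]
      exact lt_of_le_of_ne (Subgroup.card_le_card_group L) fun h =>
        hL (Subgroup.card_eq_iff_eq_top _ |>.1 h)
    · push Not at hZ
      obtain ⟨g, hg1, hg⟩ := hZ
      refine E.center_case fun Q hQ => ih _ ?_ _ rfl Q hQ
      rw [← hn, Subgroup.card_eq_card_quotient_mul_card_subgroup (Subgroup.center G)]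
      have hne : Subgroup.center G ≠ ⊥ := fun h => hg1 ((Subgroup.eq_bot_iff_forall _).1 h g
        (Subgroup.mem_center_iff.2 fun x =>
          Subgroup.mem_centralizer_singleton_iff.1 (hg ▸ Subgroup.mem_top x)))
      exact lt_mul_of_one_lt_right Nat.card_pos ((Subgroup.one_lt_card_iff_ne_bot _).2 hne)

end CfsgLib.OutAut
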