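import Mathlib

/-!
Numerical bounds for nilpotent permutation groups: the exponent `e2 n` of two in `n!`, the bound
`H n` (twice the largest order of a nilpotent subgroup of `Sym n`) and the bound `Tr n` for
transitive nilpotent groups.
-/

set_option autoImplicit false

namespace CfsgLib.OutAut.NilArith

open Nat (factorial)

/-- The exponent of two in `n!`. -/
def e2 (n : ℕ) : ℕ := (factorial n).factorization 2

theorem e2_zero : e2 0 = 0 := by simp [e2]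

theorem e2_one : e2 1 = 0 := by simp [e2]

theorem e2_double (n : ℕ) : e2 (2 * n) = n + e2 n := by
  rw [e2, Nat.factorization_factorial_mul Nat.prime_two, add_comm]; rfl

theorem e2_double_succ (n : ℕ) : e2 (2 * n + 1) = e2 (2 * n) := by
  rw [e2, e2, Nat.factorial_succ, Nat.factorization_mul (Nat.succ_ne_zero _) (Nat.factorial_ne_zero _),
    Finsupp.add_apply, Nat.factorization_eq_zero_of_not_dvd (by omega : ¬ 2 ∣ 2 * n + 1), zero_add]

theorem e2_add_le (a b : ℕ) : e2 a + e2 b ≤ e2 (a + b) := by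
  have h := (Nat.factorization_le_iff_dvd
    (Nat.mul_ne_zero (Nat.factorial_ne_zero a) (Nat.factorial_ne_zero b))
    (Nat.factorial_ne_zero (a + b))).2 (Nat.factorial_mul_factorial_dvd_factorial_add a b) 2
  rw [Nat.factorization_mul (Nat.factorial_ne_zero a) (Nat.factorial_ne_zero b), Finsupp.add_apply] at h
  exact h

theorem e2_mono {a b : ℕ} (h : a ≤ b) : e2 a ≤ e2 b := by
  obtain ⟨c, rfl⟩ := Nat.exists_eq_add_of_le h
  exact le_trans (Nat.le_add_right _ _) (e2_add_le a c)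

theorem e2_four (n : ℕ) : e2 n = 3 * (n / 4) + n % 4 / 2 + e2 (n / 4) := by
  obtain ⟨A, i, hi, rfl⟩ : ∃ A i, i < 4 ∧ n = 4 * A + i := ⟨n / 4, n % 4, by omega, by omega⟩
  rw [show (4 * A + i) / 4 = A by omega, show (4 * A + i) % 4 = i by omega]
  interval_cases i
  · rw [show 4 * A + 0 = 2 * (2 * A) by ring, e2_double, e2_double]; omega
  · rw [show 4 * A + 1 = 2 * (2 * A) + 1 by ring, e2_double_succ, e2_double, e2_double]; omega
  · rw [show 4 * A + 2 = 2 * (2 * A + 1) by ring, e2_double, e2_double_succ, e2_double]; omega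
  · rw [show 4 * A + 3 = 2 * (2 * A + 1) + 1 by ring, e2_double_succ, e2_double, e2_double_succ,
      e2_double]; omega

theorem e2_two_pow (k : ℕ) : e2 (2 ^ k) + 1 = 2 ^ k := by
  induction k with
  | zero => simp [e2_one]
  | succ k ih => rw [pow_succ', e2_double]; omega

theorem one_le_e2 {n : ℕ} (h : 2 ≤ n) : 1 ≤ e2 n := by
  refine le_trans ?_ (e2_mono h)
  rw [show (2 : ℕ) = 2 * 1 from rfl, e2_double]; omega

theorem two_pow_le_succ_mul (n : ℕ) : 2 ^ n ≤ (n + 1) * 2 ^ e2 n := by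
  induction n using Nat.strong_induction_on with
  | _ n ih =>
    rcases Nat.even_or_odd' n with ⟨k, rfl | rfl⟩
    · rcases Nat.eq_zero_or_pos k with rfl | hk
      · simp [e2_zero]
      have h := ih k (by omega)
      calc 2 ^ (2 * k) = 2 ^ k * 2 ^ k := by rw [← pow_add]; ring_nf
        _ ≤ 2 ^ k * ((k + 1) * 2 ^ e2 k) := Nat.mul_le_mul_left _ h
        _ ≤ 2 ^ k * ((2 * k + 1) * 2 ^ e2 k) := by
          exact Nat.mul_le_mul_left _ (Nat.mul_le_mul_right _ (by omega))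
        _ = (2 * k + 1) * 2 ^ e2 (2 * k) := by rw [e2_double, pow_add]; ring
    · have h := ih k (by omega)
      calc 2 ^ (2 * k + 1) = 2 * 2 ^ k * 2 ^ k := by rw [pow_succ, two_mul, pow_add]; ring
        _ ≤ 2 * 2 ^ k * ((k + 1) * 2 ^ e2 k) := Nat.mul_le_mul_left _ h
        _ = (2 * k + 1 + 1) * 2 ^ e2 (2 * k + 1) := by rw [e2_double_succ, e2_double, pow_add]; ring

theorem e2_pow_mul {r k : ℕ} : e2 (2 ^ k * r) + r = 2 ^ k * r + e2 r := by
  induction k with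
  | zero => simp [add_comm]
  | succ k ih => rw [pow_succ', mul_assoc, e2_double]; omega

/-! ### The bound -/

/-- The weight of a residue modulo four. -/
def w (n : ℕ) : ℕ := if n % 4 = 3 then 3 else 2

/-- Twice the largest order of a nilpotent subgroup of `Sym n`. -/
def H (n : ℕ) : ℕ := w n * 2 ^ e2 n

theorem H_pos (n : ℕ) : 0 < H n := by unfold H w; split <;> positivity

theorem two_mul_le_H (n : ℕ) : 2 * 2 ^ e2 n ≤ H n := by
  unfold H w; split <;> omega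

theorem H_of_ne {n : ℕ} (h : n % 4 ≠ 3) : H n = 2 * 2 ^ e2 n := by simp [H, w, h]

theorem H_of_three {n : ℕ} (h : n % 4 = 3) : H n = 2 * (3 * 2 ^ e2 (n - 3)) := by
  have h1 := e2_four n
  have h2 := e2_four (n - 3)
  rw [show (n - 3) / 4 = n / 4 by omega, show (n - 3) % 4 = 0 by omega] at h2
  rw [h] at h1
  simp [H, w, h, show e2 n = e2 (n - 3) + 1 by omega, pow_succ]
  ring

theorem H_super (a b : ℕ) : H a * H b ≤ 2 * H (a + b) ∧
    ((a + b) % 4 = 3 → H a * H b = 2 * H (a + b) →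
      (a % 4 = 3 ∧ b % 4 = 0) ∨ (a % 4 = 0 ∧ b % 4 = 3)) := by
  obtain ⟨A, i, hi, rfl⟩ : ∃ A i, i < 4 ∧ a = 4 * A + i := ⟨a / 4, a % 4, by omega, by omega⟩
  obtain ⟨B, j, hj, rfl⟩ : ∃ B j, j < 4 ∧ b = 4 * B + j := ⟨b / 4, b % 4, by omega, by omega⟩
  have h1 := e2_four (4 * A + i)
  have h2 := e2_four (4 * B + j)
  have h3 := e2_four (4 * A + i + (4 * B + j))
  have h4 := e2_add_le A B
  have h5 := e2_mono (show A + B ≤ (4 * A + i + (4 * B + j)) / 4 by omega)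
  rw [show (4 * A + i) / 4 = A by omega, show (4 * A + i) % 4 = i by omega] at h1
  rw [show (4 * B + j) / 4 = B by omega, show (4 * B + j) % 4 = j by omega] at h2
  simp only [H, w, show (4 * A + i) % 4 = i by omega, show (4 * B + j) % 4 = j by omega,
    show (4 * A + i + (4 * B + j)) % 4 = (i + j) % 4 by omega]
  rw [show (4 * A + i + (4 * B + j)) % 4 = (i + j) % 4 by omega] at h3
  generalize e2 (4 * A + i) = ea at *
  generalize e2 (4 * B + j) = eb at *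
  generalize e2 (4 * A + i + (4 * B + j)) = eab at *
  rw [mul_mul_mul_comm, ← pow_add]
  have hP : ∀ d : ℕ, ea + eb + d ≤ eab → 2 ^ (ea + eb) * 2 ^ d ≤ 2 ^ eab := fun d hd => by
    rw [← pow_add]; exact Nat.pow_le_pow_right two_pos hd
  have hpos : 0 < 2 ^ (ea + eb) := by positivity
  interval_cases i <;> interval_cases j <;> simp only [Nat.reduceAdd, Nat.reduceMod, Nat.reduceEqDiff,
    if_true, if_false, Nat.reduceMul] at *
  all_goals refine ⟨?_, ?_⟩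
  all_goals first
    | (simp; done)
    | omega
    | (have h := hP 3 (by omega); norm_num at h; omega)
    | (have h := hP 2 (by omega); norm_num at h; omega)
    | (have h := hP 1 (by omega); norm_num at h; omega)
    | (have h := hP 0 (by omega); norm_num at h; omega)

/-- Products of two bounded factors, with the case of equality. -/
theorem tight {c c₁ c₂ A B T k₁ k₂ : ℕ} (hc : c ≤ c₁ * c₂) (l₁ : k₁ * c₁ ≤ A) (l₂ : k₂ * c₂ ≤ B)
    (hT : A * B ≤ T) (hA : 0 < A) (hB : 0 < B) :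
    k₁ * k₂ * c ≤ T ∧
      (k₁ * k₂ * c = T → k₁ * c₁ = A ∧ k₂ * c₂ = B ∧ c = c₁ * c₂ ∧ A * B = T) := by
  have h1 : k₁ * k₂ * c ≤ k₁ * k₂ * (c₁ * c₂) := Nat.mul_le_mul_left _ hc
  have h2 : k₁ * k₂ * (c₁ * c₂) = k₁ * c₁ * (k₂ * c₂) := by ring
  have h3 : k₁ * c₁ * (k₂ * c₂) ≤ A * (k₂ * c₂) := Nat.mul_le_mul_right _ l₁
  have h4 : A * (k₂ * c₂) ≤ A * B := Nat.mul_le_mul_left _ l₂
  refine ⟨by omega, fun e => ?_⟩
  have e1 : A * (k₂ * c₂) = A * B := by omega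
  have e2 : k₂ * c₂ = B := Nat.eq_of_mul_eq_mul_left hA e1
  have e3 : k₁ * c₁ * (k₂ * c₂) = A * (k₂ * c₂) := by omega
  have e4 : k₁ * c₁ = A := by
    rw [e2] at e3; exact Nat.eq_of_mul_eq_mul_right hB e3
  refine ⟨e4, e2, ?_, by omega⟩
  have hk : 0 < k₁ * k₂ := by
    by_contra h
    have h0 : k₁ * k₂ = 0 := by omega
    rw [h0, zero_mul] at h2
    have : 0 < A * B := Nat.mul_pos hA hB
    omega
  exact Nat.eq_of_mul_eq_mul_left hk (by omega)

/-! ### Transitive groups -/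

/-- The bound for transitive nilpotent groups. -/
def Tr (m : ℕ) : ℕ :=
  ∏ p ∈ m.primeFactors, p ^ (factorial (p ^ m.factorization p)).factorization p

theorem Tr_one : Tr 1 = 1 := by simp [Tr]

theorem Tr_mul {a b : ℕ} (h : a.Coprime b) : Tr (a * b) = Tr a * Tr b := by
  have hd := Nat.Coprime.disjoint_primeFactors h
  rw [Tr, h.primeFactors_mul, Finset.prod_union hd]
  congr 1
  all_goals
    refine Finset.prod_congr rfl fun p hp => ?_
    rw [Nat.factorization_mul_of_coprime h, Finsupp.add_apply]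
  · rw [show b.factorization p = 0 from Finsupp.notMem_support_iff.1 (by
      rw [Nat.support_factorization]; exact Finset.disjoint_left.1 hd hp), add_zero]
  · rw [show a.factorization p = 0 from Finsupp.notMem_support_iff.1 (by
      rw [Nat.support_factorization]; exact Finset.disjoint_right.1 hd hp), zero_add]

theorem Tr_prime_pow {p k : ℕ} (hp : p.Prime) (hk : k ≠ 0) :
    Tr (p ^ k) = p ^ (factorial (p ^ k)).factorization p := by
  rw [Tr, Nat.primeFactors_prime_pow hk hp, Finset.prod_singleton, hp.factorization_pow,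
    Finsupp.single_eq_same]

theorem sub_one_mul_exp {p : ℕ} (hp : p.Prime) (k : ℕ) :
    (p - 1) * (factorial (p ^ k)).factorization p + 1 = p ^ k := by
  induction k with
  | zero => simp
  | succ k ih =>
    rw [pow_succ', Nat.factorization_factorial_mul hp, Nat.mul_add, add_right_comm, ih]
    obtain ⟨q, rfl⟩ : ∃ q, p = q + 1 := ⟨p - 1, by have := hp.pos; omega⟩
    rw [Nat.add_sub_cancel]; ring

theorem Tr_two_pow (k : ℕ) : Tr (2 ^ k) = 2 ^ e2 (2 ^ k) := by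
  rcases Nat.eq_zero_or_pos k with rfl | hk
  · simp [Tr_one, e2_one]
  · exact Tr_prime_pow Nat.prime_two hk.ne'

theorem sq_le_three_pow {p : ℕ} (hp : 3 ≤ p) : p ^ 2 ≤ 3 ^ (p - 1) := by
  induction p, hp using Nat.le_induction with
  | base => norm_num
  | succ n hn ih =>
    rw [show n + 1 - 1 = n - 1 + 1 by omega, pow_succ 3]
    nlinarith

theorem Tr_odd_sq : ∀ r : ℕ, Odd r → Tr r ^ 2 * 3 ≤ 3 ^ r := by
  intro r
  induction r using Nat.recOnPrimeCoprime with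
  | zero => simp
  | prime_pow p k hp =>
    intro hodd
    rcases Nat.eq_zero_or_pos k with rfl | hk
    · simp [Tr_one]
    have hp3 : 3 ≤ p := by
      have := hp.two_le
      rcases eq_or_ne p 2 with rfl | h
      · exact absurd hodd (Nat.not_odd_iff_even.2 (Nat.even_pow.2 ⟨even_two, hk.ne'⟩))
      · omega
    rw [Tr_prime_pow hp hk.ne']
    have he := sub_one_mul_exp hp k
    generalize (factorial (p ^ k)).factorization p = E at he ⊢
    rw [← he, pow_succ 3, ← pow_mul, mul_comm E 2, pow_mul, pow_mul 3]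
    exact Nat.mul_le_mul_right _ (Nat.pow_le_pow_left (sq_le_three_pow hp3) E)
  | coprime a b ha hb hab iha ihb =>
    intro hodd
    obtain ⟨h1, h2⟩ := Nat.odd_mul.1 hodd
    have := iha h1
    have := ihb h2
    rw [Tr_mul hab, mul_pow]
    refine le_trans (Nat.le_of_mul_le_mul_right ?_ (by norm_num : 0 < 3))
      (Nat.pow_le_pow_right (by norm_num) (show a + b - 1 ≤ a * b by
        obtain ⟨a, rfl⟩ : ∃ x, a = x + 1 := ⟨a - 1, by omega⟩
        obtain ⟨b, rfl⟩ : ∃ x, b = x + 1 := ⟨b - 1, by omega⟩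
        rw [show a + 1 + (b + 1) - 1 = a + b + 1 by omega]
        nlinarith))
    calc Tr a ^ 2 * Tr b ^ 2 * 3 * 3 = Tr a ^ 2 * 3 * (Tr b ^ 2 * 3) := by ring
      _ ≤ 3 ^ a * 3 ^ b := Nat.mul_le_mul (iha h1) (ihb h2)
      _ = 3 ^ (a + b - 1) * 3 := by rw [← pow_succ, ← pow_add]; congr 1; omega

theorem growth_four {k : ℕ} (hk : 24 ≤ k) : 3 ^ k * (k + 2) ^ 2 ≤ 4 ^ k := by
  induction k, hk using Nat.le_induction with
  | base => norm_num
  | succ n hn ih =>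
    rw [pow_succ 3, pow_succ 4]
    calc 3 ^ n * 3 * (n + 1 + 2) ^ 2 = 3 ^ n * (3 * (n + 3) ^ 2) := by ring
      _ ≤ 3 ^ n * (4 * (n + 2) ^ 2) := Nat.mul_le_mul_left _ (by nlinarith)
      _ = 3 ^ n * (n + 2) ^ 2 * 4 := by ring
      _ ≤ 4 ^ n * 4 := Nat.mul_le_mul_right _ ih

theorem growth_sixteen {k : ℕ} (hk : 2 ≤ k) : 3 ^ k * (k + 2) ^ 2 ≤ 16 ^ k := by
  induction k, hk using Nat.le_induction with
  | base => norm_num
  | succ n hn ih =>
    rw [pow_succ 3, pow_succ 16]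
    calc 3 ^ n * 3 * (n + 1 + 2) ^ 2 = 3 ^ n * (3 * (n + 3) ^ 2) := by ring
      _ ≤ 3 ^ n * (16 * (n + 2) ^ 2) := Nat.mul_le_mul_left _ (by nlinarith)
      _ = 3 ^ n * (n + 2) ^ 2 * 16 := by ring
      _ ≤ 16 ^ n * 16 := Nat.mul_le_mul_right _ ih

theorem Tr_prime {p : ℕ} (hp : p.Prime) : Tr p = p := by
  have h := Tr_prime_pow hp one_ne_zero
  rw [pow_one] at h
  rw [h]
  have he := sub_one_mul_exp hp 1
  rw [pow_one] at he
  have h1 : (factorial p).factorization p = 1 := by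
    have h2 : 0 < p - 1 := by have := hp.two_le; omega
    exact Nat.eq_of_mul_eq_mul_left h2 (by omega)
  rw [h1, pow_one]

theorem Tr_small {r : ℕ} (hodd : Odd r) (h7 : 7 ≤ r) (h9 : r ≠ 9) (h25 : r < 25) :
    Tr r = r := by
  have h := Nat.odd_iff.1 hodd
  interval_cases r <;>
    first
    | omega
    | (rw [show (15 : ℕ) = 3 * 5 from rfl, Tr_mul (by decide), Tr_prime Nat.prime_three,
        Tr_prime Nat.prime_five])
    | (rw [show (21 : ℕ) = 3 * 7 from rfl, Tr_mul (by decide), Tr_prime Nat.prime_three,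
        Tr_prime (by norm_num : (7 : ℕ).Prime)])
    | exact Tr_prime (by norm_num)

/-- Away from powers of two, `3`, `5` and `9` a transitive nilpotent group is at most half as
large as a Sylow 2-subgroup. -/
theorem two_mul_Tr_le {m : ℕ} (hm : m ≠ 0) (hpow : ∀ k, m ≠ 2 ^ k) (h3 : m ≠ 3) (h5 : m ≠ 5)
    (h9 : m ≠ 9) : 2 * Tr m ≤ 2 ^ e2 m := by
  obtain ⟨k, r, hr, rfl⟩ := Nat.exists_eq_two_pow_mul_odd hm
  have hr1 : r ≠ 1 := fun h => hpow k (by rw [h, mul_one])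
  have hr3 : 3 ≤ r := by have := Nat.odd_iff.1 hr; omega
  rw [Tr_mul (Nat.Coprime.pow_left k (Nat.coprime_two_left.2 hr)), Tr_two_pow]
  by_cases hsmall : k = 0 ∧ r < 25
  · obtain ⟨rfl, hr25⟩ := hsmall
    simp only [pow_zero, one_mul, e2_one] at h3 h5 h9 ⊢
    have h7 : 7 ≤ r := by have := Nat.odd_iff.1 hr; omega
    rw [Tr_small hr h7 h9 hr25]
    have h : (r + 1) * (2 * r) ≤ (r + 1) * 2 ^ e2 r := by
      refine le_trans ?_ (two_pow_le_succ_mul r)
      interval_cases r <;> norm_num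
    exact Nat.le_of_mul_le_mul_left h (by omega)
  -- square both sides
  set x := 2 ^ k with hx
  have hx1 : 1 ≤ x := Nat.one_le_two_pow
  refine (Nat.pow_le_pow_iff_left two_ne_zero).1 ?_
  have e1 := e2_two_pow k
  rw [← hx] at e1
  have e3 := e2_pow_mul (r := r) (k := k)
  rw [← hx] at e3
  obtain ⟨j, rfl⟩ : ∃ j, r = j + 1 := ⟨r - 1, by omega⟩
  have hj : 2 ≤ j := by omega
  have hT := Tr_odd_sq _ hr
  rw [pow_succ] at hT
  have hT' : Tr (j + 1) ^ 2 ≤ 3 ^ j := Nat.le_of_mul_le_mul_right hT (by norm_num)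
  have hg : 3 ^ j * (j + 2) ^ 2 ≤ (4 ^ x) ^ j := by
    rcases eq_or_lt_of_le hx1 with h | h
    · rw [← h, pow_one]
      refine growth_four ?_
      have hk : k = 0 := by
        by_contra hk
        have : 2 ≤ x := Nat.le_self_pow hk 2
        omega
      have : ¬ j + 1 < 25 := fun hlt => hsmall ⟨hk, hlt⟩
      omega
    · exact le_trans (growth_sixteen hj)
        (Nat.pow_le_pow_left (le_trans (le_of_eq (by norm_num : (16 : ℕ) = 4 ^ 2))
          (Nat.pow_le_pow_right (by norm_num) h)) j)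
  have hb := two_pow_le_succ_mul (j + 1)
  -- compare
  refine Nat.le_of_mul_le_mul_right (c := (j + 2) ^ 2) ?_ (by positivity)
  calc (2 * (2 ^ e2 x * Tr (j + 1))) ^ 2 * (j + 2) ^ 2
      = (2 ^ (e2 x + 1)) ^ 2 * (Tr (j + 1) ^ 2 * (j + 2) ^ 2) := by ring
    _ ≤ (2 ^ x) ^ 2 * (3 ^ j * (j + 2) ^ 2) := by
      rw [e1]; exact Nat.mul_le_mul_left _ (Nat.mul_le_mul_right _ hT')
    _ ≤ (2 ^ x) ^ 2 * (4 ^ x) ^ j := Nat.mul_le_mul_left _ hg
    _ = (2 ^ (x * (j + 1))) ^ 2 := by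
      rw [show (4 : ℕ) = 2 ^ 2 from rfl, ← pow_mul, ← pow_mul, ← pow_mul, ← pow_mul, ← pow_add]
      ring_nf
    _ = (2 ^ (x * (j + 1) - (j + 1)) * 2 ^ (j + 1)) ^ 2 := by
      rw [← pow_add, Nat.sub_add_cancel (Nat.le_mul_of_pos_left _ hx1)]
    _ ≤ (2 ^ (x * (j + 1) - (j + 1)) * ((j + 1 + 1) * 2 ^ e2 (j + 1))) ^ 2 :=
      Nat.pow_le_pow_left (Nat.mul_le_mul_left _ hb) 2
    _ = (2 ^ (x * (j + 1) - (j + 1) + e2 (j + 1))) ^ 2 * (j + 2) ^ 2 := by rw [pow_add]; ring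
    _ = (2 ^ e2 (x * (j + 1))) ^ 2 * (j + 2) ^ 2 := by
      have hle : j + 1 ≤ x * (j + 1) := Nat.le_mul_of_pos_left _ hx1
      rw [show x * (j + 1) - (j + 1) + e2 (j + 1) = e2 (x * (j + 1)) by omega]

/-! ### The exceptional small degrees -/

/-- The exceptional orders of nilpotent subgroups of small alternating groups. -/
def Small (n c : ℕ) : Prop :=
  (n ≤ 1 ∧ c ≤ 1) ∨ (n = 3 ∧ c ≤ 3) ∨ (n = 5 ∧ c ≤ 5) ∨ (n = 6 ∧ c ≤ 9) ∨ (n = 9 ∧ c ≤ 81)

theorem e2_value {n q r v : ℕ} (hq : n / 4 = q) (hr : n % 4 / 2 = r) (hv : e2 q = v) :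
    e2 n = 3 * q + r + v := by
  rw [e2_four n, hq, hr, hv]

theorem e2_small : e2 2 = 1 ∧ e2 3 = 1 ∧ e2 4 = 3 ∧ e2 5 = 3 ∧ e2 6 = 4 ∧ e2 7 = 4 ∧ e2 8 = 7 ∧
    e2 9 = 7 ∧ e2 10 = 8 ∧ e2 11 = 8 ∧ e2 12 = 10 ∧ e2 14 = 11 ∧ e2 15 = 11 ∧ e2 18 = 16 := by
  have h2 : e2 2 = 1 := by rw [e2_four 2]; simp [e2_zero]
  have h3 : e2 3 = 1 := by rw [e2_four 3]; simp [e2_zero]
  have h4 : e2 4 = 3 := by rw [e2_four 4]; simp [e2_one]
  refine ⟨h2, h3, h4, ?_, ?_, ?_, ?_, ?_, ?_, ?_, ?_, ?_, ?_, ?_⟩ <;> rw [e2_four] <;>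
    norm_num [e2_one, h2, h3, h4]

theorem small_le {a c : ℕ} (h : Small a c) : 2 * c ≤ H a := by
  obtain ⟨-, h3, -, h5, h6, -, -, h9, -⟩ := e2_small
  rcases h with ⟨ha, hc⟩ | ⟨rfl, hc⟩ | ⟨rfl, hc⟩ | ⟨rfl, hc⟩ | ⟨rfl, hc⟩
  · have := two_mul_le_H a
    have : 1 ≤ 2 ^ e2 a := Nat.one_le_two_pow
    omega
  all_goals simp [H, w, h3, h5, h6, h9]; omega

theorem small_pair {a b c c₁ c₂ : ℕ} (ha : 1 ≤ a) (hb : 1 ≤ b) (h₁ : Small a c₁) (h₂ : Small b c₂)
    (hc : c ≤ c₁ * c₂) :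
    Small (a + b) c ∨ (4 * c ≤ H (a + b) ∧ ((a + b) % 4 = 3 → 4 * c < H (a + b))) := by
  obtain ⟨k2, -, k4, -, k6, k7, k8, -, k10, k11, k12, k14, k15, k18⟩ := e2_small
  obtain ⟨ea, ha', hc₁⟩ : ∃ e, ((a = 1 ∧ e = 1) ∨ (a = 3 ∧ e = 3) ∨ (a = 5 ∧ e = 5) ∨
      (a = 6 ∧ e = 9) ∨ (a = 9 ∧ e = 81)) ∧ c₁ ≤ e := by
    rcases h₁ with h | h | h | h | h
    · exact ⟨1, Or.inl ⟨by omega, rfl⟩, h.2⟩
    · exact ⟨3, by simp [h.1], h.2⟩
    · exact ⟨5, by simp [h.1], h.2⟩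
    · exact ⟨9, by simp [h.1], h.2⟩
    · exact ⟨81, by simp [h.1], h.2⟩
  obtain ⟨eb, hb', hc₂⟩ : ∃ e, ((b = 1 ∧ e = 1) ∨ (b = 3 ∧ e = 3) ∨ (b = 5 ∧ e = 5) ∨
      (b = 6 ∧ e = 9) ∨ (b = 9 ∧ e = 81)) ∧ c₂ ≤ e := by
    rcases h₂ with h | h | h | h | h
    · exact ⟨1, Or.inl ⟨by omega, rfl⟩, h.2⟩
    · exact ⟨3, by simp [h.1], h.2⟩
    · exact ⟨5, by simp [h.1], h.2⟩
    · exact ⟨9, by simp [h.1], h.2⟩
    · exact ⟨81, by simp [h.1], h.2⟩
  have := Nat.mul_le_mul hc₁ hc₂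
  rcases ha' with ⟨rfl, rfl⟩ | ⟨rfl, rfl⟩ | ⟨rfl, rfl⟩ | ⟨rfl, rfl⟩ | ⟨rfl, rfl⟩ <;>
    rcases hb' with ⟨rfl, rfl⟩ | ⟨rfl, rfl⟩ | ⟨rfl, rfl⟩ | ⟨rfl, rfl⟩ | ⟨rfl, rfl⟩ <;>
    simp [Small, H, w, k2, k4, k6, k7, k8, k10, k11, k12, k14, k15, k18] <;> omega

end CfsgLib.OutAut.NilArith
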