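import Mathlib
import Cfsg.Agent.S1686
import Cfsg.Agent.S2694
import Cfsg.Agent.Lib.SporadicB.Fi22.OmegaSeven
import Cfsg.Agent.Lib.TwistedE6F4.Nonconj
import Cfsg.Agent.Lib.ClassicalForms.Ortho.Similitude

/-!
Three classes of subgroups `Ω(7,3)` in `²E₆(2)`, given an image of the presented group `Fi₂₂` whose
subgroup `Ω(7,3)` acts absolutely irreducibly.
-/

set_option autoImplicit false
set_option maxHeartbeats 1000000

namespace CfsgLib.OutAut.OmegaSevenE6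

open Cfsg.Lie CfsgLib.Chevalley CfsgLib.TwistedE6F4 CfsgLib.TwistedE6Involutions
open CfsgLib.ClassicalForms
open scoped Matrix
open Cfsg.Spor.Fi22 (Gen)
open CfsgLib.SporadicB.Fi22 (P22 O7sub og)

/-- `Ω(7,3)`, with the trivial centre divided out. -/
abbrev O7 : Type := Cfsg.POmega (ZMod 3) (Cfsg.quadFormOdd 3 (ZMod 3))

theorem isSimple_O7 : IsSimpleGroup O7 := by
  haveI : Fact (Nat.Prime 3) := ⟨Nat.prime_three⟩
  exact isSimpleGroup_pOmega_odd (F := ZMod 3) Cfsg.Agent.S1686.two_ne 3 le_rfl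

theorem omega_equiv :
    Nonempty (O7 ≃* Cfsg.Omega (ZMod 3) (Cfsg.quadFormOdd 3 (ZMod 3))) :=
  ⟨(QuotientGroup.quotientMulEquivOfEq Cfsg.Agent.S1686.center_trivial).trans QuotientGroup.quotientBot⟩

/-- The square of an isometry lies in `Ω`. -/
theorem sq_mem_omega (h : Cfsg.isometryGroup (ZMod 3) (Cfsg.quadFormOdd 3 (ZMod 3))) :
    h * h ∈ Cfsg.Omega (ZMod 3) (Cfsg.quadFormOdd 3 (ZMod 3)) := by
  haveI : Fact (Nat.Prime 3) := ⟨Nat.prime_three⟩
  have h2 : (2 : ZMod 3) ≠ 0 := Cfsg.Agent.S1686.two_ne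
  have hn : 5 ≤ Fintype.card (Unit ⊕ (Fin 3 ⊕ Fin 3)) := by simp
  have hQ := nondeg_qOdd (F := ZMod 3) h2 3
  have hg := isGen_qOdd (F := ZMod 3) h2 3
  set e := isoMat (qOdd 3 (ZMod 3)) (qOdd_apply 3)
  have hsq : e h * e h ∈ siegelGroup (qOdd 3 (ZMod 3)) := by
    rw [← (ker_eq_siegelGroup_odd h2 hQ hn hg).1, MonoidHom.mem_ker, map_mul]
    exact Prod.ext (Int.units_mul_self _) (Int.units_mul_self _)
  rw [← commutator_eq_siegelGroup hQ (by simp) hg] at hsq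
  have := Subgroup.mem_map_of_mem e.symm.toMonoidHom hsq
  rw [commutator_def, Subgroup.map_commutator,
    Subgroup.map_top_of_surjective _ e.symm.surjective] at this
  simpa [commutator_def] using this

theorem unit_sq : ∀ x : (ZMod 3)ˣ, (x : ZMod 3) * x = 1 := by decide

/-- The fourth power of every automorphism of `Ω(7,3)` is inner. -/
theorem exists_inner_pow_four (φ : MulAut O7) : ∃ p : O7, φ ^ 4 = MulAut.conj p := by
  haveI : Fact (Nat.Prime 3) := ⟨Nat.prime_three⟩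
  have htop := Cfsg.Agent.S2694.result (F := ZMod 3) (by rw [ZMod.card]; decide) (m := 3) le_rfl
  have hφ : φ ∈ (simAut (F := ZMod 3) (f := Cfsg.quadFormOdd 3 (ZMod 3))).range := by
    refine (Subgroup.closure_le _).2 ?_ (htop ▸ Subgroup.mem_top φ)
    rintro β ⟨g, σ, ⟨c, hc⟩, hind⟩
    obtain rfl : σ = RingEquiv.refl (ZMod 3) :=
      RingEquiv.toRingHom_injective (Subsingleton.elim _ _)
    exact ⟨⟨g, c, hc⟩, ((isInduced_iff ⟨g, c, hc⟩ β).1 hind).symm⟩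
  obtain ⟨g, rfl⟩ := hφ
  obtain ⟨c, hc⟩ := g.2
  have hiso : (g.1 * g.1) ∈ Cfsg.isometryGroup (ZMod 3) (Cfsg.quadFormOdd 3 (ZMod 3)) := by
    intro u v
    show Cfsg.quadFormOdd 3 (ZMod 3) ((Units.val (g.1 * g.1) : Matrix _ _ (ZMod 3)) *ᵥ u) = Cfsg.quadFormOdd 3 (ZMod 3) u
    rw [Units.val_mul, ← Matrix.mulVec_mulVec, hc, hc, ← mul_assoc]
    rw [unit_sq, one_mul]
  refine ⟨QuotientGroup.mk ⟨_, sq_mem_omega ⟨_, hiso⟩⟩, ?_⟩
  rw [← simAut_omegaSim, ← map_pow]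
  refine congrArg _ (Subtype.ext ?_)
  show ((g ^ 4 : _) : GL _ (ZMod 3)) = g.1 * g.1 * (g.1 * g.1)
  rw [SubgroupClass.coe_pow, ← mul_assoc]
  simp [pow_succ]

variable {K : Type*} [Field K] [Fintype K] [CharP K 2] {σ : K →+* K}

omit [Fintype K] in

/-- An outer diagonal element times a group element does not agree with a scalar on conjugation. -/
theorem not_central {w : Kˣ} (hcard : Nat.card Kˣ = 3) (hw : orderOf w = 3) {k : ℤ}
    (hk : ¬ (3 : ℤ) ∣ k) {g : GL chevE6.Idx K} (hg : g ∈ chevE6.group K)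
    (hz : Commute (dW w k * g) (uReg K)) : False := by
  haveI : Fact (Nat.Prime 2) := ⟨Nat.prime_two⟩
  have e0 : g * uReg K * g⁻¹ = dW w (-k) * uReg K * (dW w (-k))⁻¹ := by
    rw [← dW_inv, inv_inv]
    calc g * uReg K * g⁻¹ = (dW w k)⁻¹ * (dW w k * g * uReg K) * g⁻¹ := by group
      _ = _ := by rw [hz.eq]; group
  have hU : dW w (-k) * uReg K * (dW w (-k))⁻¹ ∈ chevE6.posUnipotent K :=
    rootsU_conj_le full.cert (fun r hr t => by
      rw [dW_conj w (-k) hr.1]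
      exact xG_mem_rootsU full.cert hr _) _ (uReg_regular (K := K)).1
  obtain ⟨v, hv, t, ht, e⟩ :=
    (mem_borel_iff full).1 (mem_borel_of_regular full hg uReg_regular (e0 ▸ hU))
  rw [diagonalSubgroup_eq_range full] at ht
  obtain ⟨c, rfl⟩ := ht
  have hchi : ∀ i : Fin chevE6.rank,
      chi chevE6 (chevE6.simple i) c = w ^ (-k * vfun (chevE6.simple i)) := by
    intro i
    have h1 := Co.conj_scale full (n := torusHom chevE6 K c) (f := fun r => ((chi chevE6 r c : Kˣ) : K))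
      (fun r hr t => (acts_torus full.cert c).conj ⟨r, hr⟩ t) i.isLt (uReg_co (K := K) i.isLt)
    have h2 := Co.conj full i.isLt h1 hv
    have h3 := Co.conj_scale full (n := dW w (-k)) (f := fun r => (chW w (-k) r : K))
      (fun r hr t => dW_conj w (-k) hr t) i.isLt (uReg_co (K := K) i.isLt)
    rw [show v * (torusHom chevE6 K c * uReg K * (torusHom chevE6 K c)⁻¹) * v⁻¹ =
      g * uReg K * g⁻¹ by rw [e]; group, e0] at h2
    have h4 := h2.unique full i.isLt h3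
    simp only [mul_one] at h4
    exact Units.ext h4
  have hphi := phi_torus hcard c
  obtain ⟨a0, a2, a4, a5⟩ := vfun_simple
  rw [hchi ⟨0, by decide⟩, hchi ⟨2, by decide⟩, hchi ⟨4, by decide⟩, hchi ⟨5, by decide⟩, a0, a2, a4, a5,
    ← zpow_mul, ← zpow_mul, ← zpow_add, ← zpow_add, ← zpow_add] at hphi
  have := orderOf_dvd_iff_zpow_eq_one.2 hphi
  rw [hw] at this
  exact hk (by omega)

theorem og_b_mem : og Gen.b ∈ O7sub :=
  Subgroup.mem_map.2 ⟨Cfsg.Spor.Fi22.b, Subgroup.subset_closure (by simp), rfl⟩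

/-- Three pairwise non-conjugate subgroups `Ω(7,3)`. -/
theorem exists_three (S : Setting σ 2) {w : Kˣ} (hcard : Nat.card Kˣ = 3) (hw : orderOf w = 3)
    (ρ : P22 →* GL chevE6.Idx K) (hρ : ∀ x, ρ x ∈ twistedE6 K 2) (hne : ρ (og Gen.b) ≠ 1)
    (hcom : ∀ y : GL chevE6.Idx K, (∀ x ∈ O7sub, Commute y (ρ x)) → ∀ z, Commute y z) :
    ∃ H : Fin 3 → Subgroup (twistedE6 K 2),
      (∀ i, Nonempty ((H i) ≃* Cfsg.Omega (ZMod 3) (Cfsg.quadFormOdd 3 (ZMod 3)))) ∧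
      (∀ i j, i ≠ j → ∀ g : twistedE6 K 2, (H i).map (MulAut.conj g).toMonoidHom ≠ H j) := by
  obtain ⟨u⟩ : Nonempty (O7sub ≃* O7) := Cfsg.Agent.S1686.result
  obtain ⟨v⟩ := omega_equiv
  have hw3 : w ^ (3 : ℤ) = 1 := by
    rw [show (3 : ℤ) = ((orderOf w : ℕ) : ℤ) by rw [hw]; rfl, zpow_natCast, pow_orderOf_eq_one]
  let ρ0 : O7 →* GL chevE6.Idx K := ρ.comp (O7sub.subtype.comp u.symm.toMonoidHom)
  have hρ0 : ∀ p, ρ0 p ∈ twistedE6 K 2 := fun p => hρ _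
  have hinj0 : Function.Injective ρ0 := by
    haveI := isSimple_O7
    rw [← MonoidHom.ker_eq_bot_iff]
    refine (IsSimpleGroup.eq_bot_or_eq_top_of_normal _ inferInstance).resolve_right fun ht => hne ?_
    have : ρ0 (u ⟨_, og_b_mem⟩) = 1 := MonoidHom.mem_ker.1 (ht ▸ Subgroup.mem_top _)
    simpa [ρ0] using this
  let φ : Fin 3 → (O7 →* twistedE6 K 2) := fun i =>
    ((MulAut.conj (dW w (i : ℕ))).toMonoidHom.comp ρ0).codRestrict (twistedE6 K 2) fun x =>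
      dW_norm S hw3 _ _ (hρ0 x)
  have hφ : ∀ i x, (φ i x : GL chevE6.Idx K) = dW w (i : ℕ) * ρ0 x * (dW w (i : ℕ))⁻¹ := fun i x => rfl
  have hinj : ∀ i, Function.Injective (φ i) := fun i a b e => hinj0 (by
    simpa [hφ] using congrArg Subtype.val e)
  refine ⟨fun i => (φ i).range, fun i => ⟨(MonoidHom.ofInjective (hinj i)).symm.trans v⟩,
    fun i j hij g he => ?_⟩
  set m : ℤ := ((i : ℕ) : ℤ) - ((j : ℕ) : ℤ) with hmdef
  have hm : ¬ (3 : ℤ) ∣ m := by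
    have := i.isLt; have := j.isLt; have : (i : ℕ) ≠ j := fun e => hij (Fin.ext e); omega
  set g' := dW w (-((i : ℕ) : ℤ)) * (g : GL chevE6.Idx K) * (dW w (-((i : ℕ) : ℤ)))⁻¹ with hg'
  have hg'G : g' ∈ twistedE6 K 2 := dW_norm S hw3 _ _ g.2
  have hN : ∀ x, ∃ x', ρ0 x' = dW w m * g' * ρ0 x * (dW w m * g')⁻¹ := by
    intro x
    have hx : MulAut.conj g (φ i x) ∈ (φ j).range := by
      simp only at he
      rw [← he]; exact Subgroup.mem_map_of_mem _ ⟨x, rfl⟩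
    obtain ⟨x', hx'⟩ := hx
    refine ⟨x', ?_⟩
    have e := congrArg Subtype.val hx'
    rw [hφ, MulAut.conj_apply, Subgroup.coe_mul, Subgroup.coe_mul, Subgroup.coe_inv, hφ] at e
    have e2 : ρ0 x' = (dW w (j : ℕ))⁻¹ * ((g : GL chevE6.Idx K) * (dW w (i : ℕ) * ρ0 x * (dW w (i : ℕ))⁻¹) *
        (g : GL chevE6.Idx K)⁻¹) * dW w (j : ℕ) := by rw [← e]; group
    rw [e2, hg', hmdef, sub_eq_neg_add, ← dW_mul, ← dW_inv, ← dW_inv]
    group
  choose f hf using hN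
  set y := dW w m * g' with hy
  let α : O7 →* O7 := MonoidHom.mk' f fun a b => hinj0 (by
    rw [map_mul, hf, hf, hf, map_mul]; group)
  have hα : Function.Injective α := fun a b e => hinj0 (by
    have e' : ρ0 (f a) = ρ0 (f b) := congrArg ρ0 e
    rw [hf, hf] at e'
    exact mul_left_cancel (mul_right_cancel e'))
  haveI : Finite O7 := inferInstance
  let A : MulAut O7 := MulEquiv.ofBijective α (Finite.injective_iff_bijective.1 hα)
  have hA : ∀ x, ρ0 (A x) = y * ρ0 x * y⁻¹ := hf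
  obtain ⟨p, hp⟩ := exists_inner_pow_four A
  have hz : ∀ z, Commute ((ρ0 p)⁻¹ * (y * y * y * y)) z := by
    refine hcom _ fun x hx => ?_
    have hx' : ρ x = ρ0 (u ⟨x, hx⟩) := by simp [ρ0]
    rw [hx']
    set a := u ⟨x, hx⟩
    have h4 : ρ0 ((A ^ 4) a) = y * y * y * y * ρ0 a * (y * y * y * y)⁻¹ := by
      simp only [pow_succ, pow_zero, one_mul, MulAut.mul_apply, hA]
      group
    rw [hp, MulAut.conj_apply, map_mul, map_mul, map_inv] at h4
    calc (ρ0 p)⁻¹ * (y * y * y * y) * ρ0 a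
        = (ρ0 p)⁻¹ * (y * y * y * y * ρ0 a * (y * y * y * y)⁻¹) * (y * y * y * y) := by group
      _ = ρ0 a * ((ρ0 p)⁻¹ * (y * y * y * y)) := by rw [← h4]; group
  have key : ∀ (k₁ k₂ : ℤ) (a₁ a₂ : GL chevE6.Idx K), a₁ ∈ twistedE6 K 2 → a₂ ∈ twistedE6 K 2 →
      ∃ b ∈ twistedE6 K 2, dW w k₁ * a₁ * (dW w k₂ * a₂) = dW w (k₁ + k₂) * b :=
    fun k₁ k₂ a₁ a₂ h₁ h₂ => ⟨dW w (-k₂) * a₁ * (dW w (-k₂))⁻¹ * a₂,
      mul_mem (dW_norm S hw3 _ _ h₁) h₂, by rw [← dW_mul, ← dW_inv]; group⟩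
  obtain ⟨b2, hb2, e2⟩ := key m m g' g' hg'G hg'G
  obtain ⟨b4, hb4, e4⟩ := key (m + m) (m + m) b2 b2 hb2 hb2
  obtain ⟨b5, hb5, e5⟩ := key 0 (m + m + (m + m)) (ρ0 p)⁻¹ b4 (inv_mem (hρ0 p)) hb4
  refine not_central hcard hw (k := 0 + (m + m + (m + m))) (by omega) (twisted_le_group hb5) ?_
  rw [← e5, dW_zero, one_mul, ← e4, ← e2, ← hy, show y * y * (y * y) = y * y * y * y by group]
  exact hz _

end CfsgLib.OutAut.OmegaSevenE6
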