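import Mathlib
import Cfsg.Prelude.Def_HallClasses

set_option autoImplicit false

namespace CfsgLib.OutAut

open Cfsg
open scoped Pointwise

variable {G : Type*} [Group G]

/-- A subgroup containing a Sylow subgroup and its normaliser is pronormal. -/
theorem isPronormal_of_normalizer_sylow_le [Finite G] {p : ℕ} [Fact p.Prime] (P : Sylow p G)
    (H : Subgroup G) (hP : (P : Subgroup G) ≤ H)
    (hN : Subgroup.normalizer ((P : Subgroup G) : Set G) ≤ H) : IsPronormal H := by
  intro g
  set K := H ⊔ H.map (MulAut.conj g).toMonoidHom with hK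
  have h1 : (P : Subgroup G) ≤ K := hP.trans le_sup_left
  have h2 : ((g • P : Sylow p G) : Subgroup G) ≤ K := by
    intro x hx
    rw [Sylow.coe_subgroup_smul, Subgroup.mem_pointwise_smul_iff_inv_smul_mem] at hx
    apply le_sup_right (a := H)
    refine ⟨_, hP hx, ?_⟩
    simp [mul_assoc]
  obtain ⟨k, hk⟩ := MulAction.exists_smul_eq K (P.subtype h1) ((g • P).subtype h2)
  have hk' : (k : G) • P = g • P := by
    rw [Sylow.smul_subtype] at hk
    exact Sylow.subtype_injective hk
  refine ⟨k, k.2, ?_⟩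
  have hn : (k : G)⁻¹ * g ∈ H := hN (by
    refine Sylow.smul_eq_iff_mem_normalizer.1 ?_
    rw [mul_smul, inv_smul_eq_iff, hk'])
  ext x
  simp only [Subgroup.mem_map, MulEquiv.coe_toMonoidHom, MulAut.conj_apply]
  constructor
  · rintro ⟨y, hy, rfl⟩
    exact ⟨((k : G)⁻¹ * g) * y * ((k : G)⁻¹ * g)⁻¹, mul_mem (mul_mem hn hy) (inv_mem hn), by group⟩
  · rintro ⟨y, hy, rfl⟩
    exact ⟨((k : G)⁻¹ * g)⁻¹ * y * ((k : G)⁻¹ * g), mul_mem (mul_mem (inv_mem hn) hy) hn, by group⟩

/-- A subgroup of prime index is pronormal. -/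
theorem isPronormal_of_prime_index (H : Subgroup G) (hp : H.index.Prime) : IsPronormal H := by
  intro g
  rcases (Nat.dvd_prime hp).1 (Subgroup.index_dvd_of_le
      (le_sup_left : H ≤ H ⊔ H.map (MulAut.conj g).toMonoidHom)) with h | h
  · exact ⟨g, by rw [Subgroup.index_eq_one.1 h]; trivial, rfl⟩
  · have hfin : H.FiniteIndex := ⟨hp.ne_zero⟩
    have heq : H = H ⊔ H.map (MulAut.conj g).toMonoidHom := by
      by_contra hne
      have h3 := Subgroup.index_strictAnti (lt_of_le_of_ne le_sup_left hne)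
      rw [h] at h3
      exact lt_irrefl _ h3
    refine ⟨1, one_mem _, ?_⟩
    have hle : H.map (MulAut.conj g).toMonoidHom ≤ H := le_of_le_of_eq le_sup_right heq.symm
    have hid : H.map (MulAut.conj (1 : G)).toMonoidHom = H := by ext x; simp
    rw [hid]
    by_contra hne
    have hidx : (H.map (MulAut.conj g).toMonoidHom).index = H.index :=
      Subgroup.index_map_of_bijective (f := (MulAut.conj g).toMonoidHom) (H := H) (MulAut.conj g).bijective
    haveI : (H.map (MulAut.conj g).toMonoidHom).FiniteIndex := ⟨hidx ▸ hp.ne_zero⟩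
    have h3 := Subgroup.index_strictAnti (lt_of_le_of_ne hle hne)
    rw [hidx] at h3
    exact lt_irrefl _ h3

end CfsgLib.OutAut
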