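/-
Sylow 2-subgroups of symmetric and alternating groups are self-normalising.
-/
import Mathlib

set_option autoImplicit false

namespace CfsgLib.OutAut

open Equiv
open scoped Pointwise

section Wreath

variable {β : Type*}

/-- The element `(b, s)` of `2 ≀ Sym β` acting on `β × Bool`. -/
def wrPerm (b : β → Bool) (s : Perm β) : Perm (β × Bool) where
  toFun p := (s p.1, xor (b p.1) p.2)
  invFun p := (s.symm p.1, xor (b (s.symm p.1)) p.2)
  left_inv p := by simp
  right_inv p := by simp

@[simp] theorem wrPerm_apply (b : β → Bool) (s : Perm β) (p : β × Bool) :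
    wrPerm b s p = (s p.1, xor (b p.1) p.2) := rfl

theorem wrPerm_mul (b b' : β → Bool) (s s' : Perm β) :
    wrPerm b s * wrPerm b' s' = wrPerm (fun x => xor (b (s' x)) (b' x)) (s * s') := by
  apply Equiv.ext; rintro ⟨x, e⟩
  simp [Bool.xor_assoc]

theorem wrPerm_one : wrPerm (fun _ : β => false) 1 = 1 := by
  apply Equiv.ext; rintro ⟨x, e⟩; simp

theorem wrPerm_inv (b : β → Bool) (s : Perm β) :
    (wrPerm b s)⁻¹ = wrPerm (fun x => b (s⁻¹ x)) s⁻¹ := by
  apply inv_eq_of_mul_eq_one_left
  rw [wrPerm_mul, inv_mul_cancel]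
  rw [← wrPerm_one]
  congr 1
  funext x; simp

theorem wrPerm_injective {b b' : β → Bool} {s s' : Perm β}
    (h : wrPerm b s = wrPerm b' s') : b = b' ∧ s = s' := by
  constructor
  · funext x
    simpa using congrArg Prod.snd (Equiv.ext_iff.1 h (x, false))
  · ext x
    simpa using congrArg Prod.fst (Equiv.ext_iff.1 h (x, false))

/-- The subgroup `2 ≀ K` of `Sym (β × Bool)`. -/
def wrSub (K : Subgroup (Perm β)) : Subgroup (Perm (β × Bool)) where
  carrier := {g | ∃ b, ∃ s ∈ K, g = wrPerm b s}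
  mul_mem' := by
    rintro _ _ ⟨b, s, hs, rfl⟩ ⟨b', s', hs', rfl⟩
    exact ⟨_, _, mul_mem hs hs', wrPerm_mul _ _ _ _⟩
  one_mem' := ⟨_, 1, one_mem K, wrPerm_one.symm⟩
  inv_mem' := by
    rintro _ ⟨b, s, hs, rfl⟩
    exact ⟨_, _, inv_mem hs, wrPerm_inv _ _⟩

theorem mem_wrSub {K : Subgroup (Perm β)} {g : Perm (β × Bool)} :
    g ∈ wrSub K ↔ ∃ b, ∃ s ∈ K, g = wrPerm b s := Iff.rfl

theorem card_wrSub [Finite β] (K : Subgroup (Perm β)) :
    Nat.card (wrSub K) = 2 ^ Nat.card β * Nat.card K := by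
  haveI := Fintype.ofFinite β
  have e : ((β → Bool) × K) ≃ wrSub K := Equiv.ofBijective
    (fun p => ⟨wrPerm p.1 p.2, p.1, p.2, p.2.2, rfl⟩)
    ⟨fun p q h => by
      obtain ⟨h1, h2⟩ := wrPerm_injective (congrArg Subtype.val h)
      exact Prod.ext h1 (Subtype.ext h2),
     fun g => by
      obtain ⟨b, s, hs, hg⟩ := g.2
      exact ⟨(b, ⟨s, hs⟩), Subtype.ext hg.symm⟩⟩
  rw [← Nat.card_congr e, Nat.card_prod, Nat.card_fun, Nat.card_eq_fintype_card (α := Bool),
    Fintype.card_bool]

/-- The fixed point free involution flipping the second coordinate. -/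
def wrFlip : Perm (β × Bool) := wrPerm (fun _ => true) 1

theorem wrFlip_apply (p : β × Bool) : wrFlip p = (p.1, !p.2) := by simp [wrFlip]

theorem exists_eq_wrPerm {g : Perm (β × Bool)} (h : Commute g wrFlip) :
    ∃ b s, g = wrPerm b s := by
  have hc : ∀ {g : Perm (β × Bool)}, Commute g wrFlip →
      ∀ x e, g (x, e) = ((g (x, false)).1, xor (g (x, false)).2 e) := by
    intro g h x e
    cases e
    · simp
    · have := Equiv.ext_iff.1 h.eq (x, false)
      simpa [wrFlip_apply] using this
  refine ⟨fun x => (g (x, false)).2,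
    ⟨fun x => (g (x, false)).1, fun x => (g⁻¹ (x, false)).1, fun x => ?_, fun x => ?_⟩, ?_⟩
  · rcases hgx : g (x, false) with ⟨y, e⟩
    have h1 : g⁻¹ (y, e) = (x, false) := by rw [← hgx]; simp
    rw [hc h.inv_left y e] at h1
    show (g⁻¹ ((g (x, false)).1, false)).1 = x
    rw [hgx]
    exact congrArg Prod.fst h1
  · rcases hgx : g⁻¹ (x, false) with ⟨y, e⟩
    have h1 : g (y, e) = (x, false) := by rw [← hgx]; simp
    rw [hc h y e] at h1
    show (g ((g⁻¹ (x, false)).1, false)).1 = x
    rw [hgx]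
    exact congrArg Prod.fst h1
  · apply Equiv.ext; rintro ⟨x, e⟩
    rw [hc h x e]; simp

variable [DecidableEq β]

/-- The transposition of `(i, false)` and `(i, true)`. -/
theorem swapPair_eq (i : β) :
    Equiv.swap (i, false) (i, true) = wrPerm (fun x => decide (x = i)) 1 := by
  apply Equiv.ext; rintro ⟨x, e⟩
  rw [Equiv.swap_apply_def]
  by_cases hx : x = i <;> cases e <;> simp [hx]

theorem swapPair_mem (K : Subgroup (Perm β)) (i : β) :
    Equiv.swap (i, false) (i, true) ∈ wrSub K :=
  ⟨_, 1, one_mem K, swapPair_eq i⟩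

theorem swapPair_apply_self (i : β) (e : Bool) :
    Equiv.swap (i, false) (i, true) (i, e) = (i, !e) := by cases e <;> simp

theorem swapPair_apply_ne {i : β} {p : β × Bool} (h : p.1 ≠ i) :
    Equiv.swap (i, false) (i, true) p = p := by
  apply Equiv.swap_apply_of_ne_of_ne <;> · intro hp; exact h (by rw [hp])

/-- A fixed point free permutation commuting with enough of the base group is the flip. -/
theorem eq_wrFlip_of_commute (w : Perm (β × Bool)) (hw : ∀ p, w p ≠ p)
    (h : ∀ i, ∀ p : β × Bool, p.1 = i →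
      (w p).1 = i) : w = wrFlip := by
  apply Equiv.ext; rintro ⟨x, e⟩
  rw [wrFlip_apply]
  have h1 := h x (x, e) rfl
  have h2 := hw (x, e)
  rcases hwp : w (x, e) with ⟨y, e'⟩
  rw [hwp] at h1 h2
  simp only at h1; subst h1
  cases e <;> cases e' <;> simp_all

variable [Fintype β]

theorem sign_wrPerm_zero (s : Perm β) :
    Perm.sign (wrPerm (fun _ => false) s) = 1 := by
  have : wrPerm (fun _ => false) s = Equiv.prodCongrLeft (fun _ : Bool => s) := by
    apply Equiv.ext; rintro ⟨x, e⟩; simp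
  rw [this, Perm.sign_prodCongrLeft, Fintype.prod_bool]
  rcases Int.units_eq_one_or (Perm.sign s) with h | h <;> simp [h]

/-- Core step: a permutation conjugating the relevant part of `2 ≀ K` into `2 ≀ K` and commuting
constraints force it into `2 ≀ K` when `K` is self-normalising. -/
theorem mem_wrSub_of_commute {K : Subgroup (Perm β)}
    (hK : ∀ s : Perm β, (∀ x ∈ K, s * x * s⁻¹ ∈ K) → s ∈ K) {g : Perm (β × Bool)}
    (hg : Commute g wrFlip)
    (h : ∀ x ∈ wrSub K, Perm.sign x = 1 → g * x * g⁻¹ ∈ wrSub K) : g ∈ wrSub K := by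
  obtain ⟨b, s, rfl⟩ := exists_eq_wrPerm hg
  refine ⟨b, s, hK s fun t ht => ?_, rfl⟩
  obtain ⟨b', s', hs', he⟩ := h _ ⟨_, t, ht, rfl⟩ (sign_wrPerm_zero t)
  rw [wrPerm_inv, wrPerm_mul, wrPerm_mul] at he
  exact (wrPerm_injective he).2 ▸ hs'

theorem mem_wrSub_of_normalizes {K : Subgroup (Perm β)}
    (hK : ∀ s : Perm β, (∀ x ∈ K, s * x * s⁻¹ ∈ K) → s ∈ K) {g : Perm (β × Bool)}
    (h : ∀ x ∈ wrSub K, g * x * g⁻¹ ∈ wrSub K)
    (hK1 : ∀ x ∈ wrSub K, Commute x wrFlip) : g ∈ wrSub K := by
  refine mem_wrSub_of_commute hK ?_ (fun x hx _ => h x hx)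
  have hw : ∀ p, (g⁻¹ * wrFlip (β := β) * g) p ≠ p := by
    intro p hp
    have := congrArg g hp
    simp [wrFlip_apply, Prod.ext_iff] at this
  have hwc : ∀ x ∈ wrSub K, Commute (g⁻¹ * wrFlip (β := β) * g) x := by
    intro x hx
    have hc := (hK1 _ (h x hx)).eq
    rw [Commute, SemiconjBy]
    calc g⁻¹ * wrFlip * g * x = g⁻¹ * (wrFlip * (g * x * g⁻¹)) * g := by group
      _ = g⁻¹ * ((g * x * g⁻¹) * wrFlip) * g := by rw [hc]
      _ = x * (g⁻¹ * wrFlip * g) := by group
  have hw' : g⁻¹ * wrFlip * g = wrFlip := by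
    refine eq_wrFlip_of_commute _ hw ?_
    intro i p hp
    set w := g⁻¹ * wrFlip * g
    by_contra hne
    have hc := Equiv.ext_iff.1 (hwc _ (swapPair_mem K i)).eq p
    simp only [Perm.mul_apply] at hc
    rw [swapPair_apply_ne hne] at hc
    have hps : Equiv.swap (i, false) (i, true) p ≠ p := by
      obtain ⟨j, e⟩ := p
      simp only at hp; subst hp
      rw [swapPair_apply_self]; simp
    exact hps (w.injective hc)
  rw [Commute, SemiconjBy]
  calc g * wrFlip = g * (g⁻¹ * wrFlip * g) := by rw [hw']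
    _ = wrFlip * g := by group

theorem mem_wrSub_of_normalizes_even {K : Subgroup (Perm β)} (hβ : 3 ≤ Fintype.card β)
    (hK : ∀ s : Perm β, (∀ x ∈ K, s * x * s⁻¹ ∈ K) → s ∈ K) {g : Perm (β × Bool)}
    (h : ∀ x ∈ wrSub K, Perm.sign x = 1 → g * x * g⁻¹ ∈ wrSub K)
    (hK1 : ∀ x ∈ wrSub K, Commute x wrFlip) : g ∈ wrSub K := by
  refine mem_wrSub_of_commute hK ?_ h
  have hw : ∀ p, (g⁻¹ * wrFlip (β := β) * g) p ≠ p := by
    intro p hp
    have := congrArg g hp
    simp [wrFlip_apply, Prod.ext_iff] at this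
  have hwc : ∀ x ∈ wrSub K, Perm.sign x = 1 → Commute (g⁻¹ * wrFlip * g) x := by
    intro x hx hsx
    have hc := (hK1 _ (h x hx hsx)).eq
    rw [Commute, SemiconjBy]
    calc g⁻¹ * wrFlip * g * x = g⁻¹ * (wrFlip * (g * x * g⁻¹)) * g := by group
      _ = g⁻¹ * ((g * x * g⁻¹) * wrFlip) * g := by rw [hc]
      _ = x * (g⁻¹ * wrFlip * g) := by group
  have hw' : g⁻¹ * wrFlip * g = wrFlip := by
    refine eq_wrFlip_of_commute _ hw ?_
    intro i p hp
    set w := g⁻¹ * wrFlip * g
    by_contra hne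
    obtain ⟨j, hji, hjw⟩ : ∃ j, j ≠ i ∧ j ≠ (w p).1 := by
      obtain ⟨j, hj⟩ := Finset.exists_mem_notMem_of_card_lt_card
        (t := (Finset.univ : Finset β)) (s := {i, (w p).1})
        (lt_of_le_of_lt Finset.card_le_two (by rw [Finset.card_univ]; omega))
      exact ⟨j, by aesop, by aesop⟩
    have hs : Perm.sign (Equiv.swap (i, false) (i, true) * Equiv.swap (j, false) (j, true)) = 1 := by
      rw [map_mul, Perm.sign_swap (by simp), Perm.sign_swap (by simp)]; simp
    have hc := Equiv.ext_iff.1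
      (hwc _ (mul_mem (swapPair_mem K i) (swapPair_mem K j)) hs).eq p
    simp only [Perm.mul_apply] at hc
    rw [swapPair_apply_ne (i := j) (Ne.symm hjw), swapPair_apply_ne (i := i) hne] at hc
    rw [swapPair_apply_ne (i := j) (by rw [hp]; exact Ne.symm hji)] at hc
    have hps : Equiv.swap (i, false) (i, true) p ≠ p := by
      obtain ⟨k, e⟩ := p
      simp only at hp; subst hp
      rw [swapPair_apply_self]; simp
    exact hps (w.injective hc)
  rw [Commute, SemiconjBy]
  calc g * wrFlip = g * (g⁻¹ * wrFlip * g) := by rw [hw']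
    _ = wrFlip * g := by group

omit [DecidableEq β] [Fintype β] in
theorem wrPerm_commute_wrFlip (b : β → Bool) (s : Perm β) : Commute (wrPerm b s) wrFlip := by
  apply Equiv.ext; rintro ⟨x, e⟩
  simp [wrFlip_apply]

end Wreath

section Induction

/-- A subgroup of the order of a Sylow 2-subgroup of `Sym α`, self-normalising, and such that (for
at least 6 points) even its even part is normalised only by its own elements. -/
def GoodTwo {α : Type*} [Fintype α] [DecidableEq α] (H : Subgroup (Perm α)) : Prop :=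
  Nat.card H = 2 ^ padicValNat 2 (Fintype.card α).factorial ∧
  (∀ g : Perm α, (∀ x ∈ H, g * x * g⁻¹ ∈ H) → g ∈ H) ∧
  (6 ≤ Fintype.card α →
    ∀ g : Perm α, (∀ x ∈ H, Perm.sign x = 1 → g * x * g⁻¹ ∈ H) → g ∈ H)

theorem GoodTwo.map {α γ : Type*} [Fintype α] [DecidableEq α] [Fintype γ] [DecidableEq γ]
    {H : Subgroup (Perm α)} (h : GoodTwo H) (e : α ≃ γ) :
    GoodTwo (H.map e.permCongrHom.toMonoidHom) := by
  obtain ⟨h1, h2, h3⟩ := h
  have hcard := Fintype.card_congr e
  refine ⟨?_, ?_, ?_⟩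
  · rw [← hcard, ← h1]
    exact Nat.card_congr (Subgroup.equivMapOfInjective H _ e.permCongrHom.injective).symm.toEquiv
  · intro g hg
    refine ⟨e.permCongrHom.symm g, h2 _ fun x hx => ?_, e.permCongrHom.apply_symm_apply g⟩
    obtain ⟨y, hy, hye⟩ := hg _ ⟨x, hx, rfl⟩
    have := congrArg e.permCongrHom.symm hye
    simp only [map_mul, map_inv, MulEquiv.coe_toMonoidHom, MulEquiv.symm_apply_apply] at this
    exact this ▸ hy
  · intro hc g hg
    refine ⟨e.permCongrHom.symm g, h3 (hcard ▸ hc) _ fun x hx hs => ?_,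
      e.permCongrHom.apply_symm_apply g⟩
    obtain ⟨y, hy, hye⟩ := hg _ ⟨x, hx, rfl⟩
      (by rw [MulEquiv.coe_toMonoidHom]; simpa [Equiv.permCongrHom] using hs)
    have := congrArg e.permCongrHom.symm hye
    simp only [map_mul, map_inv, MulEquiv.coe_toMonoidHom, MulEquiv.symm_apply_apply] at this
    exact this ▸ hy

theorem goodTwo_even {β : Type*} [Fintype β] [DecidableEq β] {K : Subgroup (Perm β)}
    (hK : GoodTwo K) : GoodTwo (wrSub K) := by
  have hcomm : ∀ x ∈ wrSub K, Commute x wrFlip := by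
    rintro _ ⟨b, s, _, rfl⟩; exact wrPerm_commute_wrFlip b s
  refine ⟨?_, fun g hg => mem_wrSub_of_normalizes hK.2.1 hg hcomm, fun hc g hg => ?_⟩
  · haveI : Fact (Nat.Prime 2) := ⟨Nat.prime_two⟩
    rw [card_wrSub, hK.1, Fintype.card_prod, Fintype.card_bool, Nat.card_eq_fintype_card,
      Nat.mul_comm (Fintype.card β) 2, padicValNat_factorial_mul, ← pow_add, add_comm]
  · refine mem_wrSub_of_normalizes_even ?_ hK.2.1 hg hcomm
    rw [Fintype.card_prod, Fintype.card_bool] at hc; omega

/-- `Equiv.optionCongr` as a homomorphism. -/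
def optionHom (α : Type*) : Perm α →* Perm (Option α) where
  toFun e := e.optionCongr
  map_one' := by ext x; cases x <;> simp
  map_mul' e f := by ext x; cases x <;> simp

theorem optionHom_some {α : Type*} (e : Perm α) (x : α) :
    optionHom α e (some x) = some (e x) := rfl

theorem optionHom_none {α : Type*} (e : Perm α) : optionHom α e none = none := rfl

theorem optionHom_injective (α : Type*) : Function.Injective (optionHom α) := by
  intro e f h; ext x
  simpa [optionHom_some] using Equiv.ext_iff.1 h (some x)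

theorem goodTwo_odd {β : Type*} [Fintype β] [DecidableEq β] {K : Subgroup (Perm β)}
    (hK : GoodTwo K) : GoodTwo ((wrSub K).map (optionHom (β × Bool))) := by
  have hE := goodTwo_even hK
  set H := wrSub K with hH
  have hf := optionHom_injective (β × Bool)
  have key : ∀ g : Perm (Option (β × Bool)), ∀ S : Set (Perm (β × Bool)),
      (∀ a, ∃ x ∈ S, x a ≠ a) →
      (∀ x ∈ S, g * optionHom _ x * g⁻¹ ∈ H.map (optionHom _)) →
      ∃ g', optionHom (β × Bool) g' = g := by
    intro g S hS h
    have hn : g none = none := by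
      cases hg : g⁻¹ none with
      | none =>
        have := congrArg g hg
        simpa using this.symm
      | some a =>
        obtain ⟨x, hx, hxa⟩ := hS a
        obtain ⟨y, _, hy⟩ := h x hx
        have := Equiv.ext_iff.1 hy none
        rw [Perm.mul_apply, Perm.mul_apply, hg, optionHom_none, optionHom_some] at this
        have h2 := congrArg (⇑g⁻¹) this
        rw [hg] at h2
        simp at h2
        exact absurd h2.symm hxa
    refine ⟨g.removeNone, ?_⟩
    show (Equiv.removeNone g).optionCongr = g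
    rw [map_equiv_removeNone, hn, Equiv.swap_self]
    exact one_mul g
  refine ⟨?_, ?_, ?_⟩
  · haveI : Fact (Nat.Prime 2) := ⟨Nat.prime_two⟩
    rw [Nat.card_congr (Subgroup.equivMapOfInjective H _ hf).symm.toEquiv, hE.1,
      Fintype.card_option, Fintype.card_prod, Fintype.card_bool,
      Nat.mul_comm (Fintype.card β) 2, padicValNat_factorial_mul,
      padicValNat_factorial_mul_add _ (by norm_num : (1 : ℕ) < 2), padicValNat_factorial_mul]
  · intro g hg
    obtain ⟨g', rfl⟩ := key g H (fun a => ⟨_, swapPair_mem K a.1, by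
        obtain ⟨i, e⟩ := a
        rw [swapPair_apply_self]; simp⟩) (fun x hx => hg _ ⟨x, hx, rfl⟩)
    refine ⟨g', hE.2.1 g' fun x hx => ?_, rfl⟩
    have := hg _ ⟨x, hx, rfl⟩
    rw [← map_inv, ← map_mul, ← map_mul] at this
    exact (Subgroup.mem_map_iff_mem hf).1 this
  · intro hc g hg
    rw [Fintype.card_option, Fintype.card_prod, Fintype.card_bool] at hc
    have hsign : ∀ x : Perm (β × Bool), Perm.sign (optionHom _ x) = Perm.sign x :=
      fun x => Equiv.optionCongr_sign x
    obtain ⟨g', rfl⟩ := key g {x | x ∈ H ∧ Perm.sign x = 1} (fun a => by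
        obtain ⟨i, e⟩ := a
        obtain ⟨j, hj⟩ := Fintype.exists_ne_of_one_lt_card (α := β) (by omega) i
        refine ⟨Equiv.swap (i, false) (i, true) * Equiv.swap (j, false) (j, true),
          ⟨mul_mem (swapPair_mem K i) (swapPair_mem K j), ?_⟩, ?_⟩
        · rw [map_mul, Perm.sign_swap (by simp), Perm.sign_swap (by simp)]; simp
        · rw [Perm.mul_apply, swapPair_apply_ne (i := j) (Ne.symm hj), swapPair_apply_self]; simp)
      (fun x hx => hg _ ⟨x, hx.1, rfl⟩ (by rw [hsign]; exact hx.2))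
    refine ⟨g', hE.2.2 ?_ g' fun x hx hs => ?_, rfl⟩
    · rw [Fintype.card_prod, Fintype.card_bool]; omega
    · have := hg _ ⟨x, hx, rfl⟩ (by rw [hsign]; exact hs)
      rw [← map_inv, ← map_mul, ← map_mul] at this
      exact (Subgroup.mem_map_iff_mem hf).1 this

theorem exists_goodTwo (n : ℕ) :
    ∀ (α : Type*) [Fintype α] [DecidableEq α], Fintype.card α = n →
      ∃ H : Subgroup (Perm α), GoodTwo H := by
  induction n using Nat.strong_induction_on with
  | _ n ih =>
    intro α _ _ hn
    rcases Nat.lt_or_ge n 2 with h | h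
    · haveI : Subsingleton α := Fintype.card_le_one_iff_subsingleton.1 (by omega)
      refine ⟨⊤, ?_, fun g _ => Subgroup.mem_top g, fun _ g _ => Subgroup.mem_top g⟩
      rw [hn, Nat.factorial_eq_one.2 (by omega)]
      simp [Nat.card_unique]
    · obtain ⟨K0, hK0⟩ := ih (n / 2) (by omega) (ULift (Fin (n / 2))) (by simp)
      rcases Nat.mod_two_eq_zero_or_one n with he | he
      · exact ⟨_, (goodTwo_even hK0).map
          (Fintype.equivOfCardEq (by simp; omega) : ULift (Fin (n / 2)) × Bool ≃ α)⟩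
      · exact ⟨_, (goodTwo_odd hK0).map
          (Fintype.equivOfCardEq (by simp; omega) : Option (ULift (Fin (n / 2)) × Bool) ≃ α)⟩

end Induction

section Main

variable {α : Type*} [Fintype α] [DecidableEq α]

/-- Every Sylow 2-subgroup of `Sym α` is good. -/
theorem goodTwo_sylow (T : Sylow 2 (Perm α)) : GoodTwo (T : Subgroup (Perm α)) := by
  haveI : Fact (Nat.Prime 2) := ⟨Nat.prime_two⟩
  obtain ⟨H, hH⟩ := exists_goodTwo (Fintype.card α) α rfl
  have hc : Nat.card H = 2 ^ (Nat.card (Perm α)).factorization 2 := by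
    rw [hH.1, Nat.card_perm, Nat.card_eq_fintype_card, Nat.factorization_def _ Nat.prime_two]
  obtain ⟨c, hc'⟩ := MulAction.exists_smul_eq (Perm α) (Sylow.ofCard H hc) T
  have hmem : ∀ x, x ∈ T ↔ c⁻¹ * x * c ∈ H := by
    intro x
    rw [← hc', Sylow.smul_def]
    change x ∈ MulAut.conj c • H ↔ _
    rw [Subgroup.mem_pointwise_smul_iff_inv_smul_mem]
    simp
  refine ⟨?_, ?_, ?_⟩
  · rw [T.card_eq_multiplicity, ← hc]; exact hH.1
  · intro g hg
    change g ∈ T
    rw [hmem]
    refine hH.2.1 _ fun x hx => ?_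
    have := (hmem _).1 (hg (c * x * c⁻¹) ((hmem _).2 (by simpa [mul_assoc] using hx)))
    simpa [mul_assoc] using this
  · intro h6 g hg
    change g ∈ T
    rw [hmem]
    refine hH.2.2 h6 _ fun x hx hs => ?_
    have := (hmem _).1 (hg (c * x * c⁻¹) ((hmem _).2 (by simpa [mul_assoc] using hx))
      (by simp [map_mul, map_inv, hs]))
    simpa [mul_assoc] using this

/-- A Sylow 2-subgroup of `Sym α` is self-normalising. -/
theorem sylowTwo_perm_normalizer (T : Sylow 2 (Perm α)) :
    Subgroup.normalizer ((T : Subgroup (Perm α)) : Set (Perm α)) = T := by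
  refine le_antisymm (fun g hg => (goodTwo_sylow T).2.1 g fun x hx => ?_) Subgroup.le_normalizer
  exact (Subgroup.mem_normalizer_iff.1 hg x).1 hx

/-- A Sylow 2-subgroup of an alternating group is the even part of one of the symmetric group. -/
theorem exists_sylowTwo_perm (P : Sylow 2 (alternatingGroup α)) :
    ∃ T : Sylow 2 (Perm α), ∀ x : alternatingGroup α, x ∈ P ↔ (x : Perm α) ∈ T := by
  obtain ⟨T, hT⟩ := IsPGroup.exists_le_sylow (P.isPGroup'.map (alternatingGroup α).subtype)
  refine ⟨T, fun x => ⟨fun hx => hT ⟨x, hx, rfl⟩, fun hx => ?_⟩⟩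
  have h2 : IsPGroup 2 ((T : Subgroup (Perm α)).comap (alternatingGroup α).subtype) :=
    T.isPGroup'.comap_of_injective _ (alternatingGroup α).subtype_injective
  have : (T : Subgroup (Perm α)).comap (alternatingGroup α).subtype = P :=
    P.is_maximal' h2 (fun y hy => hT ⟨y, hy, rfl⟩)
  exact (SetLike.ext_iff.1 this x).1 hx

/-- For at least six points a Sylow 2-subgroup of the alternating group is self-normalising. -/
theorem sylowTwo_alternating_normalizer (h6 : 6 ≤ Fintype.card α)
    (P : Sylow 2 (alternatingGroup α)) :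
    Subgroup.normalizer ((P : Subgroup (alternatingGroup α)) : Set (alternatingGroup α)) = P := by
  refine le_antisymm (fun g hg => ?_) Subgroup.le_normalizer
  obtain ⟨T, hT⟩ := exists_sylowTwo_perm P
  refine (hT g).2 ((goodTwo_sylow T).2.2 h6 _ fun x hx hs => ?_)
  have := (hT _).1 ((Subgroup.mem_normalizer_iff.1 hg ⟨x, Perm.mem_alternatingGroup.2 hs⟩).1
    ((hT _).2 hx))
  exact this

end Main

end CfsgLib.OutAut
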