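/-
Orbit structure of Sylow 2-subgroups of symmetric groups.
-/
import Mathlib
import Cfsg.Agent.Lib.OutAut.SymSylow

set_option autoImplicit false

namespace CfsgLib.OutAut

open Equiv
open scoped Pointwise

section Flip

variable {α γ : Type*} [DecidableEq α] [DecidableEq γ]

/-- `H` centralises an involution `z` with at most one fixed point (which `H` fixes) and contains
every transposition `(x, z x)`. -/
def HasFlip (H : Subgroup (Perm α)) : Prop :=
  ∃ z : Perm α, (∀ x, z (z x) = x) ∧ (∀ t ∈ H, ∀ x, t (z x) = z (t x)) ∧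
    (∀ x, Equiv.swap x (z x) ∈ H) ∧
    ((∀ x, z x ≠ x) ∨ ∃ p, (∀ x, z x = x ↔ x = p) ∧ ∀ t ∈ H, t p = p)

/-- `H` is transitive and permutes two halves `B`, `Bᶜ`. -/
def HasHalves [Finite α] (H : Subgroup (Perm α)) : Prop :=
  (∀ x y : α, ∃ t ∈ H, t x = y) ∧
  (2 ≤ Nat.card α → ∃ B : Set α, 2 * B.ncard = Nat.card α ∧
    ∀ t ∈ H, (∀ x, t x ∈ B ↔ x ∈ B) ∨ (∀ x, t x ∈ B ↔ x ∉ B))

/-- `H` fixes a point and is transitive on the others. -/
def HasPointTrans (H : Subgroup (Perm α)) : Prop :=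
  ∃ p : α, (∀ t ∈ H, t p = p) ∧ ∀ x y : α, x ≠ p → y ≠ p → ∃ t ∈ H, t x = y

theorem permCongrHom_apply_apply (e : α ≃ γ) (t : Perm α) (x : α) :
    e.permCongrHom t (e x) = e (t x) := by
  simp [Equiv.permCongrHom]

theorem HasFlip.map {H : Subgroup (Perm α)} (h : HasFlip H) (e : α ≃ γ) :
    HasFlip (H.map e.permCongrHom.toMonoidHom) := by
  obtain ⟨z, h1, h2, h3, h4⟩ := h
  refine ⟨e.permCongrHom z, fun x => ?_, ?_, fun x => ?_, ?_⟩
  · obtain ⟨a, rfl⟩ := e.surjective x
    rw [permCongrHom_apply_apply, permCongrHom_apply_apply, h1]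
  · rintro _ ⟨t, ht, rfl⟩ x
    obtain ⟨a, rfl⟩ := e.surjective x
    simp only [MulEquiv.coe_toMonoidHom, permCongrHom_apply_apply, h2 t ht]
  · obtain ⟨a, rfl⟩ := e.surjective x
    refine ⟨_, h3 a, ?_⟩
    rw [permCongrHom_apply_apply, MulEquiv.coe_toMonoidHom]
    apply Equiv.ext; intro y
    obtain ⟨b, rfl⟩ := e.surjective y
    rw [permCongrHom_apply_apply, e.injective.swap_apply]
  · rcases h4 with h4 | ⟨p, hp, hp'⟩
    · left
      intro x
      obtain ⟨a, rfl⟩ := e.surjective x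
      rw [permCongrHom_apply_apply]
      exact fun hh => h4 a (e.injective hh)
    · refine Or.inr ⟨e p, fun x => ?_, ?_⟩
      · obtain ⟨a, rfl⟩ := e.surjective x
        rw [permCongrHom_apply_apply, e.injective.eq_iff, e.injective.eq_iff, hp]
      · rintro _ ⟨t, ht, rfl⟩
        simp only [MulEquiv.coe_toMonoidHom, permCongrHom_apply_apply, hp' t ht]

theorem HasHalves.map [Finite α] [Finite γ] {H : Subgroup (Perm α)} (h : HasHalves H) (e : α ≃ γ) :
    HasHalves (H.map e.permCongrHom.toMonoidHom) := by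
  obtain ⟨h1, h2⟩ := h
  refine ⟨fun x y => ?_, fun hc => ?_⟩
  · obtain ⟨t, ht, htxy⟩ := h1 (e.symm x) (e.symm y)
    refine ⟨_, ⟨t, ht, rfl⟩, ?_⟩
    have := permCongrHom_apply_apply e t (e.symm x)
    rw [e.apply_symm_apply, htxy, e.apply_symm_apply] at this
    exact this
  · rw [← Nat.card_congr e] at hc ⊢
    obtain ⟨B, hB, hB'⟩ := h2 hc
    refine ⟨e '' B, by rw [Set.ncard_image_of_injective _ e.injective, hB], ?_⟩
    rintro _ ⟨t, ht, rfl⟩
    refine (hB' t ht).imp (fun h x => ?_) (fun h x => ?_) <;>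
    · obtain ⟨a, rfl⟩ := e.surjective x
      simp only [MulEquiv.coe_toMonoidHom, permCongrHom_apply_apply,
        e.injective.mem_set_image, h a]

theorem HasPointTrans.map {H : Subgroup (Perm α)} (h : HasPointTrans H) (e : α ≃ γ) :
    HasPointTrans (H.map e.permCongrHom.toMonoidHom) := by
  obtain ⟨p, h1, h2⟩ := h
  refine ⟨e p, ?_, fun x y hx hy => ?_⟩
  · rintro _ ⟨t, ht, rfl⟩
    simp only [MulEquiv.coe_toMonoidHom, permCongrHom_apply_apply, h1 t ht]
  · obtain ⟨a, rfl⟩ := e.surjective x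
    obtain ⟨b, rfl⟩ := e.surjective y
    obtain ⟨t, ht, htab⟩ := h2 a b (fun h => hx (by rw [h])) (fun h => hy (by rw [h]))
    exact ⟨_, ⟨t, ht, rfl⟩, by rw [MulEquiv.coe_toMonoidHom, permCongrHom_apply_apply, htab]⟩

end Flip

section Transfer

variable {α : Type*} [Fintype α] [DecidableEq α]

/-- A subgroup of Sylow order is conjugate to a given Sylow subgroup. -/
theorem exists_conj_eq_sylow (T : Sylow 2 (Perm α)) (H : Subgroup (Perm α)) (hH : GoodTwo H) :
    ∃ c : α ≃ α, (T : Subgroup (Perm α)) = H.map c.permCongrHom.toMonoidHom := by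
  haveI : Fact (Nat.Prime 2) := ⟨Nat.prime_two⟩
  have hc : Nat.card H = 2 ^ (Nat.card (Perm α)).factorization 2 := by
    rw [hH.1, Nat.card_perm, Nat.card_eq_fintype_card, Nat.factorization_def _ Nat.prime_two]
  obtain ⟨c, hc'⟩ := MulAction.exists_smul_eq (Perm α) (Sylow.ofCard H hc) T
  refine ⟨c, ?_⟩
  rw [← hc', Sylow.coe_subgroup_smul, Subgroup.pointwise_smul_def]
  congr 1

theorem hasFlip_wrSub {β : Type*} [DecidableEq β] (K : Subgroup (Perm β)) :
    HasFlip (wrSub K) := by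
  refine ⟨wrFlip, fun x => by simp [wrFlip_apply], ?_, fun x => ?_, Or.inl fun x => ?_⟩
  · rintro _ ⟨b, s, _, rfl⟩ x
    exact Equiv.ext_iff.1 (wrPerm_commute_wrFlip b s).eq x
  · obtain ⟨i, e⟩ := x
    rw [wrFlip_apply]
    cases e
    · exact swapPair_mem K i
    · rw [Bool.not_true, Equiv.swap_comm]; exact swapPair_mem K i
  · simp [wrFlip_apply, Prod.ext_iff]

theorem hasFlip_option {β : Type*} [DecidableEq β] (K : Subgroup (Perm β)) :
    HasFlip ((wrSub K).map (optionHom (β × Bool))) := by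
  have h4 : ∀ x : β × Bool, wrFlip x ≠ x := fun x => by simp [wrFlip_apply, Prod.ext_iff]
  have h1 : ∀ x : β × Bool, wrFlip (wrFlip x) = x := fun x => by simp [wrFlip_apply]
  have h2 : ∀ t ∈ wrSub K, ∀ x, t (wrFlip x) = wrFlip (t x) := by
    rintro _ ⟨b, s, _, rfl⟩ x
    exact Equiv.ext_iff.1 (wrPerm_commute_wrFlip b s).eq x
  have h3 : ∀ x, Equiv.swap x (wrFlip x) ∈ wrSub K := by
    rintro ⟨i, e⟩
    rw [wrFlip_apply]
    cases e
    · exact swapPair_mem K i
    · rw [Bool.not_true, Equiv.swap_comm]; exact swapPair_mem K i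
  refine ⟨optionHom _ wrFlip, fun x => ?_, ?_, fun x => ?_, Or.inr ⟨none, fun x => ?_, ?_⟩⟩
  · cases x <;> simp [optionHom_some, optionHom_none, h1]
  · rintro _ ⟨t, ht, rfl⟩ x
    cases x <;> simp [optionHom_some, optionHom_none, h2 t ht]
  · cases x with
    | none => rw [optionHom_none, Equiv.swap_self]; exact one_mem _
    | some a => exact ⟨_, h3 a, Equiv.optionCongr_swap _ _⟩
  · cases x <;> simp [optionHom_some, optionHom_none, h4]
  · rintro _ ⟨t, _, rfl⟩
    rfl

/-- Every Sylow 2-subgroup of a symmetric group has a flip. -/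
theorem hasFlip_sylow (T : Sylow 2 (Perm α)) : HasFlip (T : Subgroup (Perm α)) := by
  obtain ⟨K, hK⟩ := exists_goodTwo (Fintype.card α / 2) (ULift.{0} (Fin (Fintype.card α / 2))) (by simp)
  rcases Nat.mod_two_eq_zero_or_one (Fintype.card α) with he | he
  · let e : ULift.{0} (Fin (Fintype.card α / 2)) × Bool ≃ α := Fintype.equivOfCardEq (by simp; omega)
    obtain ⟨c, hc⟩ := exists_conj_eq_sylow T _ ((goodTwo_even hK).map e)
    rw [hc]
    exact ((hasFlip_wrSub K).map e).map c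
  · let e : Option (ULift.{0} (Fin (Fintype.card α / 2)) × Bool) ≃ α :=
      Fintype.equivOfCardEq (by simp; omega)
    obtain ⟨c, hc⟩ := exists_conj_eq_sylow T _ ((goodTwo_odd hK).map e)
    rw [hc]
    exact ((hasFlip_option K).map e).map c

theorem exists_goodTwo_halves (k : ℕ) :
    ∀ (α : Type*) [Fintype α] [DecidableEq α], Fintype.card α = 2 ^ k →
      ∃ H : Subgroup (Perm α), GoodTwo H ∧ HasHalves H := by
  induction k with
  | zero =>
    intro α _ _ hn
    obtain ⟨H, hH⟩ := exists_goodTwo _ α rfl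
    haveI : Subsingleton α := Fintype.card_le_one_iff_subsingleton.1 (by rw [hn]; norm_num)
    exact ⟨H, hH, fun x y => ⟨1, one_mem H, Subsingleton.elim _ _⟩,
      fun h => absurd h (by rw [Nat.card_eq_fintype_card, hn]; norm_num)⟩
  | succ k ih =>
    intro α _ _ hn
    obtain ⟨K, hK, hK1, hK2⟩ := ih (ULift (Fin (2 ^ k))) (by simp)
    let e : ULift (Fin (2 ^ k)) × Bool ≃ α :=
      Fintype.equivOfCardEq (by simp [hn, pow_succ])
    refine ⟨_, (goodTwo_even hK).map e, HasHalves.map ?_ e⟩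
    refine ⟨fun x y => ?_, fun _ => ?_⟩
    · obtain ⟨s, hs, hsx⟩ := hK1 x.1 y.1
      refine ⟨wrPerm (fun _ => xor x.2 y.2) s, ⟨_, s, hs, rfl⟩, ?_⟩
      apply Prod.ext
      · simpa using hsx
      · cases hx : x.2 <;> cases hy : y.2 <;> simp [hx, hy]
    · rcases Nat.eq_zero_or_pos k with rfl | hk
      · refine ⟨{p | p.2 = false}, ?_, ?_⟩
        · rw [show ({p : ULift (Fin (2 ^ 0)) × Bool | p.2 = false}) = {(⟨0⟩, false)} by
            ext ⟨⟨i⟩, e⟩; simp [Fin.fin_one_eq_zero i] ]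
          simp
        · rintro _ ⟨b, s, _, rfl⟩
          cases hb : b ⟨0⟩
          · left; rintro ⟨⟨i⟩, e⟩; simp [Fin.fin_one_eq_zero i, hb]
          · right; rintro ⟨⟨i⟩, e⟩; simp [Fin.fin_one_eq_zero i, hb]
      · obtain ⟨B, hB, hB'⟩ := hK2 (by
          rw [Nat.card_eq_fintype_card, Fintype.card_ulift, Fintype.card_fin]
          exact Nat.one_lt_two_pow hk.ne')
        refine ⟨{p | p.1 ∈ B}, ?_, ?_⟩
        · rw [show ({p : ULift (Fin (2 ^ k)) × Bool | p.1 ∈ B}) = B ×ˢ (Set.univ : Set Bool) by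
            ext p; simp, Set.ncard_prod, Set.ncard_univ]
          rw [Nat.card_prod, ← hB]; ring
        · rintro _ ⟨b, s, hs, rfl⟩
          exact (hB' s hs).imp (fun h p => by simpa using h p.1) (fun h p => by simpa using h p.1)

/-- For a 2-power degree a Sylow 2-subgroup is transitive and has halves. -/
theorem hasHalves_sylow {k : ℕ} (hk : Fintype.card α = 2 ^ k) (T : Sylow 2 (Perm α)) :
    HasHalves (T : Subgroup (Perm α)) := by
  obtain ⟨H, hH, hH'⟩ := exists_goodTwo_halves k α hk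
  obtain ⟨c, hc⟩ := exists_conj_eq_sylow T H hH
  rw [hc]
  exact hH'.map c

/-- In degree `2 ^ (k + 1) + 1` a Sylow 2-subgroup fixes a point and is transitive on the rest. -/
theorem hasPointTrans_sylow {k : ℕ} (hk : Fintype.card α = 2 ^ (k + 1) + 1)
    (T : Sylow 2 (Perm α)) : HasPointTrans (T : Subgroup (Perm α)) := by
  obtain ⟨K, hK, hK1, -⟩ := exists_goodTwo_halves k (ULift.{0} (Fin (2 ^ k))) (by simp)
  let e : Option (ULift.{0} (Fin (2 ^ k)) × Bool) ≃ α :=
    Fintype.equivOfCardEq (by simp [hk, pow_succ])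
  obtain ⟨c, hc⟩ := exists_conj_eq_sylow T _ ((goodTwo_odd hK).map e)
  rw [hc]
  refine (HasPointTrans.map ?_ e).map c
  refine ⟨none, ?_, ?_⟩
  · rintro _ ⟨t, _, rfl⟩; rfl
  · rintro (_ | x) (_ | y) hx hy
    · exact absurd rfl hx
    · exact absurd rfl hx
    · exact absurd rfl hy
    · obtain ⟨s, hs, hsx⟩ := hK1 x.1 y.1
      refine ⟨_, ⟨wrPerm (fun _ => xor x.2 y.2) s, ⟨_, s, hs, rfl⟩, rfl⟩, ?_⟩
      rw [optionHom_some]
      congr 1
      apply Prod.ext
      · simpa using hsx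
      · cases hx : x.2 <;> cases hy : y.2 <;> simp [hx, hy]

end Transfer

end CfsgLib.OutAut
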